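import Groth.Agent.Lib.Hensel.FiniteEtaleLift
import Groth.Agent.Lib.Hensel.Properties
import Mathlib.RingTheory.Flat.FaithfullyFlat.Algebra
import Mathlib.RingTheory.Smooth.Flat

/-!
Lifting faithfully flat etale algebras along nilpotent thickenings.
-/

universe u

set_option linter.style.haveILetI false

open TensorProduct

namespace GrothLib.MultLocal

variable {S S₀ : Type u} [CommRing S] [CommRing S₀] [Algebra S S₀]

theorem comap_surjective_of_lift (hs : Function.Surjective (algebraMap S S₀))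
    (hnil : ∀ a ∈ RingHom.ker (algebraMap S S₀), IsNilpotent a)
    {E₀ : Type u} [CommRing E₀] [Algebra S₀ E₀] [Algebra S E₀] [IsScalarTower S S₀ E₀] [Module.FaithfullyFlat S₀ E₀]
    {T : Type u} [CommRing T] [Algebra S T] (g : T →ₐ[S] E₀) :
    Function.Surjective (PrimeSpectrum.comap (algebraMap S T)) := by
  intro p
  obtain ⟨p₀, hp₀⟩ : ∃ p₀ : PrimeSpectrum S₀, PrimeSpectrum.comap (algebraMap S S₀) p₀ = p := by
    have h : p ∈ Set.range (PrimeSpectrum.comap (algebraMap S S₀)) := by
      rw [range_comap_of_surjective _ _ hs, PrimeSpectrum.mem_zeroLocus]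
      intro a ha
      exact nilpotent_iff_mem_prime.mp (hnil a ha) _ p.isPrime
    exact h
  obtain ⟨y, hy⟩ := PrimeSpectrum.comap_surjective_of_faithfullyFlat (B := E₀) p₀
  refine ⟨PrimeSpectrum.comap g.toRingHom y, ?_⟩
  rw [← hp₀, ← hy, ← PrimeSpectrum.comap_comp_apply, ← PrimeSpectrum.comap_comp_apply]
  refine congrArg (fun φ => PrimeSpectrum.comap φ y) (RingHom.ext fun s => ?_)
  exact (g.commutes s).trans (IsScalarTower.algebraMap_apply S S₀ E₀ s)

/-- Faithfully flat etale algebras lift along nilpotent thickenings. -/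
theorem exists_etale_ff_lift (hs : Function.Surjective (algebraMap S S₀))
    (hnil : ∀ a ∈ RingHom.ker (algebraMap S S₀), IsNilpotent a)
    (E₀ : Type u) [CommRing E₀] [Algebra S₀ E₀] [Algebra S E₀] [IsScalarTower S S₀ E₀] [Algebra.Etale S₀ E₀]
    [Module.FaithfullyFlat S₀ E₀] :
    ∃ (T : Type u) (_ : CommRing T) (_ : Algebra S T) (g : T →ₐ[S] E₀), Algebra.Etale S T ∧
      Module.FaithfullyFlat S T ∧ Function.Surjective g ∧ ∀ a ∈ RingHom.ker (g : T →+* E₀), IsNilpotent a := by
  let J := RingHom.ker (algebraMap S S₀)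
  let e : (S ⧸ J) ≃+* S₀ := RingHom.quotientKerEquivOfSurjective hs
  letI : Algebra (S ⧸ J) E₀ := ((algebraMap S₀ E₀).comp e.toRingHom).toAlgebra
  haveI : IsScalarTower S (S ⧸ J) E₀ := IsScalarTower.of_algebraMap_eq fun s =>
    IsScalarTower.algebraMap_apply S S₀ E₀ s
  haveI : Algebra.Etale (S ⧸ J) E₀ := RingHom.etale_algebraMap.mp
    (RingHom.Etale.stableUnderComposition e.toRingHom (algebraMap S₀ E₀) (RingHom.Etale.of_bijective e.bijective) (RingHom.etale_algebraMap.mpr ‹Algebra.Etale S₀ E₀›))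
  obtain ⟨T, _, _, g, hT, hg, hker⟩ := GrothLib.Hensel.exists_etale_lift J E₀
  refine ⟨T, inferInstance, inferInstance, g, hT,
    Module.FaithfullyFlat.of_comap_surjective (comap_surjective_of_lift hs hnil g), hg, fun a ha => ?_⟩
  have hle : J.map (algebraMap S T) ≤ nilradical T := Ideal.map_le_iff_le_comap.mpr fun x hx =>
    Ideal.mem_comap.mpr (mem_nilradical.mpr ((hnil x hx).map _))
  exact mem_nilradical.mp (hle (hker ▸ ha))

/-- Faithfully flat etale algebras lift along nilpotent thickenings, with control of the kernel. -/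
theorem exists_etale_ff_lift_map (hs : Function.Surjective (algebraMap S S₀))
    (hnil : IsNilpotent (RingHom.ker (algebraMap S S₀)))
    (E₀ : Type u) [CommRing E₀] [Algebra S₀ E₀] [Algebra S E₀] [IsScalarTower S S₀ E₀] [Algebra.Etale S₀ E₀]
    [Module.FaithfullyFlat S₀ E₀] :
    ∃ (T : Type u) (_ : CommRing T) (_ : Algebra S T) (g : T →ₐ[S] E₀), Algebra.Etale S T ∧
      Module.FaithfullyFlat S T ∧ Function.Surjective g ∧ IsNilpotent (RingHom.ker (g : T →+* E₀)) := by
  let J := RingHom.ker (algebraMap S S₀)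
  let e : (S ⧸ J) ≃+* S₀ := RingHom.quotientKerEquivOfSurjective hs
  letI : Algebra (S ⧸ J) E₀ := ((algebraMap S₀ E₀).comp e.toRingHom).toAlgebra
  haveI : IsScalarTower S (S ⧸ J) E₀ := IsScalarTower.of_algebraMap_eq fun s =>
    IsScalarTower.algebraMap_apply S S₀ E₀ s
  haveI : Algebra.Etale (S ⧸ J) E₀ := RingHom.etale_algebraMap.mp
    (RingHom.Etale.stableUnderComposition e.toRingHom (algebraMap S₀ E₀) (RingHom.Etale.of_bijective e.bijective) (RingHom.etale_algebraMap.mpr ‹Algebra.Etale S₀ E₀›))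
  obtain ⟨T, _, _, g, hT, hg, hker⟩ := GrothLib.Hensel.exists_etale_lift J E₀
  obtain ⟨n, hn⟩ := hnil
  have hnil' : ∀ a ∈ RingHom.ker (algebraMap S S₀), IsNilpotent a := fun a ha => ⟨n, by
    have h := Ideal.pow_mem_pow ha n
    rwa [hn] at h⟩
  refine ⟨T, inferInstance, inferInstance, g, hT,
    Module.FaithfullyFlat.of_comap_surjective (comap_surjective_of_lift hs hnil' g), hg, n, ?_⟩
  rw [show RingHom.ker (g : T →+* E₀) = J.map (algebraMap S T) from hker, ← Ideal.map_pow, hn]
  exact Ideal.map_bot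

end GrothLib.MultLocal
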