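import Groth.Agent.Lib.MultLocal.Frame
import Groth.Agent.Lib.Dual.Points
import Mathlib.RingTheory.Etale.Basic
import Mathlib.RingTheory.Etale.Pi
import Mathlib.RingTheory.Etale.Descent
import Mathlib.LinearAlgebra.Determinant
import Mathlib.RingTheory.Localization.AtPrime.Basic

/-!
Etale neighbourhoods over which a finite bialgebra with a frame after base change gets a frame.
-/

universe u

set_option linter.style.haveILetI false

open TensorProduct MonoidAlgebra WithConv

namespace GrothLib.MultLocal

variable {R : Type u} [CommRing R] {C : Type u} [CommRing C] [Bialgebra R C] [Coalgebra.IsCocomm R C]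
  {ι : Type u} [Fintype ι] (b : Module.Basis ι R C) [Module.Finite R C] [Module.Projective R C]

theorem pairR_coefMap {T T' : Type u} [CommRing T] [CommRing T'] [Algebra R T] [Algebra R T'] (f : T →ₐ[R] T')
    (z : T ⊗[R] C) (φ : CartDual.D R C) :
    GrothLib.Dual.pairR (coefMap C f z) φ = f (GrothLib.Dual.pairR z φ) := by
  induction z using TensorProduct.induction_on with
  | zero => simp [GrothLib.Dual.pairR]
  | tmul t c => simp [GrothLib.Dual.pairR_tmul]
  | add x y hx hy => simp only [map_add, GrothLib.Dual.pairR_add, hx, hy]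

include b in
/-- The point of the dual algebra of a group-like element. -/
theorem exists_point {T : Type u} [CommRing T] [Algebra R T] (x : GroupLike T (T ⊗[R] C)) :
    ∃ h : CartDual.D R C →ₐ[R] T, ∀ φ, h φ = GrothLib.Dual.pairR x.val φ := by
  obtain ⟨e, he⟩ := GrothLib.Dual.exists_mulEquiv_groupLike b (R := T)
  exact ⟨(e x).ofConv, fun φ => he x φ⟩

include b in
/-- The group-like element of a point of the dual algebra. -/
theorem exists_groupLike {T : Type u} [CommRing T] [Algebra R T] (h : CartDual.D R C →ₐ[R] T) :
    ∃ x : GroupLike T (T ⊗[R] C), ∀ φ, GrothLib.Dual.pairR x.val φ = h φ := by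
  obtain ⟨e, he⟩ := GrothLib.Dual.exists_mulEquiv_groupLike b (R := T)
  exact ⟨e.symm (toConv h), fun φ => (he _ φ).symm.trans (by rw [e.apply_symm_apply])⟩

include b in
theorem groupLike_ext_pairR {T : Type u} [CommRing T] [Algebra R T] {x y : GroupLike T (T ⊗[R] C)}
    (h : ∀ φ, GrothLib.Dual.pairR x.val φ = GrothLib.Dual.pairR y.val φ) : x = y :=
  GroupLike.ext ((Algebra.TensorProduct.basis T b).ext_elem fun i => by
    rw [GrothLib.Dual.repr_eq_pairR, GrothLib.Dual.repr_eq_pairR, h])

variable {R' : Type u} [CommRing R'] [Algebra R R'] {Q : Type u} [CommGroup Q] [Finite Q]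

include b in
/-- The dual algebra of a finite bialgebra with a frame after faithfully flat base change is etale. -/
theorem etale_dual [Module.FaithfullyFlat R R'] {g : Q →* GroupLike R' (R' ⊗[R] C)} (hg : IsFrame g) :
    Algebra.Etale R (CartDual.D R C) := by
  classical
  cases nonempty_fintype Q
  choose h hh using fun q => exists_point b (g q)
  let Φ : R' ⊗[R] CartDual.D R C →ₐ[R'] (Q → R') :=
    Algebra.TensorProduct.lift (Algebra.ofId R' (Q → R')) (AlgHom.pi h) fun _ _ => Commute.all _ _
  let bC := Algebra.TensorProduct.basis R' b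
  let bD := Algebra.TensorProduct.basis R'
    ((b.dualBasis).map (CartDual.toDual R C).symm : Module.Basis ι R (CartDual.D R C))
  have hbD : ∀ i, bD i = (1 : R') ⊗ₜ toConv (b.coord i) := fun i => by
    simp [bD, Module.Basis.coe_dualBasis]
  let β : Module.Basis Q R' (R' ⊗[R] C) := (MonoidAlgebra.basis Q R').map hg.equiv.toLinearEquiv
  have hβ : ∀ q, β q = (g q).val := fun q => by
    simp only [β, Module.Basis.map_apply, MonoidAlgebra.basis_apply]
    change glHom g (single q 1) = _
    rw [glHom_single, one_smul]
  have hΦ : ∀ (x : ι → R') q, Φ (∑ i, x i • bD i) q = ∑ i, x i * bC.repr (g q).val i := by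
    intro x q
    rw [map_sum, Finset.sum_apply]
    refine Finset.sum_congr rfl fun i _ => ?_
    rw [map_smul, Pi.smul_apply, smul_eq_mul, hbD, Algebra.TensorProduct.lift_tmul, map_one, _root_.one_mul]
    change x i * h q (toConv (b.coord i)) = _
    rw [hh, ← GrothLib.Dual.repr_eq_pairR]
  have hbij : Function.Bijective Φ := by
    refine ⟨(injective_iff_map_eq_zero Φ).mpr fun y hy => ?_, fun v => ?_⟩
    · rw [← bD.sum_repr y] at hy ⊢
      have h0 : Fintype.linearCombination R' (fun i => bD.repr y i) ∘ₗ bC.equivFun.toLinearMap = 0 := by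
        refine β.ext fun q => ?_
        have := congrFun hy q
        rw [hΦ] at this
        rw [LinearMap.zero_apply, hβ, LinearMap.comp_apply, Fintype.linearCombination_apply]
        simpa [mul_comm] using this
      refine Finset.sum_eq_zero fun j _ => ?_
      have := LinearMap.congr_fun h0 (bC j)
      simp [LinearMap.comp_apply, Fintype.linearCombination_apply, Finsupp.single_apply] at this
      rw [this, zero_smul]
    · refine ⟨∑ i, (∑ q, v q * β.repr (bC i) q) • bD i, funext fun q' => ?_⟩
      rw [hΦ]
      have : ∀ q, ∑ i, bC.repr (g q').val i * β.repr (bC i) q = if q' = q then 1 else 0 := fun q => by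
        have h1 := congrArg (fun z => β.repr z q) (bC.sum_repr (g q').val)
        simp only [map_sum, map_smul, Finsupp.coe_finsetSum, Finsupp.coe_smul, Finset.sum_apply, Pi.smul_apply,
          smul_eq_mul] at h1
        rw [h1, ← hβ, β.repr_self, Finsupp.single_apply]
      simp_rw [Finset.sum_mul, mul_assoc, mul_comm (β.repr _ _)]
      rw [Finset.sum_comm]
      simp_rw [← Finset.mul_sum, this]
      simp
  haveI : Algebra.Etale R' (R' ⊗[R] CartDual.D R C) :=
    Algebra.Etale.of_equiv (AlgEquiv.ofBijective Φ hbij).symm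
  exact Algebra.Etale.of_etale_tensorProduct_of_faithfullyFlat R'

/-- Finitely many points of an etale algebra lift to one etale neighbourhood. -/
theorem exists_etale_lifts (D : Type u) [CommRing D] [Algebra R D] [Algebra.Etale R D] (K : Type u) [CommRing K]
    [Algebra R K] (k : ℕ) (h : Fin k → (D →ₐ[R] K)) :
    ∃ (E : Type u) (_ : CommRing E) (_ : Algebra R E) (ε : E →ₐ[R] K) (h' : Fin k → (D →ₐ[R] E)),
      Algebra.Etale R E ∧ ∀ i, ε.comp (h' i) = h i := by
  induction k with
  | zero => exact ⟨R, inferInstance, inferInstance, Algebra.ofId R K, finZeroElim, inferInstance, finZeroElim⟩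
  | succ k ih =>
    obtain ⟨E, _, _, ε, h', hE, hh'⟩ := ih (fun i => h i.castSucc)
    haveI : Algebra.Etale R (E ⊗[R] D) := Algebra.Etale.comp R E (E ⊗[R] D)
    refine ⟨E ⊗[R] D, inferInstance, inferInstance,
      Algebra.TensorProduct.lift ε (h (Fin.last k)) fun _ _ => Commute.all _ _,
      Fin.lastCases Algebra.TensorProduct.includeRight fun i => Algebra.TensorProduct.includeLeft.comp (h' i),
      inferInstance, fun i => ?_⟩
    induction i using Fin.lastCases with
    | last => simp only [Fin.lastCases_last]; exact AlgHom.ext fun x => by simp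
    | cast i =>
      simp only [Fin.lastCases_castSucc]
      refine AlgHom.ext fun x => ?_
      simp [← hh']

include b in
/-- Group-like elements over a local ring reducing to a frame form a frame. -/
theorem exists_frame_of_lift {L : Type u} [CommRing L] [IsLocalRing L] [Algebra R L] {K : Type u} [Field K]
    [Algebra R K] (εL : L →ₐ[R] K) (hεL : ∀ x, εL x ≠ 0 → IsUnit x)
    {gK : Q →* GroupLike K (K ⊗[R] C)} (hgK : IsFrame gK) (G : Q → GroupLike L (L ⊗[R] C))
    (hG : ∀ q, glMap C εL (G q) = gK q) :
    ∃ gL : Q →* GroupLike L (L ⊗[R] C), IsFrame gL := by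
  classical
  cases nonempty_fintype Q
  let bL := Algebra.TensorProduct.basis L b
  let bK := Algebra.TensorProduct.basis K b
  let βK : Module.Basis Q K (K ⊗[R] C) := (MonoidAlgebra.basis Q K).map hgK.equiv.toLinearEquiv
  have hβK : ∀ q, βK q = (gK q).val := fun q => by
    simp only [βK, Module.Basis.map_apply, MonoidAlgebra.basis_apply]
    change glHom gK (single q 1) = _
    rw [glHom_single, one_smul]
  let σ : ι ≃ Q := bK.indexEquiv βK
  let v : ι → L ⊗[R] C := fun i => (G (σ i)).val
  have hmat : (bL.toMatrix v).map εL = bK.toMatrix (βK.reindex σ.symm) := by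
    ext i j
    rw [Matrix.map_apply, Module.Basis.toMatrix_apply, Module.Basis.toMatrix_apply, GrothLib.Dual.repr_eq_pairR,
      GrothLib.Dual.repr_eq_pairR, Module.Basis.reindex_apply, Equiv.symm_symm, hβK, ← hG, glMap_val,
      pairR_coefMap]
  have hdet : IsUnit (bL.det v) := by
    rw [Module.Basis.det_apply]
    refine hεL _ ?_
    rw [AlgHom.map_det]
    change ((bL.toMatrix v).map εL).det ≠ 0
    rw [hmat, ← Module.Basis.det_apply]
    exact (bK.isUnit_det _).ne_zero
  obtain ⟨hli, hsp⟩ := (Module.Basis.is_basis_iff_det bL).mpr hdet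
  let β₀ : Module.Basis ι L (L ⊗[R] C) := Module.Basis.mk hli hsp.ge
  let β : Module.Basis Q L (L ⊗[R] C) := β₀.reindex σ
  have hβ : ∀ q, β q = (G q).val := fun q => by simp [β, β₀, v]
  have huniq : ∀ x : GroupLike L (L ⊗[R] C), ∃ r, x = G r := by
    intro x
    have hc : ∀ a c, β.repr x.val a * β.repr x.val c = if a = c then β.repr x.val a else 0 := by
      intro a c
      have h1 : ∀ y, (β.tensorProduct β).repr (Coalgebra.comul (R := L) y) (a, c) =
          if a = c then β.repr y a else 0 := by
        intro y
        conv_lhs => rw [← β.sum_repr y]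
        simp only [map_sum, map_smul, hβ, (G _).isGroupLikeElem_val.comul_eq_tmul_self, Finsupp.coe_finsetSum,
          Finsupp.coe_smul, Finset.sum_apply, Pi.smul_apply, Module.Basis.tensorProduct_repr_tmul_apply, smul_eq_mul]
        simp only [← hβ, Module.Basis.repr_self, Finsupp.single_apply, mul_ite, ite_mul, _root_.mul_one, zero_mul,
          MulZeroClass.mul_zero, Finset.sum_ite_eq', Finset.mem_univ, if_true]
      rw [← h1, x.isGroupLikeElem_val.comul_eq_tmul_self, Module.Basis.tensorProduct_repr_tmul_apply,
        smul_eq_mul, mul_comm]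
    have h01 : ∀ a, β.repr x.val a = 0 ∨ β.repr x.val a = 1 := fun a => by
      have he : β.repr x.val a * β.repr x.val a = β.repr x.val a := (hc a a).trans (if_pos rfl)
      rcases IsLocalRing.isUnit_or_isUnit_one_sub_self (β.repr x.val a) with h | h
      · exact Or.inr (h.mul_left_cancel (he.trans (_root_.mul_one _).symm))
      · refine Or.inl (h.mul_left_cancel ?_)
        rw [sub_mul, _root_.one_mul, he, sub_self, MulZeroClass.mul_zero]
    obtain ⟨r, hr⟩ : ∃ r, β.repr x.val r = 1 := by
      by_contra! h
      exact x.isGroupLikeElem_val.ne_zero (β.ext_elem fun a => by simpa using (h01 a).resolve_right (h a))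
    refine ⟨r, GroupLike.ext (β.ext_elem fun a => ?_)⟩
    rw [← hβ, β.repr_self, Finsupp.single_apply]
    split_ifs with hra
    · exact hra ▸ hr
    · have := hc r a
      rwa [hr, _root_.one_mul, if_neg hra] at this
  have hinj : ∀ x y : GroupLike L (L ⊗[R] C), glMap C εL x = glMap C εL y → x = y := by
    intro x y h
    obtain ⟨r, rfl⟩ := huniq x
    obtain ⟨s, rfl⟩ := huniq y
    rw [hG, hG] at h
    rw [hgK.injective h]
  let gL : Q →* GroupLike L (L ⊗[R] C) :=
    { toFun := G
      map_one' := hinj _ _ (by rw [hG, map_one, map_one])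
      map_mul' := fun p q => hinj _ _ (by rw [hG, map_mul, map_mul, hG, hG]) }
  refine ⟨gL, ?_⟩
  have heq : ∀ z, glHom gL z = (MonoidAlgebra.basis Q L).equiv β (Equiv.refl Q) z := by
    intro z
    induction z using MonoidAlgebra.induction_linear with
    | zero => simp
    | add x y hx hy => simp only [map_add, hx, hy]
    | single q r =>
      rw [glHom_single, show (single q r : MonoidAlgebra L Q) = r • single q 1 by simp, map_smul,
        ← MonoidAlgebra.basis_apply, Module.Basis.equiv_apply, Equiv.refl_apply, hβ]
      rfl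
  rw [IsFrame, show (glHom gL : MonoidAlgebra L Q → L ⊗[R] C) = _ from funext heq]
  exact LinearEquiv.bijective _

include b in
/-- An etale neighbourhood of a field point over which the bialgebra has a frame after localisation. -/
theorem exists_etale_frame [Module.FaithfullyFlat R R'] {g : Q →* GroupLike R' (R' ⊗[R] C)} (hg : IsFrame g)
    {K : Type u} [Field K] [Algebra R K] (f : R' →ₐ[R] K) :
    ∃ (E : Type u) (_ : CommRing E) (_ : Algebra R E) (ε : E →ₐ[R] K) (P : Ideal E) (_ : P.IsPrime),
      Algebra.Etale R E ∧ P = RingHom.ker ε ∧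
      ∃ gL : Q →* GroupLike (Localization.AtPrime P) (Localization.AtPrime P ⊗[R] C), IsFrame gL := by
  haveI := etale_dual b hg
  cases nonempty_fintype Q
  let e := Fintype.equivFin Q
  have hgK : IsFrame ((glMap C f).comp g) := hg.map f
  choose h hh using fun q => exists_point b (glMap C f (g q))
  obtain ⟨E, _, _, ε, h', hE, hh'⟩ := exists_etale_lifts (CartDual.D R C) K _ (fun i => h (e.symm i))
  haveI hP : (RingHom.ker ε).IsPrime := RingHom.ker_isPrime ε
  refine ⟨E, _, _, ε, RingHom.ker ε, hP, hE, rfl, ?_⟩
  let L := Localization.AtPrime (RingHom.ker ε)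
  have hu : ∀ y : (RingHom.ker ε).primeCompl, IsUnit (ε y) := fun y => isUnit_iff_ne_zero.mpr y.2
  let εL : L →ₐ[R] K := IsLocalization.liftAlgHom (f := ε) hu
  choose G hG using fun q => exists_groupLike b ((IsScalarTower.toAlgHom R E L).comp (h' (e q)))
  refine exists_frame_of_lift b εL (fun x hx => ?_) hgK G (fun q => groupLike_ext_pairR b fun φ => ?_)
  · obtain ⟨a, s, rfl⟩ := IsLocalization.exists_mk'_eq (RingHom.ker ε).primeCompl x
    rw [IsLocalization.AtPrime.isUnit_mk'_iff L (RingHom.ker ε)]
    intro ha
    apply hx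
    simp [εL, IsLocalization.liftAlgHom_apply, IsLocalization.lift_mk', RingHom.mem_ker.mp ha]
  · rw [glMap_val, pairR_coefMap, hG, MonoidHom.comp_apply, ← hh]
    have := DFunLike.congr_fun (hh' (e q)) φ
    rw [e.symm_apply_apply] at this
    rw [← this]
    simp [εL, IsLocalization.liftAlgHom_apply]
    exact IsLocalization.lift_eq _ _

end GrothLib.MultLocal
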