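import Groth.Agent.Lib.MultLocal.Descent
import Mathlib.RingTheory.Localization.Away.Basic
import Mathlib.RingTheory.Localization.BaseChange
import Mathlib.RingTheory.OrzechProperty
import Mathlib.RingTheory.Finiteness.Basic
import Mathlib.RingTheory.Noetherian.Orzech
import Mathlib.GroupTheory.Finiteness
import Mathlib.RingTheory.HopfAlgebra.TensorProduct

/-!
Spreading out a frame from a localisation at a prime to a basic open neighbourhood.
-/

universe u

set_option linter.style.haveILetI false

open TensorProduct MonoidAlgebra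

namespace GrothLib.MultLocal

section Inj

theorem injective_of_surjective_endo {M : Type u} [CommGroup M] [Group.FG M] (h : M →* M)
    (hs : Function.Surjective h) : Function.Injective h := by
  haveI : AddGroup.FG (Additive M) := GroupFG.iff_add_fg.mp inferInstance
  haveI : Module.Finite ℤ (Additive M) := Module.Finite.iff_addGroup_fg.mpr inferInstance
  exact OrzechProperty.injective_of_surjective_endomorphism (R := ℤ) h.toAdditive.toIntLinearMap hs

variable {T : Type u} [CommRing T] {B : Type u} [CommRing B] [Bialgebra T B] {M : Type u} [CommGroup M]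

theorem injective_glHom_of_surjective_of_local [IsLocalRing T] [Group.FG M] {g g' : M →* GroupLike T B}
    (hg : IsFrame g) (hs : Function.Surjective (glHom g')) : Function.Injective (glHom g') := by
  classical
  choose h hh using fun m => hg.surjective (g' m)
  let h' : M →* M :=
    { toFun := h
      map_one' := hg.injective (by rw [hh, map_one, map_one])
      map_mul' := fun a b => hg.injective (by rw [hh, map_mul, map_mul, hh, hh]) }
  have key : ∀ z, glHom g' z = glHom g (mapDomainBialgHom T h' z) := fun z => by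
    induction z using MonoidAlgebra.induction_linear with
    | zero => simp
    | add x y hx hy => simp only [map_add, hx, hy]
    | single m r =>
      rw [mapDomainBialgHom_single, glHom_single, glHom_single]
      exact congrArg (fun x => r • x) (congrArg GroupLike.val (hh m).symm)
  have hsurj : Function.Surjective h' := by
    intro m
    obtain ⟨z, hz⟩ := hs (glHom g (single m 1))
    rw [key] at hz
    by_contra hm
    push Not at hm
    have h2 := congrArg (fun x => x.coeff m) (hg.1 hz)
    simp only [coeff_single, Finsupp.single_eq_same] at h2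
    rw [show (mapDomainBialgHom T h' z).coeff m = (Finsupp.mapDomain h' z.coeff) m from rfl,
      Finsupp.mapDomain_notin_range _ _ (by rintro ⟨a, ha⟩; exact hm a ha)] at h2
    exact zero_ne_one h2
  intro x y hxy
  rw [key, key] at hxy
  exact MonoidAlgebra.mapDomain_injective (injective_of_surjective_endo h' hsurj) (hg.1 hxy)

variable {R : Type u} [CommRing R] {A : Type u} [CommRing A] [Bialgebra R A]
  {T : Type u} [CommRing T] [Algebra R T] {M : Type u} [CommGroup M]

theorem surjective_glHom_map {T' : Type u} [CommRing T'] [Algebra R T'] (f : T →ₐ[R] T')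
    {g : M →* GroupLike T (T ⊗[R] A)} (hs : Function.Surjective (glHom g)) :
    Function.Surjective (glHom ((glMap A f).comp g)) := by
  intro y
  induction y using TensorProduct.induction_on with
  | zero => exact ⟨0, map_zero _⟩
  | add x y hx hy =>
    obtain ⟨a, rfl⟩ := hx
    obtain ⟨b, rfl⟩ := hy
    exact ⟨a + b, map_add _ _ _⟩
  | tmul t a =>
    obtain ⟨z, hz⟩ := hs ((1 : T) ⊗ₜ a)
    refine ⟨t • mapRingHom M (f : T →+* T') z, ?_⟩
    rw [map_smul, glHom_glMap, hz, coefMap_tmul, map_one, smul_tmul', smul_eq_mul, _root_.mul_one]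

/-- A surjective family of group-like elements of a framed bialgebra is a frame. -/
theorem isFrame_of_surjective [Group.FG M] {g g' : M →* GroupLike T (T ⊗[R] A)} (hg : IsFrame g)
    (hs : Function.Surjective (glHom g')) : IsFrame g' := by
  refine ⟨(injective_iff_map_eq_zero _).mpr fun z hz => MonoidAlgebra.ext (Finsupp.ext fun m => ?_), hs⟩
  refine eq_zero_of_localization (z.coeff m) fun J hJ => ?_
  let j : T →ₐ[R] Localization.AtPrime J := IsScalarTower.toAlgHom R T _
  have h0 : mapRingHom M (j : T →+* Localization.AtPrime J) z = 0 := by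
    apply injective_glHom_of_surjective_of_local (hg.map j) (surjective_glHom_map j hs)
    rw [glHom_glMap, hz, map_zero, map_zero]
  have := congrArg (fun x => x.coeff m) h0
  simp [j] at this
  exact this

end Inj

section Spread

variable {R : Type u} [CommRing R] {A : Type u} [CommRing A] [HopfAlgebra R A] {M : Type u} [CommGroup M]

/-- Elements over a basic open vanishing at a prime vanish on a smaller one. -/
theorem exists_killer (P : Ideal R) [P.IsPrime] {f : R} (hf : f ∉ P) (z : Localization.Away f ⊗[R] A)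
    (φ : Localization.Away f →ₐ[R] Localization.AtPrime P) (hz : coefMap A φ z = 0) :
    ∃ u : R, u ∉ P ∧ ∀ (T : Type u) [CommRing T] [Algebra R T] (j : Localization.Away f →ₐ[R] T),
      IsUnit (algebraMap R T u) → coefMap A j z = 0 := by
  obtain ⟨⟨x, _, k, rfl⟩, hx⟩ := IsLocalizedModule.surj (Submonoid.powers f)
    (TensorProduct.mk R (Localization.Away f) A 1) z
  simp only [Submonoid.smul_def, TensorProduct.mk_apply] at hx
  have h1 : (1 : Localization.AtPrime P) ⊗ₜ[R] x = 0 := by
    have := congrArg (coefMap A φ) hx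
    rw [map_smul, hz, smul_zero, coefMap_tmul, map_one] at this
    exact this.symm
  obtain ⟨⟨u, hu⟩, hux⟩ := (IsLocalizedModule.eq_zero_iff P.primeCompl
    (TensorProduct.mk R (Localization.AtPrime P) A 1)).mp h1
  simp only [Submonoid.smul_def] at hux
  refine ⟨u, hu, fun T _ _ j hju => ?_⟩
  have hfu : IsUnit (algebraMap R T (f ^ k)) := by
    rw [← j.commutes]
    exact (IsLocalization.map_units (Localization.Away f) (⟨f ^ k, k, rfl⟩ : Submonoid.powers f)).map j
  apply (hju.mul hfu).smul_left_cancel.mp
  rw [smul_zero, ← map_mul, algebraMap_smul, ← map_smul, mul_smul, hx, map_smul, coefMap_tmul, map_one,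
    ← tmul_smul, hux, tmul_zero]

/-- The presentation data of a group-like element at a prime. -/
theorem exists_data (P : Ideal R) [P.IsPrime]
    (x : GroupLike (Localization.AtPrime P) (Localization.AtPrime P ⊗[R] A)) :
    ∃ (a : A) (s t : R), s ∉ P ∧ t ∉ P ∧ ∀ (T : Type u) [CommRing T] [Algebra R T],
      IsUnit (algebraMap R T s) → IsUnit (algebraMap R T t) →
        ∃ y : GroupLike T (T ⊗[R] A), algebraMap R T s • y.val = (1 : T) ⊗ₜ a ∧
          ∀ φ : T →ₐ[R] Localization.AtPrime P, glMap A φ y = x := by
  set L := Localization.AtPrime P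
  obtain ⟨⟨a, ⟨s, hs⟩⟩, hax⟩ := IsLocalizedModule.surj P.primeCompl (TensorProduct.mk R L A 1) x.val
  simp only [Submonoid.smul_def, TensorProduct.mk_apply] at hax
  have hsL : IsUnit (algebraMap R L s) := IsLocalization.map_units L (⟨s, hs⟩ : P.primeCompl)
  -- the counit condition
  have hc : algebraMap R L (Coalgebra.counit a - s) = 0 := by
    have := congrArg (Coalgebra.counit (R := L)) hax
    rw [← algebraMap_smul L s x.val, map_smul, x.isGroupLikeElem_val.counit_eq_one, TensorProduct.counit_tmul] at this
    simp only [CommSemiring.counit_apply, Algebra.smul_def, _root_.mul_one, smul_eq_mul] at this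
    rw [map_sub, sub_eq_zero]
    exact this.symm
  -- the comultiplication condition
  have hz : (1 : L) ⊗ₜ[R] (s • Coalgebra.comul (R := R) a - a ⊗ₜ[R] a) = 0 := by
    have h1 : Coalgebra.comul (R := L) ((1 : L) ⊗ₜ[R] a) = algebraMap R L s • (x.val ⊗ₜ[L] x.val) := by
      rw [← x.isGroupLikeElem_val.comul_eq_tmul_self, ← map_smul, algebraMap_smul, hax]
    have hadd : ∀ u v : A ⊗[R] A, sqMap R A L (u - v) = sqMap R A L u - sqMap R A L v := fun u v => by
      simp [sqMap, tmul_sub]
    have hsm : ∀ u : A ⊗[R] A, sqMap R A L (s • u) = algebraMap R L s • sqMap R A L u := fun u => by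
      rw [algebraMap_smul]
      simp only [sqMap, tmul_smul]
      exact LinearMap.map_smul_of_tower
        (AlgebraTensorModule.tensorTensorTensorComm R L R L L L A A).toLinearMap s _
    have h2 : sqMap R A L (s • Coalgebra.comul (R := R) a - a ⊗ₜ[R] a) = 0 := by
      rw [hadd, hsm, ← comul_one_tmul, h1, sqMap_tmul, ← hax, ← algebraMap_smul L s x.val, sub_eq_zero,
        smul_smul, ← smul_tmul_smul]
    have h3 := congrArg ((LinearMap.mul' L L).restrictScalars R |>.rTensor (A ⊗[R] A))
      ((AlgebraTensorModule.tensorTensorTensorComm R L R L L L A A).map_eq_zero_iff.mp h2)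
    simpa using h3
  obtain ⟨⟨t₁, ht₁⟩, hkill₁⟩ := (IsLocalizedModule.eq_zero_iff P.primeCompl
    (TensorProduct.mk R L (A ⊗[R] A) 1)).mp hz
  obtain ⟨⟨t₂, ht₂⟩, hkill₂⟩ := (IsLocalization.map_eq_zero_iff P.primeCompl L _).mp hc
  simp only [Submonoid.smul_def] at hkill₁
  refine ⟨a, s, t₁ * t₂, hs, fun h => ((‹P.IsPrime›).mem_or_mem h).elim ht₁ ht₂, fun T _ _ hsT htT => ?_⟩
  rw [map_mul] at htT
  have hu₁ := isUnit_of_mul_isUnit_left htT
  have hu₂ := isUnit_of_mul_isUnit_right htT
  obtain ⟨su, hsu⟩ := hsT
  let y : T ⊗[R] A := (↑su⁻¹ : T) • ((1 : T) ⊗ₜ[R] a)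
  have hy : algebraMap R T s • y = (1 : T) ⊗ₜ[R] a := by
    rw [← hsu, smul_smul, Units.mul_inv, one_smul]
  have hε : algebraMap R T (Coalgebra.counit a) = algebraMap R T s := by
    rw [← sub_eq_zero, ← map_sub]
    exact hu₂.mul_right_eq_zero.mp (by rw [← map_mul, hkill₂, map_zero])
  have hΔ : algebraMap R T s • sqMap R A T (Coalgebra.comul (R := R) a) = sqMap R A T (a ⊗ₜ[R] a) := by
    have h0 : (1 : T) ⊗ₜ[R] (s • Coalgebra.comul (R := R) a - a ⊗ₜ[R] a) = 0 := by
      refine hu₁.smul_left_cancel.mp ?_
      rw [smul_zero, algebraMap_smul, ← tmul_smul, hkill₁, tmul_zero]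
    have h2 : ((1 : T) ⊗ₜ[T] (1 : T)) ⊗ₜ[R] (s • Coalgebra.comul (R := R) a - a ⊗ₜ[R] a) = 0 := by
      have := congrArg ((TensorProduct.mk T T T 1).restrictScalars R |>.rTensor (A ⊗[R] A)) h0
      simpa using this
    rw [tmul_sub, sub_eq_zero] at h2
    unfold sqMap
    rw [← h2, tmul_smul, algebraMap_smul]
    exact (LinearMap.map_smul_of_tower
      (AlgebraTensorModule.tensorTensorTensorComm R T R T T T A A).toLinearMap s _).symm
  have hgl : IsGroupLikeElem T y := by
    constructor
    · rw [map_smul, TensorProduct.counit_tmul, CommSemiring.counit_apply, Algebra.smul_def (Coalgebra.counit a),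
        _root_.mul_one, hε, ← hsu, smul_eq_mul, Units.inv_mul]
    · rw [map_smul, comul_one_tmul, smul_tmul_smul]
      apply (su.isUnit.mul su.isUnit).smul_left_cancel.mp
      rw [smul_smul, smul_smul, show (su : T) * su * ↑su⁻¹ = su by rw [_root_.mul_assoc, Units.mul_inv, _root_.mul_one],
        show (su : T) * su * (↑su⁻¹ * ↑su⁻¹) = 1 by simp [_root_.mul_assoc], one_smul, hsu, hΔ, sqMap_tmul]
  refine ⟨⟨y, hgl⟩, hy, fun φ => GroupLike.ext (hsL.smul_left_cancel.mp ?_)⟩
  rw [glMap_val, ← φ.commutes, ← coefMap_smul, hy, coefMap_tmul, map_one, φ.commutes, algebraMap_smul, hax]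

theorem isUnit_away_of_dvd {f a : R} (h : a ∣ f) : IsUnit (algebraMap R (Localization.Away f) a) :=
  isUnit_of_dvd_unit (map_dvd _ h)
    (IsLocalization.map_units (Localization.Away f) (⟨f, 1, pow_one f⟩ : Submonoid.powers f))

theorem exists_awayHom_atPrime (P : Ideal R) [P.IsPrime] {f : R} (hf : f ∉ P) :
    Nonempty (Localization.Away f →ₐ[R] Localization.AtPrime P) :=
  ⟨IsLocalization.liftAlgHom (M := Submonoid.powers f) (f := Algebra.ofId R (Localization.AtPrime P))
    (fun y => IsLocalization.map_units (Localization.AtPrime P)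
      (⟨y.1, (Submonoid.powers_le (P := P.primeCompl)).mpr hf y.2⟩ : P.primeCompl))⟩

/-- Spreading out of surjective families of group-like elements. -/
theorem exists_surj_frame_away [Algebra.FiniteType R A] [Group.FG M] (P : Ideal R) [P.IsPrime]
    {gL : M →* GroupLike (Localization.AtPrime P) (Localization.AtPrime P ⊗[R] A)} (hgL : IsFrame gL) :
    ∃ f : R, f ∉ P ∧ ∃ (gf : M →* GroupLike (Localization.Away f) (Localization.Away f ⊗[R] A))
      (φ : Localization.Away f →ₐ[R] Localization.AtPrime P),
      Function.Surjective (glHom gf) ∧ ∀ v, glMap A φ (gf v) = gL v := by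
  classical
  haveI : AddGroup.FG (Additive M) := GroupFG.iff_add_fg.mp inferInstance
  haveI : Module.Finite ℤ (Additive M) := Module.Finite.iff_addGroup_fg.mpr inferInstance
  obtain ⟨k, p, hp⟩ := Module.Finite.exists_fin' ℤ (Additive M)
  obtain ⟨Rel, hRel⟩ := IsNoetherian.noetherian (LinearMap.ker p)
  set L := Localization.AtPrime P
  choose a s t hs ht hdata using fun i : Fin k => exists_data P (gL (Additive.toMul (p (Pi.single i 1))))
  let f := (∏ i, s i) * ∏ i, t i
  have hf : f ∉ P := by
    change f ∈ P.primeCompl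
    exact mul_mem (prod_mem fun i _ => hs i) (prod_mem fun i _ => ht i)
  set T := Localization.Away f
  choose X hX hXL using fun i => hdata i T
    (isUnit_away_of_dvd ((Finset.dvd_prod_of_mem s (Finset.mem_univ i)).trans (dvd_mul_right _ _)))
    (isUnit_away_of_dvd ((Finset.dvd_prod_of_mem t (Finset.mem_univ i)).trans (dvd_mul_left _ _)))
  letI : AddCommGroup (Additive (GroupLike T (T ⊗[R] A))) := inferInstance
  let pre : (Fin k → ℤ) →ₗ[ℤ] Additive (GroupLike T (T ⊗[R] A)) :=
    Fintype.linearCombination ℤ fun i => Additive.ofMul (X i)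
  obtain ⟨φL⟩ := exists_awayHom_atPrime P hf
  have hpre : ∀ v, glMap A φL (Additive.toMul (pre v)) = gL (Additive.toMul (p v)) := by
    suffices h : ((glMap A φL).toAdditive.toIntLinearMap).comp pre =
        (gL.toAdditive.toIntLinearMap).comp p from fun v => congrArg Additive.toMul (LinearMap.congr_fun h v)
    refine (Pi.basisFun ℤ (Fin k)).ext fun i => ?_
    rw [Pi.basisFun_apply, LinearMap.comp_apply, LinearMap.comp_apply, Fintype.linearCombination_apply_single,
      one_smul]
    exact congrArg Additive.ofMul (hXL i φL)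
  -- the elements to kill
  choose ur hur hkr using fun r : Rel => exists_killer P hf
    ((Additive.toMul (pre r.1)).val - 1) φL (by
      rw [map_sub, ← glMap_val, hpre, map_one]
      have : p r.1 = 0 := LinearMap.mem_ker.mp (hRel ▸ Submodule.subset_span r.2)
      rw [this, toMul_zero, map_one, GroupLike.val_one, sub_self])
  -- generators of the algebra
  obtain ⟨S, hS⟩ := (‹Algebra.FiniteType R A›).out
  choose m hm using fun v : M => hp (Additive.ofMul v)
  choose c hc using fun b : S => hgL.2 ((1 : L) ⊗ₜ[R] b.1)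
  choose den hden using fun b : S => IsLocalization.exist_integer_multiples_of_finite P.primeCompl
    (fun v : (c b).coeff.support => (c b).coeff v.1)
  choose num hnum using fun (b : S) (v : (c b).coeff.support) => hden b v
  have hgen : ∀ b : S, coefMap A φL (algebraMap R T (den b).1 • ((1 : T) ⊗ₜ[R] b.1) -
      ∑ v : (c b).coeff.support, algebraMap R T (num b v) • (Additive.toMul (pre (m v.1))).val) = 0 := by
    intro b
    have hv : ∀ v : M, glMap A φL (Additive.toMul (pre (m v))) = gL v := fun v => by
      rw [hpre, hm]; rfl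
    rw [map_sub, map_sum, coefMap_smul, coefMap_tmul, map_one, φL.commutes, sub_eq_zero, ← hc b]
    calc algebraMap R L (den b).1 • glHom gL (c b)
        = ∑ v : (c b).coeff.support, (algebraMap R L (den b).1 * (c b).coeff v.1) • (gL v.1).val := by
          conv_lhs => rw [← MonoidAlgebra.sum_coeff_single (c b), Finsupp.sum, map_sum, Finset.smul_sum]
          rw [← Finset.sum_coe_sort]
          exact Finset.sum_congr rfl fun v _ => by rw [glHom_single, smul_smul]
      _ = _ := Finset.sum_congr rfl fun v _ => by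
          rw [coefMap_smul, φL.commutes, hnum b v, ← glMap_val, hv, ← algebraMap_smul L (den b).1 ((c b).coeff v.1),
            smul_eq_mul]
  choose ug hug hkg using fun b : S => exists_killer P hf _ φL (hgen b)
  let f₂ := f * ((∏ r, ur r) * ((∏ b, ug b) * ∏ b : S, (den b).1))
  have hf₂ : f₂ ∉ P := by
    change f₂ ∈ P.primeCompl
    exact mul_mem hf (mul_mem (prod_mem fun r _ => hur r)
      (mul_mem (prod_mem fun b _ => hug b) (prod_mem fun b _ => (den b).2)))
  set T₂ := Localization.Away f₂
  let j : T →ₐ[R] T₂ := IsLocalization.liftAlgHom (M := Submonoid.powers f) (f := Algebra.ofId R T₂)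
    (fun y => by
      obtain ⟨n, hn⟩ := y.2
      change IsUnit (algebraMap R T₂ y.1)
      rw [← hn, map_pow]
      exact (isUnit_away_of_dvd (dvd_mul_right f _)).pow n)
  have hurT : ∀ r, IsUnit (algebraMap R T₂ (ur r)) := fun r => isUnit_away_of_dvd
    (((Finset.dvd_prod_of_mem ur (Finset.mem_univ r)).trans (dvd_mul_right _ _)).trans (dvd_mul_left _ _))
  have hugT : ∀ b, IsUnit (algebraMap R T₂ (ug b)) := fun b => isUnit_away_of_dvd
    ((((Finset.dvd_prod_of_mem ug (Finset.mem_univ b)).trans (dvd_mul_right _ _)).trans (dvd_mul_left _ _)).trans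
      (dvd_mul_left _ _))
  have hdenT : ∀ b : S, IsUnit (algebraMap R T₂ (den b).1) := fun b => isUnit_away_of_dvd
    ((((Finset.dvd_prod_of_mem (fun b : S => (den b).1) (Finset.mem_univ b)).trans (dvd_mul_left _ _)).trans
      (dvd_mul_left _ _)).trans (dvd_mul_left _ _))
  letI : AddCommGroup (Additive (GroupLike T₂ (T₂ ⊗[R] A))) := inferInstance
  let pre₂ : (Fin k → ℤ) →ₗ[ℤ] Additive (GroupLike T₂ (T₂ ⊗[R] A)) :=
    ((glMap A j).toAdditive.toIntLinearMap).comp pre
  have hker : LinearMap.ker p ≤ LinearMap.ker pre₂ := by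
    rw [← hRel, Submodule.span_le]
    intro r hr
    refine congrArg Additive.ofMul (GroupLike.ext ?_ : glMap A j (Additive.toMul (pre r)) = 1)
    have := hkr ⟨r, hr⟩ T₂ j (hurT _)
    rw [map_sub, map_one, sub_eq_zero] at this
    exact this
  let gp : Additive M →ₗ[ℤ] Additive (GroupLike T₂ (T₂ ⊗[R] A)) :=
    ((LinearMap.ker p).liftQ pre₂ hker).comp (p.quotKerEquivOfSurjective hp).symm.toLinearMap
  let g₂ : M →* GroupLike T₂ (T₂ ⊗[R] A) :=
    { toFun := fun v => Additive.toMul (gp (Additive.ofMul v))
      map_one' := by rw [ofMul_one, map_zero, toMul_zero]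
      map_mul' := fun u v => by rw [ofMul_mul, map_add, toMul_add] }
  have hg₂ : ∀ v, g₂ (Additive.toMul (p v)) = glMap A j (Additive.toMul (pre v)) := fun v => by
    change Additive.toMul (gp (p v)) = _
    have : (p.quotKerEquivOfSurjective hp).symm (p v) = Submodule.Quotient.mk v := by
      rw [LinearEquiv.symm_apply_eq]; rfl
    change Additive.toMul ((LinearMap.ker p).liftQ pre₂ hker ((p.quotKerEquivOfSurjective hp).symm (p v))) = _
    rw [this, Submodule.liftQ_apply]
    rfl
  have hsurj : Function.Surjective (glHom g₂) := by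
    suffices h : (glHom g₂ : MonoidAlgebra T₂ M →ₐ[T₂] T₂ ⊗[R] A).range = ⊤ from
      (AlgHom.range_eq_top _).mp h
    refine top_unique ?_
    rintro y -
    set W := (glHom g₂ : MonoidAlgebra T₂ M →ₐ[T₂] T₂ ⊗[R] A).range
    have hgens : ∀ b ∈ (S : Set A), (1 : T₂) ⊗ₜ[R] b ∈ W := by
      intro b hb
      have h0 := hkg ⟨b, hb⟩ T₂ j (hugT _)
      rw [map_sub, map_sum, coefMap_smul, coefMap_tmul, map_one, j.commutes, sub_eq_zero] at h0
      obtain ⟨w, hw⟩ := hdenT ⟨b, hb⟩
      have hmem : (w : T₂) • ((1 : T₂) ⊗ₜ[R] b) ∈ W := by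
        rw [hw, h0]
        refine sum_mem fun v _ => ?_
        rw [coefMap_smul]
        refine Subalgebra.smul_mem _ ((AlgHom.mem_range _).mpr ⟨single v.1 1, ?_⟩) _
        change glHom g₂ (single v.1 1) = _
        rw [glHom_single, one_smul]
        have := hg₂ (m v.1)
        rw [hm, toMul_ofMul] at this
        rw [this]
        rfl
      have := W.smul_mem hmem (↑w⁻¹ : T₂)
      rwa [smul_smul, Units.inv_mul, one_smul] at this
    induction y using TensorProduct.induction_on with
    | zero => exact zero_mem _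
    | add x y hx hy => exact add_mem hx hy
    | tmul r x =>
      rw [show r ⊗ₜ[R] x = r • ((1 : T₂) ⊗ₜ[R] x) by rw [smul_tmul', smul_eq_mul, _root_.mul_one]]
      refine W.smul_mem ?_ r
      have hx : x ∈ Algebra.adjoin R (S : Set A) := hS ▸ Algebra.mem_top
      induction hx using Algebra.adjoin_induction with
      | mem z hz => exact hgens z hz
      | algebraMap r =>
        rw [← Algebra.TensorProduct.includeRight_apply, AlgHom.commutes,
          IsScalarTower.algebraMap_apply R T₂ (T₂ ⊗[R] A)]
        exact W.algebraMap_mem _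
      | add u v _ _ hu hv => rw [tmul_add]; exact add_mem hu hv
      | mul u v _ _ hu hv =>
        have := mul_mem hu hv
        rwa [Algebra.TensorProduct.tmul_mul_tmul, _root_.mul_one] at this
  obtain ⟨φ₂⟩ := exists_awayHom_atPrime P hf₂
  refine ⟨f₂, hf₂, g₂, φ₂, hsurj, fun v => ?_⟩
  obtain ⟨w, hw⟩ := hp (Additive.ofMul v)
  obtain rfl : Additive.toMul (p w) = v := by rw [hw, toMul_ofMul]
  rw [hg₂, glMap_glMap,
    show φ₂.comp j = φL from IsLocalization.algHom_ext (Submonoid.powers f) (Subsingleton.elim _ _), hpre]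

/-- Spreading out of frames. -/
theorem exists_frame_away [Algebra.FiniteType R A] [Group.FG M] {R' : Type u} [CommRing R'] [Algebra R R']
    [Module.FaithfullyFlat R R'] {g : M →* GroupLike R' (R' ⊗[R] A)} (hg : IsFrame g) (P : Ideal R) [P.IsPrime]
    {gL : M →* GroupLike (Localization.AtPrime P) (Localization.AtPrime P ⊗[R] A)} (hgL : IsFrame gL) :
    ∃ f : R, f ∉ P ∧ ∃ gf : M →* GroupLike (Localization.Away f) (Localization.Away f ⊗[R] A), IsFrame gf := by
  obtain ⟨f₂, hf₂, g₂, -, hsurj, -⟩ := exists_surj_frame_away P hgL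
  refine ⟨f₂, hf₂, g₂, ⟨?_, hsurj⟩⟩
  let T₂ := Localization.Away f₂
  haveI : Module.FaithfullyFlat T₂ (T₂ ⊗[R] R') := inferInstance
  let i₂ : T₂ →ₐ[R] T₂ ⊗[R] R' := Algebra.TensorProduct.includeLeft
  have hframe := isFrame_of_surjective (hg.map (Algebra.TensorProduct.includeRight : R' →ₐ[R] T₂ ⊗[R] R'))
    (surjective_glHom_map i₂ hsurj)
  intro x y hxy
  have h := congrArg (coefMap A i₂) hxy
  rw [← glHom_glMap, ← glHom_glMap] at h
  refine MonoidAlgebra.ext (Finsupp.ext fun v => FaithfulSMul.algebraMap_injective T₂ (T₂ ⊗[R] R') ?_)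
  have := congrArg (fun z => z.coeff v) (hframe.1 h)
  simp at this
  exact this


end Spread

end GrothLib.MultLocal
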