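import Groth.Agent.Lib.MultLocal.Local
import Groth.Agent.Lib.MultLocal.DualPoints
import Groth.Agent.Lib.MultLocal.Spread
import Groth.Agent.Lib.ProjDescent.Main
import Mathlib.RingTheory.Spectrum.Prime.FreeLocus
import Mathlib.RingTheory.Finiteness.Descent
import Mathlib.RingTheory.Spectrum.Prime.Chevalley
import Mathlib.RingTheory.FiniteType

/-!
Groups of multiplicative type and of finite type are quasi-isotrivial.
-/

universe u

set_option linter.style.haveILetI false
set_option maxSynthPendingDepth 3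

open TensorProduct MonoidAlgebra

namespace GrothLib.MultLocal

variable {R : Type u} [CommRing R] {A : Type u} [CommRing A] [HopfAlgebra R A]

theorem fg_of_frame [Algebra.FiniteType R A] {R' : Type u} [CommRing R'] [Algebra R R'] [Nontrivial R']
    {M : Type u} [CommGroup M] {g : M →* GroupLike R' (R' ⊗[R] A)} (hg : IsFrame g) : Group.FG M :=
  MonoidAlgebra.finiteType_iff_group_fg.mp
    (Algebra.FiniteType.equiv (inferInstance : Algebra.FiniteType R' (R' ⊗[R] A))
      (hg.equiv.symm.toAlgEquiv : R' ⊗[R] A ≃ₐ[R'] MonoidAlgebra R' M))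

/-- A finite projective module is free over a basic open neighbourhood of any prime. -/
theorem exists_free_away (C : Type u) [AddCommGroup C] [Module R C] [Module.Finite R C] [Module.Projective R C]
    (p : Ideal R) [p.IsPrime] : ∃ r : R, r ∉ p ∧ Module.Free (Localization.Away r) (Localization.Away r ⊗[R] C) := by
  haveI : Module.FinitePresentation R C := Module.finitePresentation_of_projective R C
  haveI : Module.Free (Localization.AtPrime p) (Localization.AtPrime p ⊗[R] C) :=
    Module.free_of_flat_of_isLocalRing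
  obtain ⟨r, hr, hfree, -⟩ := Module.FinitePresentation.exists_free_localizedModule_powers p.primeCompl
    (TensorProduct.mk R (Localization.AtPrime p) C 1) (Localization.AtPrime p)
  haveI := hfree
  exact ⟨r, hr, Module.Free.of_equiv
    (IsLocalizedModule.isBaseChange (Submonoid.powers r) (Localization.Away r)
      (LocalizedModule.mkLinearMap (Submonoid.powers r) C)).equiv.symm⟩

/-- Etale neighbourhoods trivialising the kernel of a power map, after localisation. -/
theorem exists_etale_frame_kernel {R' : Type u} [CommRing R'] [Algebra R R'] [Module.FaithfullyFlat R R']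
    {C : Type u} [CommRing C] [Bialgebra R C] [Coalgebra.IsCocomm R C] [Module.Finite R C] [Module.Projective R C]
    {Q : Type u} [CommGroup Q] [Finite Q] {gQ : Q →* GroupLike R' (R' ⊗[R] C)} (hgQ : IsFrame gQ)
    (p : Ideal R) [p.IsPrime] :
    ∃ (E : Type u) (_ : CommRing E) (_ : Algebra R E) (P : Ideal E) (_ : P.IsPrime), Algebra.Etale R E ∧
      P.comap (algebraMap R E) = p ∧
      ∃ h : Q →* GroupLike (Localization.AtPrime P) (Localization.AtPrime P ⊗[R] C), IsFrame h := by
  obtain ⟨r, hr, hfree⟩ := exists_free_away C p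
  haveI := hfree
  let R₀ := Localization.Away r
  obtain ⟨P', hP'⟩ := PrimeSpectrum.comap_surjective_of_faithfullyFlat (B := R') ⟨p, inferInstance⟩
  let K := P'.asIdeal.ResidueField
  have hker : ∀ x, algebraMap R K x = 0 ↔ x ∈ p := fun x => by
    rw [IsScalarTower.algebraMap_apply R R' K, Ideal.algebraMap_residueField_eq_zero]
    exact SetLike.ext_iff.mp (congrArg PrimeSpectrum.asIdeal hP') x
  letI : Algebra R₀ K := (IsLocalization.Away.lift (S := R₀) r (g := algebraMap R K)
    (isUnit_iff_ne_zero.mpr fun h => hr ((hker r).mp h))).toAlgebra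
  haveI : IsScalarTower R R₀ K := IsScalarTower.of_algebraMap_eq fun x =>
    (IsLocalization.Away.lift_eq r _ x).symm
  let f : R₀ ⊗[R] R' →ₐ[R₀] K :=
    Algebra.TensorProduct.lift (Algebra.ofId R₀ K) (IsScalarTower.toAlgHom R R' K) fun _ _ => Commute.all _ _
  let b := Module.Free.chooseBasis R₀ (R₀ ⊗[R] C)
  have hg0 := (hgQ.map (Algebra.TensorProduct.includeRight : R' →ₐ[R] R₀ ⊗[R] R')).push
    (GrothLib.Hopf.cancelBaseChange R R₀ (R₀ ⊗[R] R') C).symm
  obtain ⟨E, _, _, ε, P, hP, hE, hPε, gL, hgL⟩ := exists_etale_frame b hg0 f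
  letI : Algebra R E := Algebra.compHom E (algebraMap R R₀)
  haveI : IsScalarTower R R₀ E := IsScalarTower.of_algebraMap_eq fun _ => rfl
  haveI : Algebra.Etale R E := Algebra.Etale.comp R R₀ E
  refine ⟨E, inferInstance, inferInstance, P, hP, inferInstance, ?_,
    _, hgL.push (GrothLib.Hopf.cancelBaseChange R R₀ (Localization.AtPrime P) C)⟩
  ext x
  rw [Ideal.mem_comap, hPε, RingHom.mem_ker, IsScalarTower.algebraMap_apply R R₀ E, AlgHom.commutes,
    ← IsScalarTower.algebraMap_apply R R₀ K, hker]

/-- A group with a frame after a faithfully flat base change has one over an etale neighbourhood of every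
point. -/
theorem exists_etale_frame_of_const [Algebra.FiniteType R A] {R' : Type u} [CommRing R'] [Algebra R R']
    [Module.FaithfullyFlat R R'] {M : Type u} [CommGroup M] {g : M →* GroupLike R' (R' ⊗[R] A)} (hg : IsFrame g)
    (p : Ideal R) [p.IsPrime] :
    ∃ (E : Type u) (_ : CommRing E) (_ : Algebra R E) (q : Ideal E), Algebra.Etale R E ∧ q.IsPrime ∧
      q.comap (algebraMap R E) = p ∧ Group.FG M ∧ ∃ gE : M →* GroupLike E (E ⊗[R] A), IsFrame gE := by
  obtain ⟨P₁, -⟩ := PrimeSpectrum.comap_surjective_of_faithfullyFlat (B := R') ⟨p, inferInstance⟩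
  haveI : Nontrivial R' := ⟨0, 1, fun h => P₁.isPrime.ne_top ((Ideal.eq_top_iff_one _).mpr (h ▸ P₁.asIdeal.zero_mem))⟩
  haveI := fg_of_frame hg
  haveI := isCocomm_of_frame (T := R') hg
  obtain ⟨n, hn, hmod⟩ := exists_modulus hg
  haveI hJ : (SGA3b.torsionIdeal R A n).IsHopfIdeal R := isHopfIdeal_torsionIdeal n
  let π := Bialgebra.Quotient.mkBialgHom (R := R) (SGA3b.torsionIdeal R A n)
  have hπ : IsKerPow π n := ⟨Ideal.Quotient.mk_surjective, by
    ext x
    rw [RingHom.mem_ker]
    exact Ideal.Quotient.eq_zero_iff_mem⟩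
  obtain ⟨gQ, hgQ, -⟩ := exists_frame_kernel π hπ hg
  haveI := finite_quot_powSub (M := M) hn
  haveI := isCocomm_of_frame (T := R') hgQ
  haveI : Module.Free R' (R' ⊗[R] (A ⧸ SGA3b.torsionIdeal R A n)) :=
    Module.Free.of_basis ((MonoidAlgebra.basis _ R').map hgQ.equiv.toLinearEquiv)
  haveI : Module.Finite R' (R' ⊗[R] (A ⧸ SGA3b.torsionIdeal R A n)) :=
    Module.Finite.of_basis ((MonoidAlgebra.basis _ R').map hgQ.equiv.toLinearEquiv)
  haveI : Module.Finite R (A ⧸ SGA3b.torsionIdeal R A n) := .of_finite_tensorProduct_of_faithfullyFlat R'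
  haveI : Module.Projective R (A ⧸ SGA3b.torsionIdeal R A n) :=
    GrothLib.ProjDescent.projective_of_faithfullyFlat R' _
  obtain ⟨E, _, _, P, hP, hE, hPp, hQ, hhQ⟩ := exists_etale_frame_kernel hgQ p
  obtain ⟨g₀, hg₀⟩ := exists_frame_of_local hg π (hmod _ π hπ) (Localization.AtPrime P) hhQ
  obtain ⟨f, hf, gf, hgf⟩ := exists_frame_away (R := E) (A := E ⊗[R] A)
    ((hg.map (Algebra.TensorProduct.includeRight : R' →ₐ[R] E ⊗[R] R')).push
      (GrothLib.Hopf.cancelBaseChange R E (E ⊗[R] R') A).symm) P
    (hg₀.push (GrothLib.Hopf.cancelBaseChange R E (Localization.AtPrime P) A).symm)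
  refine ⟨Localization.Away f, inferInstance, inferInstance, P.map (algebraMap E (Localization.Away f)),
    inferInstance, ?_, ?_, inferInstance, _,
    hgf.push (GrothLib.Hopf.cancelBaseChange R E (Localization.Away f) A)⟩
  · exact IsLocalization.isPrime_of_isPrime_disjoint (Submonoid.powers f) _ P hP
      ((Ideal.disjoint_powers_iff_notMem f hP.isRadical).mpr hf)
  · rw [IsScalarTower.algebraMap_eq R E (Localization.Away f), ← Ideal.comap_comap,
      ← Ideal.under_def (A := E), IsLocalization.under_map_of_isPrime_disjoint (Submonoid.powers f) _ hP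
        ((Ideal.disjoint_powers_iff_notMem f hP.isRadical).mpr hf), hPp]

/-- Over an affine base, groups of multiplicative type and of finite type are, near every point, split by
an etale algebra. -/
theorem exists_etale_frame_of_isMultType [Algebra.FiniteType R A] (h : SGA3b.IsMultType R A)
    (p : Ideal R) [p.IsPrime] :
    ∃ (E : Type u) (_ : CommRing E) (_ : Algebra R E) (q : Ideal E) (M : Type u) (_ : CommGroup M),
      Algebra.Etale R E ∧ q.IsPrime ∧ q.comap (algebraMap R E) = p ∧ Group.FG M ∧
      ∃ gE : M →* GroupLike E (E ⊗[R] A), IsFrame gE := by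
  obtain ⟨s, hs, hloc⟩ := h
  obtain ⟨r, hrs, hr⟩ : ∃ r ∈ s, r ∉ p := by
    by_contra! hc
    exact ‹p.IsPrime›.ne_top (top_le_iff.mp (hs ▸ Ideal.span_le.mpr hc))
  obtain ⟨R', _, _, hff, M, _, ⟨e⟩⟩ := hloc r hrs
  obtain ⟨g, hg⟩ := exists_frame_of_equiv e
  let R₀ := Localization.Away r
  have hdis := (Ideal.disjoint_powers_iff_notMem r (‹p.IsPrime›).isRadical).mpr hr
  haveI : (p.map (algebraMap R R₀)).IsPrime :=
    IsLocalization.isPrime_of_isPrime_disjoint (Submonoid.powers r) R₀ p inferInstance hdis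
  obtain ⟨E, _, _, q, hE, hq, hqp, hfg, gE, hgE⟩ := exists_etale_frame_of_const hg (p.map (algebraMap R R₀))
  letI : Algebra R E := Algebra.compHom E (algebraMap R R₀)
  haveI : IsScalarTower R R₀ E := IsScalarTower.of_algebraMap_eq fun _ => rfl
  haveI : Algebra.Etale R E := Algebra.Etale.comp R R₀ E
  refine ⟨E, inferInstance, inferInstance, q, M, inferInstance, inferInstance, hq, ?_, hfg, _,
    hgE.push (GrothLib.Hopf.cancelBaseChange R R₀ E A)⟩
  rw [IsScalarTower.algebraMap_eq R R₀ E, ← Ideal.comap_comap, hqp, ← Ideal.under_def (A := R),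
    IsLocalization.under_map_of_isPrime_disjoint (Submonoid.powers r) R₀ inferInstance hdis]

/-- Groups of multiplicative type and of finite type are quasi-isotrivial. -/
theorem isQuasiIsotrivial [Algebra.FiniteType R A] (h : SGA3b.IsMultType R A) : SGA3b.IsQuasiIsotrivial R A := by
  refine ⟨{f | SGA3b.IsQuasiIsotrivialConst (Localization.Away f) (Localization.Away f ⊗[R] A)}, ?_, fun f hf => hf⟩
  by_contra hne
  obtain ⟨p, hp, hle⟩ := Ideal.exists_le_maximal _ hne
  haveI := hp.isPrime
  obtain ⟨E, _, _, q, M, _, hE, hq, hqp, -, g, hg⟩ := exists_etale_frame_of_isMultType h p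
  have hopen : IsOpen (Set.range (PrimeSpectrum.comap (algebraMap R E))) :=
    PrimeSpectrum.isOpenMap_comap_of_hasGoingDown_of_finitePresentation.isOpen_range
  obtain ⟨_, ⟨f, rfl⟩, hpf, hsub⟩ := PrimeSpectrum.isTopologicalBasis_basic_opens.exists_subset_of_mem_open
    (show (⟨p, inferInstance⟩ : PrimeSpectrum R) ∈ Set.range (PrimeSpectrum.comap (algebraMap R E)) from
      ⟨⟨q, hq⟩, PrimeSpectrum.ext hqp⟩) hopen
  refine hpf (hle (Ideal.subset_span ?_))
  let Rf := Localization.Away f
  haveI : Module.FaithfullyFlat Rf (Rf ⊗[R] E) := by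
    refine Module.FaithfullyFlat.of_comap_surjective fun x => ?_
    obtain ⟨y, hy⟩ := hsub (show PrimeSpectrum.comap (algebraMap R Rf) x ∈
        (PrimeSpectrum.basicOpen f : Set (PrimeSpectrum R)) by
      rw [← PrimeSpectrum.localization_away_comap_range Rf f]; exact Set.mem_range_self x)
    have hfy : f ∉ y.asIdeal.comap (algebraMap R E) := by
      intro hmem
      have h1 : algebraMap R Rf f ∈ x.asIdeal := (congrArg PrimeSpectrum.asIdeal hy).le hmem
      exact x.isPrime.ne_top (Ideal.eq_top_of_isUnit_mem _ h1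
        (IsLocalization.map_units Rf (⟨f, 1, pow_one f⟩ : Submonoid.powers f)))
    let Ey := Localization.AtPrime y.asIdeal
    have hu : IsUnit (algebraMap R Ey f) := by
      rw [IsScalarTower.algebraMap_apply R E Ey]
      exact IsLocalization.map_units Ey (⟨_, hfy⟩ : y.asIdeal.primeCompl)
    let a : Rf →ₐ[R] Ey := IsLocalization.liftAlgHom (M := Submonoid.powers f) (f := Algebra.ofId R Ey) (fun u => by
      obtain ⟨k, hk⟩ := u.2
      change IsUnit (algebraMap R Ey u.1)
      rw [← hk, map_pow]
      exact hu.pow k)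
    let φ : Rf ⊗[R] E →ₐ[R] Ey :=
      Algebra.TensorProduct.lift a (IsScalarTower.toAlgHom R E Ey) fun _ _ => Commute.all _ _
    refine ⟨PrimeSpectrum.comap φ.toRingHom ⟨IsLocalRing.maximalIdeal Ey, inferInstance⟩,
      PrimeSpectrum.localization_comap_injective Rf (Submonoid.powers f) (PrimeSpectrum.ext ?_)⟩
    refine Eq.trans ?_ (congrArg PrimeSpectrum.asIdeal hy)
    simp only [PrimeSpectrum.comap_asIdeal, Ideal.comap_comap]
    refine Eq.trans ?_ (congrArg (Ideal.comap (algebraMap R E))
      (Localization.AtPrime.comap_maximalIdeal (I := y.asIdeal)))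
    rw [Ideal.comap_comap]
    congr 1
    refine RingHom.ext fun r => ?_
    change φ (algebraMap Rf (Rf ⊗[R] E) (algebraMap R Rf r)) = algebraMap E Ey (algebraMap R E r)
    rw [← IsScalarTower.algebraMap_apply R Rf, φ.commutes, IsScalarTower.algebraMap_apply R E Ey]
  exact ⟨Rf ⊗[R] E, inferInstance, inferInstance, inferInstance, inferInstance, M, inferInstance,
    ⟨((hg.map (Algebra.TensorProduct.includeRight : E →ₐ[R] Rf ⊗[R] E)).push
      (GrothLib.Hopf.cancelBaseChange R Rf (Rf ⊗[R] E) A).symm).equiv.symm⟩⟩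

end GrothLib.MultLocal
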