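import Groth.Agent.Lib.MultLocal.Frame
import Groth.Prelude.Def_SGA3b
import Mathlib.RingTheory.Flat.Stability
import Mathlib.RingTheory.Flat.FaithfullyFlat.Basic
import Mathlib.RingTheory.Localization.Away.Basic

/-!
Quotients of split groups over a field, and the passage from frames to multiplicative type.
-/

universe u

set_option linter.style.haveILetI false

open TensorProduct MonoidAlgebra

namespace GrothLib.MultLocal

/-- Over a field the bialgebra images of group algebras are group algebras. -/
theorem exists_frame_of_surjective_field {K : Type u} [Field K] {B : Type u} [CommRing B] [HopfAlgebra K B]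
    {M : Type u} [CommGroup M] (g : M →* GroupLike K B) (hs : Function.Surjective (glHom g)) :
    ∃ gN : g.range →* GroupLike K B, IsFrame gN := by
  let gN : g.range →* GroupLike K B := g.range.subtype
  refine ⟨gN, ⟨?_, fun y => ?_⟩⟩
  · have hli : LinearIndependent K fun n : g.range => (gN n).val :=
      linearIndep_groupLikeVal.comp _ Subtype.coe_injective
    have h : ∀ z, glHom gN z = Finsupp.linearCombination K (fun n : g.range => (gN n).val) z.coeff := by
      intro z
      induction z using MonoidAlgebra.induction_linear with
      | zero => simp
      | add x y hx hy => simp only [map_add, coeff_add, hx, hy]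
      | single n r => simp
    intro x y hxy
    rw [h, h] at hxy
    exact MonoidAlgebra.coeff_injective (hli hxy)
  · obtain ⟨z, rfl⟩ := hs y
    refine ⟨mapDomainBialgHom K g.rangeRestrict z, ?_⟩
    induction z using MonoidAlgebra.induction_linear with
    | zero => simp
    | add x y hx hy => simp only [map_add, hx, hy]
    | single m r => simp [gN]

variable {R : Type u} [CommRing R] {A : Type u} [CommRing A] [HopfAlgebra R A]

/-- A frame after one faithfully flat base change gives multiplicative type. -/
theorem isMultType_of_frame {R' : Type u} [CommRing R'] [Algebra R R'] [Module.FaithfullyFlat R R'] {M : Type u}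
    [CommGroup M] {g : M →* GroupLike R' (R' ⊗[R] A)} (hg : IsFrame g) : SGA3b.IsMultType R A := by
  refine ⟨{1}, Ideal.span_singleton_one, fun f _ => ?_⟩
  let R₁ := Localization.Away f
  exact ⟨R₁ ⊗[R] R', inferInstance, inferInstance, inferInstance, M, inferInstance,
    ⟨((hg.map (Algebra.TensorProduct.includeRight : R' →ₐ[R] R₁ ⊗[R] R')).push
      (GrothLib.Hopf.cancelBaseChange R R₁ (R₁ ⊗[R] R') A).symm).equiv.symm⟩⟩

end GrothLib.MultLocal
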