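import Groth.Agent.Lib.MultLocal.ConnFibre
import Mathlib.RingTheory.Jacobson.Ring
import Mathlib.RingTheory.TensorProduct.DirectLimitFG
import Mathlib.RingTheory.LocalRing.ResidueField.Ideal
import Mathlib.RingTheory.TensorProduct.Free
import Mathlib.LinearAlgebra.Basis.VectorSpace

/-!
A connected bialgebra over a field is geometrically connected.
-/

universe u

set_option linter.style.haveILetI false
set_option maxSynthPendingDepth 3

open TensorProduct

namespace GrothLib.MultLocal

variable {κ : Type u} [Field κ] {X : Type u} [CommRing X] [Bialgebra κ X]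

theorem eq_zero_of_connected_finite [ConnectedSpace (PrimeSpectrum X)] (E : Type u) [CommRing E] [Algebra κ E]
    [Module.Finite κ E] {e : E ⊗[κ] X} (he : IsIdempotentElem e) (h0 : Coalgebra.counit (R := E) e = 0) : e = 0 := by
  haveI : Algebra.FinitePresentation κ E := Algebra.FinitePresentation.of_finiteType.mp inferInstance
  refine eq_zero_of_connected_fibres_baseChange E (fun p hp => ?_) he h0
  haveI := hp
  have hbot : p = ⊥ := (Ideal.eq_bot_or_top p).resolve_right hp.ne_top
  haveI : p.IsMaximal := hbot ▸ Ideal.bot_isMaximal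
  have hb : Function.Bijective (algebraMap κ p.ResidueField) := by
    refine ⟨RingHom.injective _, fun y => ?_⟩
    obtain ⟨z, rfl⟩ := (Ideal.bijective_algebraMap_quotient_residueField p).2 y
    obtain ⟨x, rfl⟩ := Ideal.Quotient.mk_surjective z
    exact ⟨x, rfl⟩
  let e₁ : κ ≃ₐ[κ] p.ResidueField := AlgEquiv.ofBijective (Algebra.ofId κ _) hb
  let e₂ : X ≃ₐ[κ] p.ResidueField ⊗[κ] X :=
    (Algebra.TensorProduct.lid κ X).symm.trans (Algebra.TensorProduct.congr e₁ AlgEquiv.refl)
  have hs : Function.Surjective (PrimeSpectrum.comap (e₂.symm : p.ResidueField ⊗[κ] X →+* X)) := fun q =>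
    ⟨PrimeSpectrum.comap (e₂ : X →+* p.ResidueField ⊗[κ] X) q, by
      rw [← PrimeSpectrum.comap_comp_apply]
      refine PrimeSpectrum.ext (Ideal.ext fun x => ?_)
      change e₂ (e₂.symm x) ∈ q.asIdeal ↔ x ∈ q.asIdeal
      rw [AlgEquiv.apply_symm_apply]⟩
  exact hs.connectedSpace (PrimeSpectrum.continuous_comap _)

/-- Idempotents of a field extension of a connected bialgebra vanishing at the unit vanish. -/
theorem eq_zero_of_connected_field [ConnectedSpace (PrimeSpectrum X)] (L : Type u) [Field L] [Algebra κ L]
    {e : L ⊗[κ] X} (he : IsIdempotentElem e) (h0 : Coalgebra.counit (R := L) e = 0) : e = 0 := by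
  obtain ⟨B, hB, eB, heB⟩ := TensorProduct.Algebra.exists_of_fg e
  haveI : Algebra.FiniteType κ B := (Subalgebra.fg_iff_finiteType B).mp hB
  let i : B ⊗[κ] X →ₐ[κ] L ⊗[κ] X := Algebra.TensorProduct.map B.val (AlgHom.id κ X)
  have hi : ∀ z, i z = LinearMap.rTensor X B.val.toLinearMap z := fun z => by
    induction z using TensorProduct.induction_on with
    | zero => simp
    | add x y hx hy => simp only [map_add, hx, hy]
    | tmul b x => rfl
  have hinj : Function.Injective i := fun x y h => by
    rw [hi, hi] at h
    exact Module.Flat.rTensor_preserves_injective_linearMap B.val.toLinearMap Subtype.val_injective h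
  have hie : i eB = e := (hi eB).trans heB
  have hid : IsIdempotentElem eB := hinj (by rw [map_mul, hie, he.eq])
  have hc : ∀ z : B ⊗[κ] X, B.val (Coalgebra.counit (R := B) z) = Coalgebra.counit (R := L) (i z) := by
    intro z
    induction z using TensorProduct.induction_on with
    | zero => simp
    | add x y hx hy => simp only [map_add, hx, hy]
    | tmul b x =>
      change B.val (Coalgebra.counit (R := B) (b ⊗ₜ[κ] x)) = Coalgebra.counit (R := L) ((B.val b) ⊗ₜ[κ] x)
      rw [TensorProduct.counit_tmul, TensorProduct.counit_tmul, CommSemiring.counit_apply, CommSemiring.counit_apply,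
        map_smul]
  have h0B : Coalgebra.counit (R := B) eB = 0 := Subtype.val_injective ((hc eB).trans (by rw [hie, h0]; rfl))
  let b := Module.Basis.ofVectorSpace κ X
  let bB := Algebra.TensorProduct.basis (R := κ) B b
  suffices h : eB = 0 by rw [← hie, h, map_zero]
  refine bB.repr.injective (Finsupp.ext fun j => ?_)
  rw [map_zero, Finsupp.zero_apply]
  have hnil : bB.repr eB j ∈ (⊥ : Ideal B).jacobson := by
    rw [Ideal.jacobson, Submodule.mem_sInf]
    rintro (n : Ideal B) ⟨-, hn⟩
    haveI := hn
    letI := Ideal.Quotient.field n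
    haveI : Module.Finite κ (B ⧸ n) := finite_of_finite_type_of_isJacobsonRing κ (B ⧸ n)
    let π : B →ₐ[κ] B ⧸ n := Ideal.Quotient.mkₐ κ n
    let r : B ⊗[κ] X →ₐ[κ] (B ⧸ n) ⊗[κ] X := Algebra.TensorProduct.map π (AlgHom.id κ X)
    let bn := Algebra.TensorProduct.basis (R := κ) (B ⧸ n) b
    have hcr : ∀ z : B ⊗[κ] X, Coalgebra.counit (R := B ⧸ n) (r z) = π (Coalgebra.counit (R := B) z) := by
      intro z
      induction z using TensorProduct.induction_on with
      | zero => simp
      | add x y hx hy => simp only [map_add, hx, hy]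
      | tmul t x =>
        change Coalgebra.counit (R := B ⧸ n) (π t ⊗ₜ[κ] x) = π (Coalgebra.counit (R := B) (t ⊗ₜ[κ] x))
        rw [TensorProduct.counit_tmul, TensorProduct.counit_tmul, CommSemiring.counit_apply, CommSemiring.counit_apply,
          map_smul]
    have hz : r eB = 0 := eq_zero_of_connected_finite (B ⧸ n) (hid.map r) (by rw [hcr, h0B, map_zero])
    have hrepr : ∀ z, bn.repr (r z) j = π (bB.repr z j) := by
      intro z
      induction z using TensorProduct.induction_on with
      | zero => simp
      | add x y hx hy => simp only [map_add, Finsupp.add_apply, hx, hy]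
      | tmul t x => simp [bn, bB, r, π, Algebra.TensorProduct.basis_repr_tmul, Algebra.smul_def]
    have h1 := hrepr eB
    rw [hz, map_zero, Finsupp.zero_apply] at h1
    exact Ideal.Quotient.eq_zero_iff_mem.mp h1.symm
  haveI : IsJacobsonRing B := isJacobsonRing_of_finiteType (A := κ)
  rw [IsJacobsonRing.out inferInstance (Ideal.bot_prime (α := B)).isRadical] at hnil
  exact hnil

end GrothLib.MultLocal
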