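import Groth.Agent.Lib.FlatLimit.Pointwise
import Groth.Agent.Lib.FibreFlat.OpenLocus
import Mathlib.RingTheory.Adjoin.FG
import Mathlib.RingTheory.Localization.AtPrime.Basic
import Mathlib.RingTheory.LocalRing.ResidueField.Ideal
import Mathlib.RingTheory.Spectrum.Prime.Topology

/-!
Flatness at the points of the closed fibre descends to a noetherian local stage.
-/

universe u

set_option linter.style.haveILetI false
set_option maxSynthPendingDepth 3

open TensorProduct

namespace GrothLib.MultLocal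

section Change

variable {K : Type u} [CommRing K] {C₁ : Type u} [CommRing C₁] [Algebra K C₁] [Algebra.FinitePresentation K C₁]
  {S T : Type u} [CommRing S] [CommRing T] [Algebra K S] [Algebra K T]

/-- Change of the base. -/
noncomputable def stageMap (f : S →ₐ[K] T) : S ⊗[K] C₁ →ₐ[K] T ⊗[K] C₁ :=
  Algebra.TensorProduct.map f (AlgHom.id K C₁)

omit [Algebra.FinitePresentation K C₁] in
theorem stageMap_comp {U : Type u} [CommRing U] [Algebra K U] (f : S →ₐ[K] T) (g : T →ₐ[K] U) (x : S ⊗[K] C₁) :
    stageMap g (stageMap f x) = stageMap (g.comp f) x := by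
  induction x using TensorProduct.induction_on with
  | zero => simp
  | add x y hx hy => simp only [map_add, hx, hy]
  | tmul s c => rfl

/-- Flatness of a localisation does not depend on the model. -/
theorem flat_localizedModule_iff {R B : Type u} [CommRing R] [CommRing B] [Algebra R B] (q : Ideal B) [q.IsPrime] :
    Module.Flat R (LocalizedModule q.primeCompl B) ↔ Module.Flat R (Localization.AtPrime q) := by
  let e := (IsLocalizedModule.linearEquiv q.primeCompl (LocalizedModule.mkLinearMap q.primeCompl B)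
    (Algebra.linearMap B (Localization.AtPrime q))).restrictScalars R
  exact ⟨fun _ => Module.Flat.of_linearEquiv e.symm, fun _ => Module.Flat.of_linearEquiv e⟩

theorem flat_localized_rid {R B B₀ : Type u} [CommRing R] [CommRing B] [CommRing B₀] [Algebra R B] [Algebra B₀ B]
    (q : Ideal B) [q.IsPrime] :
    Module.Flat R (LocalizedModule q.primeCompl (B ⊗[B₀] B₀)) ↔ Module.Flat R (LocalizedModule q.primeCompl B) := by
  let e := AlgebraTensorModule.rid B₀ B B
  exact ⟨fun _ => GrothLib.FlatLimit.flat_localized_congr (R := R) q.primeCompl e,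
    fun _ => GrothLib.FlatLimit.flat_localized_congr (R := R) q.primeCompl e.symm⟩

theorem flat_stageMap (f : S →ₐ[K] T) (q : Ideal (T ⊗[K] C₁)) [q.IsPrime]
    (h : Module.Flat S (LocalizedModule (q.comap (stageMap f)).primeCompl (S ⊗[K] C₁))) :
    Module.Flat T (LocalizedModule q.primeCompl (T ⊗[K] C₁)) := by
  letI : Algebra S T := f.toRingHom.toAlgebra
  haveI : IsScalarTower K S T := IsScalarTower.of_algebraMap_eq fun r => (f.commutes r).symm
  letI : Algebra C₁ (S ⊗[K] C₁) := Algebra.TensorProduct.rightAlgebra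
  letI : Algebra C₁ (T ⊗[K] C₁) := Algebra.TensorProduct.rightAlgebra
  let β : S ⊗[K] C₁ →+* T ⊗[K] C₁ := (stageMap f).toRingHom
  have h2 : Module.Flat S (LocalizedModule (q.comap β).primeCompl ((S ⊗[K] C₁) ⊗[C₁] C₁)) :=
    (flat_localized_rid (R := S) (B := S ⊗[K] C₁) (B₀ := C₁) (q.comap β)).mpr h
  have hS : ∀ s, β (algebraMap S (S ⊗[K] C₁) s) = algebraMap T (T ⊗[K] C₁) (algebraMap S T s) := fun s => rfl
  have hB : ∀ b, β (algebraMap C₁ (S ⊗[K] C₁) b) = algebraMap C₁ (T ⊗[K] C₁) b := fun b => by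
    change stageMap f ((1 : S) ⊗ₜ b) = (1 : T) ⊗ₜ b
    exact (Algebra.TensorProduct.map_tmul _ _ _ _).trans (by rw [map_one]; rfl)
  have h3 := GrothLib.FlatLimit.flat_at_of_stage (A₀ := K) (A := T) (B₀ := C₁) C₁ (B := T ⊗[K] C₁) (S := S)
    (BS := S ⊗[K] C₁) β hS hB q
  have h4 := h3 h2
  exact (flat_localized_rid (R := T) (B := T ⊗[K] C₁) (B₀ := C₁) q).mp h4

end Change

variable {K : Type u} [CommRing K] [IsNoetherianRing K] {R : Type u} [CommRing R] [IsLocalRing R] [Algebra K R]
  {C₁ : Type u} [CommRing C₁] [Algebra K C₁] [Algebra.FinitePresentation K C₁]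

/-- Flatness at the closed fibre holds at a noetherian local stage. -/
theorem exists_flat_closed_stage
    (hfl : ∀ (q : Ideal (R ⊗[K] C₁)) [q.IsPrime],
      Ideal.map (algebraMap R (R ⊗[K] C₁)) (IsLocalRing.maximalIdeal R) ≤ q → Module.Flat R (Localization.AtPrime q)) :
    ∃ (S : Type u) (_ : CommRing S) (_ : IsLocalRing S) (_ : IsNoetherianRing S) (_ : Algebra K S) (_ : Algebra S R)
      (_ : IsScalarTower K S R), IsLocalHom (algebraMap S R) ∧
      ∀ (q : Ideal (S ⊗[K] C₁)) [q.IsPrime],
        Ideal.map (algebraMap S (S ⊗[K] C₁)) (IsLocalRing.maximalIdeal S) ≤ q → Module.Flat S (Localization.AtPrime q) := by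
  classical
  let G : Finset R → Type u := fun T => Algebra.adjoin K (T : Set R)
  letI : ∀ T, CommRing (G T) := fun T => inferInstanceAs (CommRing (Algebra.adjoin K (T : Set R)))
  letI : ∀ T, Algebra K (G T) := fun T => inferInstanceAs (Algebra K (Algebra.adjoin K (T : Set R)))
  letI : ∀ T, Algebra (G T) R := fun T => inferInstanceAs (Algebra (Algebra.adjoin K (T : Set R)) R)
  haveI : ∀ T, IsScalarTower K (G T) R := fun T =>
    inferInstanceAs (IsScalarTower K (Algebra.adjoin K (T : Set R)) R)
  haveI : ∀ T, IsNoetherianRing (G T) := fun T => isNoetherianRing_of_fg (Subalgebra.fg_adjoin_finset T)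
  letI : Algebra C₁ (R ⊗[K] C₁) := Algebra.TensorProduct.rightAlgebra
  letI : ∀ T, Algebra C₁ (G T ⊗[K] C₁) := fun T => Algebra.TensorProduct.rightAlgebra
  haveI : ∀ T, Algebra.FinitePresentation (G T) (G T ⊗[K] C₁) := fun T => inferInstance
  let β : ∀ T, G T ⊗[K] C₁ →ₐ[K] R ⊗[K] C₁ := fun T => stageMap (IsScalarTower.toAlgHom K (G T) R)
  let Z : Set (PrimeSpectrum (R ⊗[K] C₁)) :=
    PrimeSpectrum.zeroLocus (Ideal.map (algebraMap R (R ⊗[K] C₁)) (IsLocalRing.maximalIdeal R))
  let V : Finset R → Set (PrimeSpectrum (R ⊗[K] C₁)) := fun T => PrimeSpectrum.comap (β T).toRingHom ⁻¹'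
    {q | Module.Flat (G T) (LocalizedModule q.asIdeal.primeCompl (G T ⊗[K] C₁))}
  have hV : ∀ T, IsOpen (V T) := fun T =>
    (GrothLib.FibreFlat.isOpen_flat_locus (R := G T) (A := G T ⊗[K] C₁) (M := G T ⊗[K] C₁)).preimage
      (PrimeSpectrum.continuous_comap _)
  have hcov : Z ⊆ ⋃ T, V T := by
    intro q hq
    have h := hfl q.asIdeal hq
    rw [← flat_localizedModule_iff, ← flat_localized_rid (B₀ := C₁)] at h
    obtain ⟨T, hT⟩ := GrothLib.FlatLimit.exists_stage_flat_at' (A₀ := K) (A := R) (B₀ := C₁) (B := R ⊗[K] C₁) C₁ G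
      (fun T => ⟨T, fun x hx => ⟨⟨x, Algebra.subset_adjoin hx⟩, rfl⟩⟩)
      (fun i p hp => ⟨i, AlgHom.id K (G i), fun x => rfl, fun x hx => Subtype.ext (hp x hx)⟩) q.asIdeal h
    refine Set.mem_iUnion.mpr ⟨T, ?_⟩
    exact (flat_localized_rid (B₀ := C₁) _).mp (hT (G T ⊗[K] C₁) (β T : G T ⊗[K] C₁ →+* R ⊗[K] C₁)
      (fun s => rfl) (fun b => by
        change β T ((1 : G T) ⊗ₜ b) = (1 : R) ⊗ₜ b
        exact (Algebra.TensorProduct.map_tmul _ _ _ _).trans (by rw [map_one]; rfl)))
  obtain ⟨s, hs⟩ := (PrimeSpectrum.isClosed_zeroLocus _).isCompact.elim_finite_subcover V hV hcov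
  let T₀ : Finset R := s.biUnion id
  have hflat : ∀ q ∈ Z, Module.Flat (G T₀)
      (LocalizedModule ((PrimeSpectrum.comap (β T₀).toRingHom q).asIdeal).primeCompl (G T₀ ⊗[K] C₁)) := by
    intro q hq
    obtain ⟨T, hTs, hT⟩ := Set.mem_iUnion₂.mp (hs hq)
    let i : G T →ₐ[K] G T₀ := Subalgebra.inclusion
      (Algebra.adjoin_mono (Finset.coe_subset.mpr (Finset.subset_biUnion_of_mem id hTs)))
    refine flat_stageMap i _ ?_
    have : ∀ (Q : Ideal (G T ⊗[K] C₁)) [Q.IsPrime], Q = (PrimeSpectrum.comap (β T).toRingHom q).asIdeal →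
        Module.Flat (G T) (LocalizedModule Q.primeCompl (G T ⊗[K] C₁)) := by
      rintro Q _ rfl
      exact hT
    refine this _ ?_
    change (q.asIdeal.comap (β T₀).toRingHom).comap (stageMap i) = q.asIdeal.comap (β T).toRingHom
    ext z
    simp only [Ideal.mem_comap]
    change β T₀ (stageMap i z) ∈ q.asIdeal ↔ β T z ∈ q.asIdeal
    rw [show β T₀ (stageMap i z) = β T z from (stageMap_comp i _ z).trans rfl]
  let p : Ideal (G T₀) := (IsLocalRing.maximalIdeal R).comap (algebraMap (G T₀) R)
  haveI : p.IsPrime := Ideal.IsPrime.comap _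
  let S := Localization.AtPrime p
  have hu : ∀ y : p.primeCompl, IsUnit (algebraMap (G T₀) R y) := fun y => by
    by_contra h'
    exact y.2 ((IsLocalRing.mem_maximalIdeal _).mpr h')
  let h : S →+* R := IsLocalization.lift hu
  letI : Algebra S R := h.toAlgebra
  haveI : IsScalarTower (G T₀) S R := IsScalarTower.of_algebraMap_eq fun x => (IsLocalization.lift_eq hu x).symm
  haveI : IsScalarTower K S R := IsScalarTower.of_algebraMap_eq fun x => by
    rw [IsScalarTower.algebraMap_apply K (G T₀) R, IsScalarTower.algebraMap_apply (G T₀) S R,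
      ← IsScalarTower.algebraMap_apply K (G T₀) S]
  have hloc : IsLocalHom (algebraMap S R) := by
    refine ⟨fun x hx => ?_⟩
    obtain ⟨a, t, rfl⟩ := IsLocalization.exists_mk'_eq p.primeCompl x
    refine (IsLocalization.AtPrime.isUnit_mk'_iff S p a t).mpr fun ha => ?_
    have h1 : algebraMap (G T₀) R a = algebraMap S R (IsLocalization.mk' S a t) * algebraMap (G T₀) R t := by
      rw [IsScalarTower.algebraMap_apply (G T₀) S R t, ← map_mul, IsLocalization.mk'_spec,
        ← IsScalarTower.algebraMap_apply]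
    exact ((IsLocalRing.mem_maximalIdeal _).mp ha) (h1 ▸ hx.mul (hu t))
  haveI : IsNoetherianRing S := IsLocalization.isNoetherianRing p.primeCompl S inferInstance
  refine ⟨S, inferInstance, inferInstance, inferInstance, inferInstance, inferInstance, inferInstance, hloc,
    fun Q hQ hmQ => ?_⟩
  rw [← flat_localizedModule_iff]
  let f : G T₀ →ₐ[K] S := IsScalarTower.toAlgHom K (G T₀) S
  let g : S →ₐ[K] R := IsScalarTower.toAlgHom K S R
  obtain ⟨q, hqZ, hqQ⟩ : ∃ q ∈ Z, q.asIdeal.comap (stageMap g) = Q := by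
    let L := Q.ResidueField
    let φ : S ⊗[K] C₁ →ₐ[S] L := IsScalarTower.toAlgHom S (S ⊗[K] C₁) L
    have hker : ∀ x ∈ IsLocalRing.maximalIdeal S, algebraMap S L x = 0 := fun x hx => by
      rw [IsScalarTower.algebraMap_apply S (S ⊗[K] C₁) L, Ideal.algebraMap_residueField_eq_zero]
      exact hmQ (Ideal.mem_map_of_mem _ hx)
    let k := IsLocalRing.ResidueField S
    let ψ : k →+* L := Ideal.Quotient.lift _ (algebraMap S L) hker
    letI : Algebra k L := ψ.toAlgebra
    haveI : IsScalarTower S k L := IsScalarTower.of_algebraMap_eq fun x => rfl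
    haveI := hloc
    let k' := IsLocalRing.ResidueField R
    let W := k' ⊗[k] L
    haveI : Nontrivial W := inferInstance
    obtain ⟨P, hP⟩ := Ideal.exists_maximal W
    haveI := hP.isPrime
    let χR : R →+* W := (Algebra.TensorProduct.includeLeftRingHom : k' →+* W).comp (IsLocalRing.residue R)
    have hχ : ∀ x, χR (algebraMap S R x) = (Algebra.TensorProduct.includeRight : L →ₐ[k] W) (algebraMap S L x) := by
      intro x
      rw [IsScalarTower.algebraMap_apply S k L, AlgHom.commutes]
      change Algebra.TensorProduct.includeLeftRingHom (IsLocalRing.residue R (algebraMap S R x)) =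
        Algebra.TensorProduct.includeLeftRingHom (algebraMap k k' (IsLocalRing.residue S x))
      congr 1
    let χ₁ : C₁ →ₐ[K] W :=
      { ((Algebra.TensorProduct.includeRight : L →ₐ[k] W) : L →+* W).comp
          (φ.toRingHom.comp (Algebra.TensorProduct.includeRight : C₁ →ₐ[K] S ⊗[K] C₁).toRingHom) with
        commutes' := fun r => by
          change (Algebra.TensorProduct.includeRight : L →ₐ[k] W) (φ ((1 : S) ⊗ₜ algebraMap K C₁ r)) =
            χR (algebraMap K R r)
          rw [Algebra.algebraMap_eq_smul_one (A := C₁), tmul_smul, ← algebraMap_smul S r, map_smul,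
            ← Algebra.TensorProduct.one_def, map_one, ← Algebra.algebraMap_eq_smul_one,
            IsScalarTower.algebraMap_apply K S R, hχ] }
    let χR' : R →ₐ[K] W := { χR with commutes' := fun r => rfl }
    let χ : R ⊗[K] C₁ →ₐ[K] W := Algebra.TensorProduct.lift χR' χ₁ fun _ _ => Commute.all _ _
    have hcomp : ∀ z, χ (stageMap g z) = (Algebra.TensorProduct.includeRight : L →ₐ[k] W) (φ z) := by
      intro z
      induction z using TensorProduct.induction_on with
      | zero => simp
      | add x y hx hy => simp only [map_add, hx, hy]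
      | tmul x c =>
        change χR (algebraMap S R x) * (Algebra.TensorProduct.includeRight : L →ₐ[k] W) (φ ((1 : S) ⊗ₜ c)) = _
        rw [hχ, ← map_mul, ← Algebra.smul_def, ← map_smul, smul_tmul', smul_eq_mul, _root_.mul_one]
    refine ⟨⟨P.comap χ.toRingHom, Ideal.IsPrime.comap _⟩, ?_, ?_⟩
    · change Ideal.map (algebraMap R (R ⊗[K] C₁)) (IsLocalRing.maximalIdeal R) ≤ P.comap χ.toRingHom
      rw [Ideal.map_le_iff_le_comap]
      intro x hx
      change χ (x ⊗ₜ (1 : C₁)) ∈ P
      rw [Algebra.TensorProduct.lift_tmul, map_one, _root_.mul_one]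
      change Algebra.TensorProduct.includeLeftRingHom (IsLocalRing.residue R x) ∈ P
      rw [show IsLocalRing.residue R x = 0 from Ideal.Quotient.eq_zero_iff_mem.mpr hx, map_zero]
      exact P.zero_mem
    · ext z
      change χ (stageMap g z) ∈ P ↔ z ∈ Q
      rw [hcomp, ← Ideal.algebraMap_residueField_eq_zero (I := Q)]
      change (P.comap (Algebra.TensorProduct.includeRight : L →ₐ[k] W).toRingHom).carrier (φ z) ↔ φ z = 0
      rw [(Ideal.eq_bot_of_prime (P.comap (Algebra.TensorProduct.includeRight : L →ₐ[k] W).toRingHom))]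
      rfl
  refine flat_stageMap f Q ?_
  have h1 := hflat q hqZ
  have : ∀ (Q' : Ideal (G T₀ ⊗[K] C₁)) [Q'.IsPrime], Q' = (PrimeSpectrum.comap (β T₀).toRingHom q).asIdeal →
      Module.Flat (G T₀) (LocalizedModule Q'.primeCompl (G T₀ ⊗[K] C₁)) := by
    rintro Q' _ rfl
    exact h1
  refine this _ ?_
  rw [← hqQ]
  change (q.asIdeal.comap (stageMap g)).comap (stageMap f) = q.asIdeal.comap (β T₀).toRingHom
  ext z
  change stageMap g (stageMap f z) ∈ q.asIdeal ↔ β T₀ z ∈ q.asIdeal
  rw [show stageMap g (stageMap f z) = β T₀ z from (stageMap_comp f g z).trans (congrArg (fun a => stageMap a z)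
    (AlgHom.ext fun x => (IsScalarTower.algebraMap_apply (G T₀) S R x).symm))]

end GrothLib.MultLocal
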