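import Groth.Agent.Lib.MultLocal.Main
import Groth.Agent.Lib.IndEt.Retract
import Mathlib.RingTheory.FinitePresentation
import Mathlib.RingTheory.Etale.Basic

/-!
Being of multiplicative type at a prime spreads out to a neighbourhood (finite presentation).
-/

universe u

set_option linter.style.haveILetI false
set_option maxSynthPendingDepth 3

open TensorProduct MonoidAlgebra

namespace GrothLib.MultLocal

section Frame

variable {R : Type u} [CommRing R] {A : Type u} [CommRing A] [HopfAlgebra R A] {M : Type u} [CommGroup M]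

theorem exists_killer_coeff (P : Ideal R) [P.IsPrime] {f : R}
    (φ : Localization.Away f →ₐ[R] Localization.AtPrime P) (c : Localization.Away f) (hc : φ c = 0) :
    ∃ u : R, u ∉ P ∧ ∀ (T : Type u) [CommRing T] [Algebra R T] (j : Localization.Away f →ₐ[R] T),
      IsUnit (algebraMap R T u) → j c = 0 := by
  obtain ⟨⟨a, w⟩, haw⟩ := IsLocalization.surj (Submonoid.powers f) c
  have h0 : algebraMap R (Localization.AtPrime P) a = 0 := by
    rw [← φ.commutes, ← haw, map_mul, hc, MulZeroClass.zero_mul]
  obtain ⟨⟨u, hu⟩, hua⟩ := (IsLocalization.map_eq_zero_iff P.primeCompl _ a).mp h0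
  refine ⟨u, hu, fun T _ _ j hju => ?_⟩
  have hw : IsUnit (algebraMap R T w) := by
    rw [← j.commutes]
    exact (IsLocalization.map_units (Localization.Away f) w).map j
  refine hw.mul_left_eq_zero.mp (hju.mul_right_eq_zero.mp ?_)
  rw [← j.commutes (w : R), ← map_mul j, haw, j.commutes, ← map_mul, hua, map_zero]

/-- Spreading out of frames for bialgebras of finite presentation. -/
theorem exists_frame_away_fp [Algebra.FinitePresentation R A] [Group.FG M] (P : Ideal R) [P.IsPrime]
    {gL : M →* GroupLike (Localization.AtPrime P) (Localization.AtPrime P ⊗[R] A)} (hgL : IsFrame gL) :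
    ∃ f : R, f ∉ P ∧ ∃ gf : M →* GroupLike (Localization.Away f) (Localization.Away f ⊗[R] A), IsFrame gf := by
  classical
  obtain ⟨f, hf, g₂, φ, hsurj, hcompat⟩ := exists_surj_frame_away P hgL
  let T := Localization.Away f
  let π : MonoidAlgebra T M →ₐ[T] T ⊗[R] A := (glHom g₂ : MonoidAlgebra T M →ₐ[T] T ⊗[R] A)
  haveI : Monoid.FG M := Group.fg_iff_monoid_fg.mp inferInstance
  obtain ⟨n, ρ, hρ⟩ := Algebra.FiniteType.iff_quotient_mvPolynomial''.1
    (inferInstance : Algebra.FiniteType T (MonoidAlgebra T M))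
  obtain ⟨s, hs⟩ : (RingHom.ker π.toRingHom).FG := by
    convert! (Algebra.FinitePresentation.ker_fg_of_mvPolynomial (π.comp ρ) (hsurj.comp hρ)).map ρ.toRingHom
    simp_rw [RingHom.ker_eq_comap_bot, AlgHom.toRingHom_eq_coe, AlgHom.comp_toRingHom]
    rw [← Ideal.comap_comap, Ideal.map_comap_of_surjective (ρ : MvPolynomial (Fin n) T →+* MonoidAlgebra T M) hρ]
  have hzero : ∀ z : s, mapRingHom M (φ : T →+* Localization.AtPrime P) z.1 = 0 := fun z => by
    refine hgL.1 ?_
    rw [show gL = (glMap A φ).comp g₂ from MonoidHom.ext fun v => (hcompat v).symm, glHom_glMap]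
    have : glHom g₂ z.1 = 0 := by
      have h := (hs ▸ Submodule.subset_span z.2 : z.1 ∈ RingHom.ker π.toRingHom)
      exact h
    rw [this, map_zero, map_zero]
  choose u hu hkill using fun (z : s) (v : z.1.coeff.support) => exists_killer_coeff P φ (z.1.coeff v.1) (by
    simpa using congrArg (fun w => w.coeff v.1) (hzero z))
  let f₃ := f * ∏ z : s, ∏ v : z.1.coeff.support, u z v
  have hf₃ : f₃ ∉ P := by
    change f₃ ∈ P.primeCompl
    exact mul_mem hf (prod_mem fun z _ => prod_mem fun v _ => hu z v)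
  let T₃ := Localization.Away f₃
  let j : T →ₐ[R] T₃ := IsLocalization.liftAlgHom (M := Submonoid.powers f) (f := Algebra.ofId R T₃)
    (fun y => by
      obtain ⟨n, hn⟩ := y.2
      change IsUnit (algebraMap R T₃ y.1)
      rw [← hn, map_pow]
      exact (isUnit_away_of_dvd (dvd_mul_right f _)).pow n)
  have hker : ∀ z ∈ RingHom.ker π.toRingHom, mapRingHom M (j : T →+* T₃) z = 0 := by
    have : RingHom.ker π.toRingHom ≤ RingHom.ker (mapRingHom M (j : T →+* T₃)) := by
      rw [← hs, Ideal.span_le]
      intro z hz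
      refine MonoidAlgebra.ext (Finsupp.ext fun v => ?_)
      rw [coeff_mapRingHom, coeff_zero, Finsupp.coe_zero, Pi.zero_apply]
      by_cases hv : v ∈ z.coeff.support
      · refine hkill ⟨z, hz⟩ ⟨v, hv⟩ T₃ j (isUnit_away_of_dvd ?_)
        exact ((Finset.dvd_prod_of_mem (u ⟨z, hz⟩) (Finset.mem_univ ⟨v, hv⟩)).trans
          (Finset.dvd_prod_of_mem (fun z : s => ∏ v : z.1.coeff.support, u z v)
            (Finset.mem_univ (⟨z, hz⟩ : s)))).trans (dvd_mul_left _ _)
      · rw [Finsupp.notMem_support_iff.mp hv, map_zero]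
    exact this
  let ψ : T ⊗[R] A →+* MonoidAlgebra T₃ M :=
    (RingHom.liftOfSurjective π.toRingHom hsurj : _ ≃ (T ⊗[R] A →+* MonoidAlgebra T₃ M))
      ⟨mapRingHom M (j : T →+* T₃), hker⟩
  have hψ : ∀ z, ψ (glHom g₂ z) = mapRingHom M (j : T →+* T₃) z := fun z =>
    RingHom.liftOfSurjective_comp_apply π.toRingHom hsurj _ z
  have hψt : ∀ t : T, ψ (t ⊗ₜ[R] (1 : A)) = algebraMap T₃ (MonoidAlgebra T₃ M) (j t) := fun t => by
    have h1 : glHom g₂ (single (1 : M) t) = t ⊗ₜ[R] (1 : A) := by
      rw [glHom_single, map_one, GroupLike.val_one, Algebra.TensorProduct.one_def, smul_tmul', smul_eq_mul,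
        _root_.mul_one]
    rw [← h1, hψ, mapRingHom_single]
    rfl
  let ψA : A →ₐ[R] MonoidAlgebra T₃ M :=
    { ψ.comp (Algebra.TensorProduct.includeRight : A →ₐ[R] T ⊗[R] A).toRingHom with
      commutes' := fun r => by
        change ψ ((Algebra.TensorProduct.includeRight : A →ₐ[R] T ⊗[R] A) (algebraMap R A r)) = _
        rw [AlgHom.commutes, Algebra.TensorProduct.algebraMap_apply, hψt, AlgHom.commutes,
          ← IsScalarTower.algebraMap_apply] }
  let θ : T₃ ⊗[R] A →ₐ[T₃] MonoidAlgebra T₃ M :=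
    Algebra.TensorProduct.lift (Algebra.ofId T₃ _) ψA fun _ _ => Commute.all _ _
  have hθ : ∀ y, θ (coefMap A j y) = ψ y := fun y => by
    induction y using TensorProduct.induction_on with
    | zero => simp
    | add a b ha hb => simp only [map_add, ha, hb]
    | tmul t a =>
      rw [coefMap_tmul, Algebra.TensorProduct.lift_tmul]
      conv_rhs => rw [← _root_.mul_one t, ← _root_.one_mul a, ← Algebra.TensorProduct.tmul_mul_tmul, map_mul, hψt]
      rfl
  refine ⟨f₃, hf₃, (glMap A j).comp g₂, Function.LeftInverse.injective (g := θ) fun x => ?_,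
    surjective_glHom_map j hsurj⟩
  induction x using MonoidAlgebra.induction_linear with
  | zero => simp
  | add a b ha hb => simp only [map_add, ha, hb]
  | single m r =>
    rw [glHom_single, map_smul, MonoidHom.comp_apply, glMap_val, hθ,
      show (g₂ m).val = glHom g₂ (single m 1) by rw [glHom_single, one_smul], hψ, mapRingHom_single, map_one,
      smul_single, smul_eq_mul, _root_.mul_one]

end Frame

section Descend

variable {R : Type u} [CommRing R]

/-- An etale algebra over the local ring at `p` comes, near a given prime, from an etale algebra over `R`. -/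
theorem exists_etale_model (p : Ideal R) [p.IsPrime] (B : Type u) [CommRing B] [Algebra R B]
    [IsLocalization.AtPrime B p] (E : Type u) [CommRing E] [Algebra R E]
    [Algebra B E] [IsScalarTower R B E] [Algebra.Etale B E] (q : Ideal E) [q.IsPrime] (hq : q.comap (algebraMap R E) = p) :
    ∃ (E₁ : Type u) (_ : CommRing E₁) (_ : Algebra R E₁) (Q : Ideal E₁) (_ : Q.IsPrime),
      Algebra.Etale R E₁ ∧ Q.comap (algebraMap R E₁) = p ∧ Nonempty (E →ₐ[R] Localization.AtPrime Q) := by
  obtain ⟨A₀, C₀, _, _, hfg, het, ⟨e⟩⟩ := Algebra.Etale.exists_subalgebra_fg ℤ B E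
  haveI : Algebra.FiniteType ℤ A₀ := (Subalgebra.fg_iff_finiteType A₀).1 hfg
  haveI : Algebra.FinitePresentation ℤ A₀ := Algebra.FinitePresentation.of_finiteType.1 inferInstance
  let gP : R ⊗[ℤ] A₀ →ₐ[R] B :=
 Algebra.TensorProduct.lift (Algebra.ofId R B) A₀.val (fun _ _ => Commute.all _ _)
  obtain ⟨s, -, a, b, hab⟩ := GrothLib.IndEt.exists_away_factor p.primeCompl gP
  let L := Localization.Away s
  letI : Algebra A₀ L := (a.toRingHom.comp Algebra.TensorProduct.includeRight.toRingHom).toAlgebra
  haveI : Algebra.Etale R L := Algebra.Etale.of_isLocalizationAway s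
  haveI : Algebra.Etale A₀ C₀ := het
  let C₁ := L ⊗[A₀] C₀
  letI : Algebra R C₁ := Algebra.TensorProduct.leftAlgebra
  haveI : Algebra.Etale R C₁ := Algebra.Etale.comp R L C₁
  have hLB : ∀ r : A₀, b (algebraMap A₀ L r) = r.1 := fun r => by
    change b (a ((1 : R) ⊗ₜ[ℤ] r)) = r.1
    rw [← AlgHom.comp_apply, hab]
    exact (Algebra.TensorProduct.lift_tmul _ _ _ _ _).trans (by rw [map_one, _root_.one_mul]; rfl)
  let ι : C₁ →+* E := e.symm.toRingHom.comp
    (Algebra.TensorProduct.map ({ b.toRingHom with commutes' := hLB } : L →ₐ[A₀] B)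
      (AlgHom.id A₀ C₀)).toRingHom
  have hι : ∀ r, ι (algebraMap R C₁ r) = algebraMap R E r := fun r => by
    change e.symm (Algebra.TensorProduct.map ({ b.toRingHom with commutes' := hLB } : L →ₐ[A₀] B)
      (AlgHom.id A₀ C₀) (algebraMap R L r ⊗ₜ[A₀] (1 : C₀))) = _
    rw [Algebra.TensorProduct.map_tmul, map_one]
    change e.symm (algebraMap B (B ⊗[A₀] C₀) (b (algebraMap R L r))) = _
    rw [AlgEquiv.commutes, AlgHom.commutes, ← IsScalarTower.algebraMap_apply]
  let Q := q.comap ι
  have hQ : Q.comap (algebraMap R C₁) = p := by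
    rw [Ideal.comap_comap, show ι.comp (algebraMap R C₁) = algebraMap R E from RingHom.ext hι, hq]
  refine ⟨C₁, inferInstance, inferInstance, Q, inferInstance, inferInstance, hQ, ?_⟩
  let W := Localization.AtPrime Q
  have hp : ∀ y : p.primeCompl, IsUnit (algebraMap R W y) := fun y => by
    rw [IsScalarTower.algebraMap_apply R C₁ W]
    exact IsLocalization.map_units W (⟨_, fun h => y.2 (hQ.le (Ideal.mem_comap.mpr h))⟩ : Q.primeCompl)
  let χ : B →ₐ[R] W := IsLocalization.liftAlgHom (M := p.primeCompl) (S := B) (f := Algebra.ofId R W) hp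
  have hχ : ∀ l : L, χ (b l) = algebraMap C₁ W (l ⊗ₜ[A₀] (1 : C₀)) := by
    have : χ.comp b = (IsScalarTower.toAlgHom R C₁ W).comp (Algebra.TensorProduct.includeLeft : L →ₐ[R] C₁) :=
      IsLocalization.algHom_ext (Submonoid.powers s) (Subsingleton.elim _ _)
    exact AlgHom.congr_fun this
  have hχ₀ : ∀ r : A₀, χ r.1 = algebraMap A₀ W r := fun r => by
    rw [IsScalarTower.algebraMap_apply A₀ C₁ W, ← hLB, hχ]
    rfl
  let χ₀ : B →ₐ[A₀] W := { χ.toRingHom with commutes' := hχ₀ }
  let μ : B ⊗[A₀] C₀ →ₐ[A₀] W := Algebra.TensorProduct.lift χ₀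
    ((IsScalarTower.toAlgHom A₀ C₁ W).comp Algebra.TensorProduct.includeRight) fun _ _ => Commute.all _ _
  refine ⟨{ μ.toRingHom.comp e.toRingHom with commutes' := fun r => ?_ }⟩
  change μ (e (algebraMap R E r)) = algebraMap R W r
  rw [IsScalarTower.algebraMap_apply R B E, AlgEquiv.commutes, Algebra.TensorProduct.algebraMap_apply]
  exact ((Algebra.TensorProduct.lift_tmul _ _ _ _ _).trans (by rw [map_one, _root_.mul_one]; rfl)).trans (χ.commutes r)

end Descend

section Nbhd

variable {R : Type u} [CommRing R] {A : Type u} [CommRing A] [HopfAlgebra R A]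

/-- An etale neighbourhood with a frame gives a basic open over which the type is constant. -/
theorem exists_away_const_of_etale_frame (p : Ideal R) [p.IsPrime] {E : Type u} [CommRing E] [Algebra R E]
    [Algebra.Etale R E] (q : Ideal E) (hq : q.IsPrime) (hqp : q.comap (algebraMap R E) = p) {M : Type u}
    [CommGroup M] {g : M →* GroupLike E (E ⊗[R] A)} (hg : IsFrame g) :
    ∃ f : R, f ∉ p ∧ SGA3b.IsQuasiIsotrivialConst (Localization.Away f) (Localization.Away f ⊗[R] A) := by
  have hopen : IsOpen (Set.range (PrimeSpectrum.comap (algebraMap R E))) :=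
    PrimeSpectrum.isOpenMap_comap_of_hasGoingDown_of_finitePresentation.isOpen_range
  obtain ⟨_, ⟨f, rfl⟩, hpf, hsub⟩ := PrimeSpectrum.isTopologicalBasis_basic_opens.exists_subset_of_mem_open
    (show (⟨p, inferInstance⟩ : PrimeSpectrum R) ∈ Set.range (PrimeSpectrum.comap (algebraMap R E)) from
      ⟨⟨q, hq⟩, PrimeSpectrum.ext hqp⟩) hopen
  refine ⟨f, hpf, ?_⟩
  let Rf := Localization.Away f
  haveI : Module.FaithfullyFlat Rf (Rf ⊗[R] E) := by
    refine Module.FaithfullyFlat.of_comap_surjective fun x => ?_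
    obtain ⟨y, hy⟩ := hsub (show PrimeSpectrum.comap (algebraMap R Rf) x ∈
        (PrimeSpectrum.basicOpen f : Set (PrimeSpectrum R)) by
      rw [← PrimeSpectrum.localization_away_comap_range Rf f]; exact Set.mem_range_self x)
    have hfy : f ∉ y.asIdeal.comap (algebraMap R E) := by
      intro hmem
      have h1 : algebraMap R Rf f ∈ x.asIdeal := (congrArg PrimeSpectrum.asIdeal hy).le hmem
      exact x.isPrime.ne_top (Ideal.eq_top_of_isUnit_mem _ h1
        (IsLocalization.map_units Rf (⟨f, 1, pow_one f⟩ : Submonoid.powers f)))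
    let Ey := Localization.AtPrime y.asIdeal
    have hu : IsUnit (algebraMap R Ey f) := by
      rw [IsScalarTower.algebraMap_apply R E Ey]
      exact IsLocalization.map_units Ey (⟨_, hfy⟩ : y.asIdeal.primeCompl)
    let a : Rf →ₐ[R] Ey := IsLocalization.liftAlgHom (M := Submonoid.powers f) (f := Algebra.ofId R Ey) (fun u => by
      obtain ⟨k, hk⟩ := u.2
      change IsUnit (algebraMap R Ey u.1)
      rw [← hk, map_pow]
      exact hu.pow k)
    let φ : Rf ⊗[R] E →ₐ[R] Ey :=
      Algebra.TensorProduct.lift a (IsScalarTower.toAlgHom R E Ey) fun _ _ => Commute.all _ _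
    refine ⟨PrimeSpectrum.comap φ.toRingHom ⟨IsLocalRing.maximalIdeal Ey, inferInstance⟩,
      PrimeSpectrum.localization_comap_injective Rf (Submonoid.powers f) (PrimeSpectrum.ext ?_)⟩
    refine Eq.trans ?_ (congrArg PrimeSpectrum.asIdeal hy)
    simp only [PrimeSpectrum.comap_asIdeal, Ideal.comap_comap]
    refine Eq.trans ?_ (congrArg (Ideal.comap (algebraMap R E))
      (Localization.AtPrime.comap_maximalIdeal (I := y.asIdeal)))
    rw [Ideal.comap_comap]
    congr 1
    refine RingHom.ext fun r => ?_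
    change φ (algebraMap Rf (Rf ⊗[R] E) (algebraMap R Rf r)) = algebraMap E Ey (algebraMap R E r)
    rw [← IsScalarTower.algebraMap_apply R Rf, φ.commutes, IsScalarTower.algebraMap_apply R E Ey]
  exact ⟨Rf ⊗[R] E, inferInstance, inferInstance, inferInstance, inferInstance, M, inferInstance,
    ⟨((hg.map (Algebra.TensorProduct.includeRight : E →ₐ[R] Rf ⊗[R] E)).push
      (GrothLib.Hopf.cancelBaseChange R Rf (Rf ⊗[R] E) A).symm).equiv.symm⟩⟩

/-- Being of multiplicative type at a prime spreads out to a neighbourhood. -/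
theorem exists_away_const_of_atPrime [Algebra.FinitePresentation R A] (p : Ideal R) [p.IsPrime]
    (h : SGA3b.IsMultType (Localization.AtPrime p) (Localization.AtPrime p ⊗[R] A)) :
    ∃ f : R, f ∉ p ∧ SGA3b.IsQuasiIsotrivialConst (Localization.Away f) (Localization.Away f ⊗[R] A) := by
  let B := Localization.AtPrime p
  obtain ⟨E, _, _, q, M, _, hE, hq, hqp, hfg, g, hg⟩ :=
    exists_etale_frame_of_isMultType h (IsLocalRing.maximalIdeal B)
  letI : Algebra R E := Algebra.compHom E (algebraMap R B)
  haveI : IsScalarTower R B E := IsScalarTower.of_algebraMap_eq fun _ => rfl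
  haveI := hq
  have hqp' : q.comap (algebraMap R E) = p := by
    rw [IsScalarTower.algebraMap_eq R B E, ← Ideal.comap_comap, hqp]
    exact Localization.AtPrime.comap_maximalIdeal
  obtain ⟨E₁, _, _, Q, _, hE₁, hQ, ⟨χ⟩⟩ := exists_etale_model p B E q hqp'
  have hg₁ := ((hg.push (GrothLib.Hopf.cancelBaseChange R B E A)).map χ).push
    (GrothLib.Hopf.cancelBaseChange R E₁ (Localization.AtPrime Q) A).symm
  haveI := hfg
  obtain ⟨f, hf, gf, hgf⟩ := exists_frame_away_fp (R := E₁) (A := E₁ ⊗[R] A) Q hg₁
  let E₂ := Localization.Away f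
  haveI : Algebra.Etale E₁ E₂ := Algebra.Etale.of_isLocalizationAway f
  haveI : Algebra.Etale R E₂ := Algebra.Etale.comp R E₁ E₂
  have hdis := (Ideal.disjoint_powers_iff_notMem f (‹Q.IsPrime›).isRadical).mpr hf
  refine exists_away_const_of_etale_frame p (E := E₂) (Q.map (algebraMap E₁ E₂))
    (IsLocalization.isPrime_of_isPrime_disjoint (Submonoid.powers f) _ Q inferInstance hdis) ?_
    (hgf.push (GrothLib.Hopf.cancelBaseChange R E₁ E₂ A))
  rw [IsScalarTower.algebraMap_eq R E₁ E₂, ← Ideal.comap_comap, ← Ideal.under_def (A := E₁),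
    IsLocalization.under_map_of_isPrime_disjoint (Submonoid.powers f) _ inferInstance hdis, hQ]

/-- Being of multiplicative type may be checked on the local rings of the base (finite presentation). -/
theorem isMultType_of_atPrime [Algebra.FinitePresentation R A]
    (h : ∀ (p : Ideal R) [p.IsPrime],
      SGA3b.IsMultType (Localization.AtPrime p) (Localization.AtPrime p ⊗[R] A)) :
    SGA3b.IsMultType R A := by
  refine ⟨{f | SGA3b.IsMultTypeConst (Localization.Away f) (Localization.Away f ⊗[R] A)}, ?_, fun f hf => hf⟩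
  by_contra hne
  obtain ⟨p, hp, hle⟩ := Ideal.exists_le_maximal _ hne
  haveI := hp.isPrime
  obtain ⟨f, hf, R', _, _, -, hff, hd⟩ := exists_away_const_of_atPrime p (h p)
  exact hf (hle (Ideal.subset_span ⟨R', inferInstance, inferInstance, hff, hd⟩))

end Nbhd

end GrothLib.MultLocal
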