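import Groth.Agent.Lib.Hopf.GroupAlg
import Groth.Agent.Lib.Hopf.BaseChange
import Mathlib.RingTheory.HopfAlgebra.GroupLike
import Mathlib.RingTheory.Bialgebra.TensorProduct
import Mathlib.RingTheory.LocalRing.ResidueField.Ideal
import Mathlib.RingTheory.Idempotents
import Mathlib.RingTheory.Localization.AtPrime.Basic

/-!
Frames of bialgebras: families of group-like elements presenting a bialgebra as a group algebra.
-/

universe u

set_option linter.style.haveILetI false

open TensorProduct MonoidAlgebra

namespace GrothLib.MultLocal

section Basic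

variable {T : Type u} [CommRing T] {B : Type u} [CommRing B] [Bialgebra T B] {M : Type u} [CommGroup M]

/-- The bialgebra map of a family of group-like elements. -/
noncomputable def glHom (g : M →* GroupLike T B) : MonoidAlgebra T M →ₐc[T] B :=
  (liftGroupLikeBialgHom (R := T) (A := B)).comp (mapDomainBialgHom T g)

@[simp]
theorem glHom_single (g : M →* GroupLike T B) (m : M) (r : T) :
    glHom g (single m r) = r • (g m).val := by
  simp [glHom]

/-- A family of group-like elements presenting `B` as a group algebra. -/
def IsFrame (g : M →* GroupLike T B) : Prop := Function.Bijective (glHom g)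

/-- The isomorphism given by a frame. -/
noncomputable def IsFrame.equiv {g : M →* GroupLike T B} (hg : IsFrame g) : MonoidAlgebra T M ≃ₐc[T] B :=
  BialgEquiv.ofBijective (glHom g) hg

theorem IsFrame.equiv_apply {g : M →* GroupLike T B} (hg : IsFrame g) (z : MonoidAlgebra T M) :
    hg.equiv z = glHom g z := rfl

/-- A frame from an isomorphism with a group algebra. -/
theorem exists_frame_of_equiv (e : B ≃ₐc[T] MonoidAlgebra T M) : ∃ g : M →* GroupLike T B, IsFrame g := by
  let g : M →* GroupLike T B :=
    { toFun := fun m => ⟨e.symm (single m 1), (isGroupLikeElem_single_one m).map e.symm⟩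
      map_one' := GroupLike.ext (map_one e.symm)
      map_mul' := fun a b => GroupLike.ext (by
        change e.symm (single (a * b) 1) = e.symm (single a 1) * e.symm (single b 1)
        rw [← map_mul, single_mul_single, _root_.mul_one]) }
  refine ⟨g, ?_⟩
  have h : ∀ z, glHom g z = e.symm z := by
    intro z
    induction z using MonoidAlgebra.induction_linear with
    | zero => simp
    | add x y hx hy => rw [map_add, map_add, hx, hy]
    | single m r =>
      rw [glHom_single]
      change r • e.symm (single m 1) = _
      rw [← map_smul, smul_single, smul_eq_mul, _root_.mul_one]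
  rw [IsFrame, show (glHom g : MonoidAlgebra T M → B) = e.symm from funext h]
  exact e.symm.bijective

/-- The coefficients of a group-like element are orthogonal idempotents. -/
theorem coeff_mul_coeff [DecidableEq M] {x : MonoidAlgebra T M} (hx : IsGroupLikeElem T x) (a b : M) :
    x.coeff a * x.coeff b = if a = b then x.coeff a else 0 := by
  have h := GrothLib.Hopf.coeffAt_comul a b x
  rw [hx.comul_eq_tmul_self, TensorProduct.map_tmul, LinearMap.mul'_apply] at h
  exact h

theorem isIdempotentElem_coeff {x : MonoidAlgebra T M} (hx : IsGroupLikeElem T x) (a : M) :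
    IsIdempotentElem (x.coeff a) := by
  classical
  exact (coeff_mul_coeff hx a a).trans (if_pos rfl)

/-- Over a local ring the group-like elements of a group algebra are the basis elements. -/
theorem exists_eq_single [IsLocalRing T] {x : MonoidAlgebra T M} (hx : IsGroupLikeElem T x) :
    ∃ m, x = single m 1 := by
  classical
  have h01 : ∀ a, x.coeff a = 0 ∨ x.coeff a = 1 := fun a => by
    have he : x.coeff a * x.coeff a = x.coeff a := (coeff_mul_coeff hx a a).trans (if_pos rfl)
    rcases IsLocalRing.isUnit_or_isUnit_one_sub_self (x.coeff a) with h | h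
    · exact Or.inr (h.mul_left_cancel (he.trans (_root_.mul_one _).symm))
    · refine Or.inl (h.mul_left_cancel ?_)
      rw [sub_mul, _root_.one_mul, he, sub_self, MulZeroClass.mul_zero]
  obtain ⟨m, hm⟩ : ∃ m, x.coeff m = 1 := by
    by_contra! h
    exact hx.ne_zero (MonoidAlgebra.ext (Finsupp.ext fun a => (h01 a).resolve_right (h a)))
  refine ⟨m, MonoidAlgebra.ext (Finsupp.ext fun a => ?_)⟩
  rw [coeff_single, Finsupp.single_apply]
  split_ifs with h
  · exact h ▸ hm
  · have := coeff_mul_coeff hx m a
    rwa [hm, _root_.one_mul, if_neg h] at this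

theorem single_one_injective [Nontrivial T] : Function.Injective fun m : M => (single m 1 : MonoidAlgebra T M) := by
  intro a b h
  classical
  have := congrArg (fun z => z.coeff a) h
  simp only [coeff_single, Finsupp.single_apply] at this
  by_contra hab
  rw [if_pos trivial, if_neg (Ne.symm hab)] at this
  exact one_ne_zero this

theorem IsFrame.injective {g : M →* GroupLike T B} (hg : IsFrame g) [Nontrivial T] : Function.Injective g := by
  intro a b h
  refine single_one_injective (T := T) (hg.1 ?_)
  rw [glHom_single, glHom_single, h]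

/-- Over a local ring the group-like elements are the members of a frame. -/
theorem IsFrame.surjective {g : M →* GroupLike T B} (hg : IsFrame g) [IsLocalRing T] : Function.Surjective g := by
  intro x
  obtain ⟨z, hz⟩ := hg.2 x.val
  have hgl : IsGroupLikeElem T (hg.equiv z) := by
    rw [hg.equiv_apply, hz]; exact x.isGroupLikeElem_val
  obtain ⟨m, hm⟩ := exists_eq_single ((isGroupLikeElem_map_equiv hg.equiv).mp hgl)
  refine ⟨m, GroupLike.ext ?_⟩
  rw [← hz, hm, glHom_single, one_smul]

/-- Push forward of group-like elements along a bialgebra map. -/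
noncomputable def glPush {B' : Type u} [CommRing B'] [Bialgebra T B'] (φ : B →ₐc[T] B') :
    GroupLike T B →* GroupLike T B' where
  toFun x := ⟨φ x.val, x.isGroupLikeElem_val.map φ⟩
  map_one' := GroupLike.ext (map_one φ)
  map_mul' a b := GroupLike.ext (map_mul φ a.val b.val)

@[simp]
theorem glPush_val {B' : Type u} [CommRing B'] [Bialgebra T B'] (φ : B →ₐc[T] B') (x : GroupLike T B) :
    (glPush φ x).val = φ x.val := rfl

theorem glHom_glPush {B' : Type u} [CommRing B'] [Bialgebra T B'] (φ : B →ₐc[T] B') (g : M →* GroupLike T B)
    (z : MonoidAlgebra T M) : glHom ((glPush φ).comp g) z = φ (glHom g z) := by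
  induction z using MonoidAlgebra.induction_linear with
  | zero => simp
  | add x y hx hy => simp only [map_add, hx, hy]
  | single m r => simp

theorem IsFrame.push {B' : Type u} [CommRing B'] [Bialgebra T B'] (φ : B ≃ₐc[T] B') {g : M →* GroupLike T B}
    (hg : IsFrame g) : IsFrame ((glPush (φ : B →ₐc[T] B')).comp g) := by
  rw [IsFrame, show (glHom ((glPush (φ : B →ₐc[T] B')).comp g) : MonoidAlgebra T M → B') = φ ∘ glHom g from
    funext fun z => glHom_glPush (φ : B →ₐc[T] B') g z]
  exact φ.bijective.comp hg

end Basic

section BaseChange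

variable {R : Type u} [CommRing R] {A : Type u} [CommRing A] [Bialgebra R A]
  {T T' : Type u} [CommRing T] [CommRing T'] [Algebra R T] [Algebra R T'] {M : Type u} [CommGroup M]

variable (A) in
/-- Change of coefficients. -/
noncomputable def coefMap (f : T →ₐ[R] T') : T ⊗[R] A →ₐ[R] T' ⊗[R] A :=
  Algebra.TensorProduct.map f (AlgHom.id R A)

@[simp]
theorem coefMap_tmul (f : T →ₐ[R] T') (t : T) (a : A) : coefMap A f (t ⊗ₜ a) = f t ⊗ₜ a := rfl

theorem coefMap_smul (f : T →ₐ[R] T') (t : T) (x : T ⊗[R] A) : coefMap A f (t • x) = f t • coefMap A f x := by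
  induction x using TensorProduct.induction_on with
  | zero => simp
  | tmul s a => simp [smul_tmul']
  | add x y hx hy => simp only [smul_add, map_add, hx, hy]

theorem coefMap_comp {T'' : Type u} [CommRing T''] [Algebra R T''] (f : T →ₐ[R] T') (f' : T' →ₐ[R] T'')
    (x : T ⊗[R] A) : coefMap A f' (coefMap A f x) = coefMap A (f'.comp f) x := by
  induction x using TensorProduct.induction_on with
  | zero => simp
  | tmul s a => simp
  | add x y hx hy => simp only [map_add, hx, hy]

theorem isGroupLikeElem_coefMap (f : T →ₐ[R] T') {x : T ⊗[R] A} (hx : IsGroupLikeElem T x) :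
    IsGroupLikeElem T' (coefMap A f x) := by
  letI : Algebra T T' := f.toRingHom.toAlgebra
  haveI : IsScalarTower R T T' := IsScalarTower.of_algebraMap_eq fun r => (f.commutes r).symm
  have h1 : IsGroupLikeElem T' ((1 : T') ⊗ₜ[T] x) :=
    ⟨by simp [hx.counit_eq_one], by simp [hx.comul_eq_tmul_self]⟩
  have h2 : GrothLib.Hopf.cancelBaseChange R T T' A ((1 : T') ⊗ₜ[T] x) = coefMap A f x := by
    clear hx h1
    induction x using TensorProduct.induction_on with
    | zero => simp
    | tmul s a =>
      rw [GrothLib.Hopf.cancelBaseChange_tmul, coefMap_tmul]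
      exact congrArg (· ⊗ₜ a) (_root_.mul_one (f s))
    | add x y hx hy => simp only [tmul_add, map_add, hx, hy]
  rw [← h2]
  exact h1.map _

variable (A) in
/-- Change of coefficients on group-like elements. -/
noncomputable def glMap (f : T →ₐ[R] T') : GroupLike T (T ⊗[R] A) →* GroupLike T' (T' ⊗[R] A) where
  toFun x := ⟨coefMap A f x.val, isGroupLikeElem_coefMap f x.isGroupLikeElem_val⟩
  map_one' := GroupLike.ext (map_one (coefMap A f))
  map_mul' a b := GroupLike.ext (map_mul (coefMap A f) a.val b.val)

@[simp]
theorem glMap_val (f : T →ₐ[R] T') (x : GroupLike T (T ⊗[R] A)) : (glMap A f x).val = coefMap A f x.val := rfl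

theorem glMap_glMap {T'' : Type u} [CommRing T''] [Algebra R T''] (f : T →ₐ[R] T') (f' : T' →ₐ[R] T'')
    (x : GroupLike T (T ⊗[R] A)) : glMap A f' (glMap A f x) = glMap A (f'.comp f) x :=
  GroupLike.ext (coefMap_comp f f' x.val)

theorem glMap_id (x : GroupLike T (T ⊗[R] A)) : glMap A (AlgHom.id R T) x = x := by
  refine GroupLike.ext ?_
  change coefMap A (AlgHom.id R T) x.val = x.val
  generalize x.val = y
  induction y using TensorProduct.induction_on with
  | zero => simp
  | tmul s a => simp
  | add x y hx hy => simp only [map_add, hx, hy]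

theorem glHom_glMap (f : T →ₐ[R] T') (g : M →* GroupLike T (T ⊗[R] A)) (z : MonoidAlgebra T M) :
    glHom ((glMap A f).comp g) (mapRingHom M (f : T →+* T') z) = coefMap A f (glHom g z) := by
  induction z using MonoidAlgebra.induction_linear with
  | zero => simp
  | add x y hx hy => simp only [map_add, hx, hy]
  | single m r => simp [coefMap_smul]

theorem IsFrame.map (f : T →ₐ[R] T') {g : M →* GroupLike T (T ⊗[R] A)} (hg : IsFrame g) :
    IsFrame ((glMap A f).comp g) := by
  letI : Algebra T T' := f.toRingHom.toAlgebra
  haveI : IsScalarTower R T T' := IsScalarTower.of_algebraMap_eq fun r => (f.commutes r).symm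
  let E : MonoidAlgebra T' M ≃ₐc[T'] T' ⊗[R] A :=
    (GrothLib.Hopf.groupAlgBaseChange T T' M).symm.trans
      ((GrothLib.Hopf.congrBaseChange T' hg.equiv).trans (GrothLib.Hopf.cancelBaseChange R T T' A))
  have h : ∀ z, glHom ((glMap A f).comp g) z = E z := by
    intro z
    induction z using MonoidAlgebra.induction_linear with
    | zero => simp
    | add x y hx hy => simp only [map_add, hx, hy]
    | single m r =>
      have h1 : GrothLib.Hopf.groupAlgBaseChange T T' M (r ⊗ₜ single m 1) = single m r := by
        rw [GrothLib.Hopf.groupAlgBaseChange_tmul]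
        simp [mapAlgHom_single]
      change _ = GrothLib.Hopf.cancelBaseChange R T T' A (GrothLib.Hopf.congrBaseChange T' hg.equiv
        ((GrothLib.Hopf.groupAlgBaseChange T T' M).symm (single m r)))
      rw [← h1, BialgEquiv.symm_apply_apply, h1, GrothLib.Hopf.congrBaseChange_tmul, hg.equiv_apply, glHom_single,
        glHom_single, one_smul, MonoidHom.comp_apply, glMap_val]
      generalize (g m).val = y
      induction y using TensorProduct.induction_on with
      | zero => simp
      | add x y hx hy => simp only [smul_add, tmul_add, map_add, hx, hy]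
      | tmul s a =>
        rw [GrothLib.Hopf.cancelBaseChange_tmul, coefMap_tmul, smul_tmul']
        exact congrArg (· ⊗ₜ a) ((mul_comm r (f s)).trans rfl)
  rw [IsFrame, show (glHom ((glMap A f).comp g) : MonoidAlgebra T' M → T' ⊗[R] A) = E from funext h]
  exact E.bijective

/-- Group-like elements of a framed bialgebra are determined by their values at field points. -/
theorem IsFrame.ext_of_field {g : M →* GroupLike T (T ⊗[R] A)} (hg : IsFrame g) {x y : GroupLike T (T ⊗[R] A)}
    (h : ∀ (K : Type u) [Field K] [Algebra R K] (φ : T →ₐ[R] K), glMap A φ x = glMap A φ y) : x = y := by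
  obtain ⟨a, ha⟩ := hg.2 x.val
  obtain ⟨b, hb⟩ := hg.2 y.val
  have hga : IsGroupLikeElem T a := (isGroupLikeElem_map_equiv hg.equiv).mp (by
    rw [hg.equiv_apply, ha]; exact x.isGroupLikeElem_val)
  have hgb : IsGroupLikeElem T b := (isGroupLikeElem_map_equiv hg.equiv).mp (by
    rw [hg.equiv_apply, hb]; exact y.isGroupLikeElem_val)
  suffices hab : a = b by
    apply GroupLike.ext
    rw [← ha, ← hb, hab]
  refine MonoidAlgebra.ext (Finsupp.ext fun m => ?_)
  refine eq_of_isNilpotent_sub_of_isIdempotentElem (isIdempotentElem_coeff hga m) (isIdempotentElem_coeff hgb m) ?_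
  rw [nilpotent_iff_mem_prime]
  intro P hP
  let φ : T →ₐ[R] P.ResidueField := IsScalarTower.toAlgHom R T P.ResidueField
  have h1 : mapRingHom M (φ : T →+* P.ResidueField) a = mapRingHom M (φ : T →+* P.ResidueField) b := by
    apply (hg.map φ).1
    rw [glHom_glMap, glHom_glMap, ha, hb, ← glMap_val, ← glMap_val, h P.ResidueField φ]
  have h2 : φ (a.coeff m) = φ (b.coeff m) := by
    have := congrArg (fun z => z.coeff m) h1
    simpa using this
  rw [← Ideal.algebraMap_residueField_eq_zero]
  change φ (a.coeff m - b.coeff m) = 0
  rw [map_sub, h2, sub_self]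

end BaseChange

end GrothLib.MultLocal
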