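import Groth.Agent.Lib.MultLocal.Compare

/-!
Lifting split-locally Hopf algebras along nilpotent thickenings.
-/

universe u

set_option linter.style.haveILetI false
set_option maxSynthPendingDepth 3

open TensorProduct MonoidAlgebra

namespace GrothLib.MultLocal

variable {R R₀ : Type u} [CommRing R] [CommRing R₀] [Algebra R R₀] {ι : Type u} {T E : ι → Type u}
  [∀ i, CommRing (T i)] [∀ i, CommRing (E i)] [∀ i, Algebra R (T i)] [∀ i, Algebra R (E i)] [∀ i, Algebra R₀ (E i)]
  [∀ i, IsScalarTower R R₀ (E i)]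

theorem reduce_mem {A₀ : Type u} [CommRing A₀] [Bialgebra R₀ A₀] (D : Datum R T)
    {g : ∀ i, D.M i →* GroupLike (E i) (E i ⊗[R₀] A₀)} (hg : ∀ i, IsFrame (g i)) (π : ∀ i, T i →ₐ[R] E i)
    (hkey : ∀ i j (C : Type u) [CommRing C] [Algebra R C] [Algebra R₀ C] [IsScalarTower R R₀ C] (a : E i →ₐ[R₀] C)
        (b : E j →ₐ[R₀] C) (m : D.M i),
        mapRingHom (D.M j) (pair ((a.restrictScalars R).comp (π i)) ((b.restrictScalars R).comp (π j)) : T i ⊗[R] T j →+* C)
          (D.u i j m) = tr hg a b m) (x : D.A) :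
    (fun i => mapRingHom (D.M i) (π i : T i →+* E i) (x.1 i)) ∈ (frameDatum hg).sub := by
  refine (frameDatum hg).mem_sub.mpr fun i j => ?_
  let C := E i ⊗[R₀] E j
  let a : E i →ₐ[R₀] C := Algebra.TensorProduct.includeLeft
  let b : E j →ₐ[R₀] C := Algebra.TensorProduct.includeRight
  have hc := D.compat x i j ((a.restrictScalars R).comp (π i)) ((b.restrictScalars R).comp (π j))
  rw [push_congr _ (D.u i j) (tr hg a b) (fun n => hkey i j C a b n)] at hc
  rw [← mapRingHom_mapRingHom, ← mapRingHom_mapRingHom] at hc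
  refine Eq.trans ?_ hc
  change push (AlgHom.id R₀ C) (tr hg a b) _ = push (AlgHom.id R C) (tr hg a b) _
  rw [← push_congr ((AlgHom.id R₀ C).restrictScalars R) (tr hg a b) (tr hg a b)
    (fun n => MonoidAlgebra.ext (Finsupp.ext fun _ => by simp))]
  rfl

variable [Fintype ι]

/-- A datum reducing to the one of a family of frames gives a lift of the framed Hopf algebra. -/
theorem exists_lift_of_datum [Module.FaithfullyFlat R (∀ i, T i)] [Module.FaithfullyFlat R₀ (∀ i, E i)]
    (hs : Function.Surjective (algebraMap R R₀)) {A₀ : Type u} [CommRing A₀] [HopfAlgebra R₀ A₀] {M : ι → Type u}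
    [∀ i, CommGroup (M i)] (π : ∀ i, T i →ₐ[R] E i) {g : ∀ i, M i →* GroupLike (E i) (E i ⊗[R₀] A₀)}
    (hg : ∀ i, IsFrame (g i)) (w : ∀ i j, M i →* MonoidAlgebra (T i ⊗[R] T j) (M j))
    (hw : ∀ i j m, IsGroupLikeElem (T i ⊗[R] T j) (w i j m))
    (hunit : ∀ i m, mapRingHom (M i) (pair (AlgHom.id R (T i)) (AlgHom.id R (T i)) : T i ⊗[R] T i →+* T i) (w i i m) =
      single m 1)
    (hcoc : ∀ i j k (C : Type u) [CommRing C] [Algebra R C] (a : T i →ₐ[R] C) (b : T j →ₐ[R] C) (c : T k →ₐ[R] C) (m : M i),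
      push (pair b c) (w j k) (mapRingHom (M j) (pair a b : T i ⊗[R] T j →+* C) (w i j m)) =
        mapRingHom (M k) (pair a c : T i ⊗[R] T k →+* C) (w i k m))
    (hkey : ∀ i j (C : Type u) [CommRing C] [Algebra R C] [Algebra R₀ C] [IsScalarTower R R₀ C] (a : E i →ₐ[R₀] C)
      (b : E j →ₐ[R₀] C) (m : M i),
      mapRingHom (M j) (pair ((a.restrictScalars R).comp (π i)) ((b.restrictScalars R).comp (π j)) : T i ⊗[R] T j →+* C)
        (w i j m) = tr hg a b m) :
    ∃ (A : Type u) (_ : CommRing A) (_ : HopfAlgebra R A),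
      (∀ i, ∃ f : M i →* GroupLike (T i) (T i ⊗[R] A), IsFrame f) ∧ Nonempty ((R₀ ⊗[R] A) ≃ₐc[R₀] A₀) := by
  let D : Datum R T := { M := M, grp := fun i => inferInstance, u := w, unit := hunit, cocycle := hcoc }
  have hD : D.IsGL := hw
  letI : HopfAlgebra R D.A := Datum.hopf hD
  choose gT hgT htriv using fun k => Datum.exists_frame hD k
  refine ⟨D.A, inferInstance, inferInstance, fun i => ⟨gT i, hgT i⟩, ?_⟩
  let eΨ := AlgEquiv.ofBijective (toDatum hg) (toDatum_bijective hg)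
  let red : D.A →ₐ[R] (frameDatum hg).A :=
    (AlgHom.pi fun i => (MonoidAlgebra.mapAlgHom (M i) (π i)).comp
      ((Pi.evalAlgHom R (fun i => MonoidAlgebra (T i) (M i)) i).comp D.sub.val)).codRestrict
        ((frameDatum hg).sub.restrictScalars R) (fun x => reduce_mem D hg π hkey x)
  letI : Algebra R A₀ := Algebra.compHom A₀ (algebraMap R R₀)
  haveI : IsScalarTower R R₀ A₀ := IsScalarTower.of_algebraMap_eq fun _ => rfl
  let Φ : D.A →ₐ[R] A₀ := (eΨ.symm.toAlgHom.restrictScalars R).comp red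
  let F : R₀ ⊗[R] D.A →ₐ[R₀] A₀ :=
    Algebra.TensorProduct.lift (Algebra.ofId R₀ A₀) Φ fun _ _ => Commute.all _ _
  have hF : ∀ a, F ((1 : R₀) ⊗ₜ a) = Φ a := fun a => by simp [F]
  have hΦ : ∀ (k : ι) (a : D.A),
      (1 : E k) ⊗ₜ[R₀] Φ a = glHom (g k) (mapRingHom (M k) (π k : T k →+* E k) (a.1 k)) := by
    intro k a
    have h1 : toDatum hg (Φ a) = red a := eΨ.apply_symm_apply _
    have h2 := congrArg (fun z : (frameDatum hg).A => (hg k).equiv (z.1 k)) h1
    simp only [toDatum_apply, BialgEquiv.apply_symm_apply] at h2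
    rw [h2, IsFrame.equiv_apply]
    rfl
  let h₀ : ∀ k, M k →* GroupLike (E k) (E k ⊗[R] D.A) := fun k => (glMap D.A (π k)).comp (gT k)
  have hh₀ : ∀ k, IsFrame (h₀ k) := fun k => (hgT k).map (π k)
  have htriv' : ∀ (k : ι) (z : MonoidAlgebra (T k) (M k)), D.triv k (glHom (gT k) z) = z := by
    intro k z
    induction z using MonoidAlgebra.induction_linear with
    | zero => simp
    | add x y hx hy => rw [map_add, map_add, hx, hy]
    | single m r =>
      rw [glHom_single, map_smul, htriv, smul_single, smul_eq_mul, _root_.mul_one]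
  have hh₀' : ∀ (k : ι) (a : D.A),
      (hh₀ k).equiv.symm ((1 : E k) ⊗ₜ[R] a) = mapRingHom (M k) (π k : T k →+* E k) (a.1 k) := by
    intro k a
    apply (hh₀ k).equiv.toEquiv.injective
    change (hh₀ k).equiv _ = (hh₀ k).equiv _
    haveI : ∀ i, Module.Flat R (T i) := Datum.flat_factor
    have h3 : glHom (gT k) (a.1 k) = (1 : T k) ⊗ₜ[R] a :=
      (D.triv_bijective k).1 ((htriv' k _).trans ((D.triv_tmul k 1 a).trans (one_smul _ _)).symm)
    rw [BialgEquiv.apply_symm_apply, IsFrame.equiv_apply, glHom_glMap, h3, coefMap_tmul, map_one (π k)]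
  refine nonempty_bialgEquiv_of_locally (E := E) F
    (fun k => (GrothLib.Hopf.cancelBaseChange R R₀ (E k) D.A).trans ((hh₀ k).equiv.symm.trans (hg k).equiv))
    fun k x => ?_
  induction x using TensorProduct.induction_on with
  | zero => simp
  | add x y hx hy => simp only [tmul_add, map_add, hx, hy]
  | tmul r₀ a =>
    obtain ⟨r, rfl⟩ := hs r₀
    rw [show algebraMap R R₀ r ⊗ₜ[R] a = (1 : R₀) ⊗ₜ[R] (r • a) by rw [Algebra.algebraMap_eq_smul_one, smul_tmul],
      hF, hΦ]
    change (hg k).equiv ((hh₀ k).equiv.symm (GrothLib.Hopf.cancelBaseChange R R₀ (E k) D.A _)) = _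
    rw [GrothLib.Hopf.cancelBaseChange_tmul, one_smul, hh₀', IsFrame.equiv_apply]

/-- A split-locally Hopf algebra over a quotient by a nil ideal is the base change of one over the ring. -/
theorem exists_lift_of_frames [Module.FaithfullyFlat R (∀ i, T i)] [Module.FaithfullyFlat R₀ (∀ i, E i)]
    (hs : Function.Surjective (algebraMap R R₀)) (hnil : ∀ a ∈ RingHom.ker (algebraMap R R₀), IsNilpotent a)
    {A₀ : Type u} [CommRing A₀] [HopfAlgebra R₀ A₀] {M : ι → Type u} [∀ i, CommGroup (M i)]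
    (π : ∀ i, T i →ₐ[R] E i) (hπ : ∀ i, Function.Surjective (π i))
    (hπnil : ∀ i, ∀ a ∈ RingHom.ker (π i : T i →+* E i), IsNilpotent a)
    {g : ∀ i, M i →* GroupLike (E i) (E i ⊗[R₀] A₀)} (hg : ∀ i, IsFrame (g i)) :
    ∃ (A : Type u) (_ : CommRing A) (_ : HopfAlgebra R A),
      (∀ i, ∃ f : M i →* GroupLike (T i) (T i ⊗[R] A), IsFrame f) ∧ Nonempty ((R₀ ⊗[R] A) ≃ₐc[R₀] A₀) := by
  obtain ⟨w, hw, hunit, hcoc, hkey⟩ := exists_datum hs hnil π hπ hπnil hg
  exact exists_lift_of_datum hs π hg w hw hunit hcoc hkey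

end GrothLib.MultLocal
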