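import Groth.Agent.Lib.MultLocal.Frame
import Groth.Agent.Lib.DescElem.Basic
import Mathlib.RingTheory.Flat.FaithfullyFlat.Algebra

/-!
Faithfully flat descent of frames and of identities in bialgebras.
-/

universe u

set_option linter.style.haveILetI false

open TensorProduct MonoidAlgebra

namespace GrothLib.MultLocal

variable {R : Type u} [CommRing R] {A : Type u} [CommRing A] [Bialgebra R A]
  {T : Type u} [CommRing T] [Algebra R T] {M : Type u} [CommGroup M]

variable (R A T) in
/-- The map `A ⊗ A → (T ⊗ A) ⊗ (T ⊗ A)`. -/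
noncomputable def sqMap (z : A ⊗[R] A) : (T ⊗[R] A) ⊗[T] (T ⊗[R] A) :=
  AlgebraTensorModule.tensorTensorTensorComm R T R T T T A A (((1 : T) ⊗ₜ[T] (1 : T)) ⊗ₜ[R] z)

theorem sqMap_tmul (a b : A) : sqMap R A T (a ⊗ₜ b) = ((1 : T) ⊗ₜ[R] a) ⊗ₜ[T] ((1 : T) ⊗ₜ[R] b) := rfl

theorem comul_one_tmul (a : A) :
    Coalgebra.comul (R := T) ((1 : T) ⊗ₜ[R] a) = sqMap R A T (Coalgebra.comul (R := R) a) := by
  simp [sqMap]

theorem sqMap_injective [Module.FaithfullyFlat R T] : Function.Injective (sqMap R A T) := by
  intro z z' h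
  have h1 := congrArg ((LinearMap.mul' T T).restrictScalars R |>.rTensor (A ⊗[R] A))
    ((AlgebraTensorModule.tensorTensorTensorComm R T R T T T A A).injective h)
  simp only [LinearMap.rTensor_tmul, LinearMap.coe_restrictScalars, LinearMap.mul'_apply, _root_.mul_one] at h1
  exact Module.FaithfullyFlat.tensorProduct_mk_injective (A := R) (B := T) (A ⊗[R] A) h1

/-- Group-like elements may be recognised after a faithfully flat base change. -/
theorem isGroupLikeElem_of_one_tmul [Module.FaithfullyFlat R T] {a : A}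
    (h : IsGroupLikeElem T ((1 : T) ⊗ₜ[R] a)) : IsGroupLikeElem R a := by
  refine ⟨?_, sqMap_injective (T := T) ?_⟩
  · refine FaithfulSMul.algebraMap_injective R T ?_
    rw [map_one, ← h.counit_eq_one]
    simp [Algebra.smul_def]
  · rw [← comul_one_tmul, h.comul_eq_tmul_self, sqMap_tmul]

theorem comm_sqMap (z : A ⊗[R] A) :
    TensorProduct.comm T _ _ (sqMap R A T z) = sqMap R A T (TensorProduct.comm R A A z) := by
  induction z using TensorProduct.induction_on with
  | zero => simp [sqMap]
  | tmul a b => rfl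
  | add x y hx hy =>
    simp only [sqMap, tmul_add, map_add] at hx hy ⊢
    rw [hx, hy]

/-- A bialgebra with a frame after faithfully flat base change is cocommutative. -/
theorem isCocomm_of_frame [Module.FaithfullyFlat R T] {g : M →* GroupLike T (T ⊗[R] A)} (hg : IsFrame g) :
    Coalgebra.IsCocomm R A := by
  constructor
  refine LinearMap.ext fun a => sqMap_injective (T := T) ?_
  rw [LinearMap.comp_apply]
  change sqMap R A T (TensorProduct.comm R A A (Coalgebra.comul a)) = _
  rw [← comm_sqMap, ← comul_one_tmul]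
  obtain ⟨z, hz⟩ := hg.2 ((1 : T) ⊗ₜ[R] a)
  rw [← hz]
  clear hz
  induction z using MonoidAlgebra.induction_linear with
  | zero => simp
  | add x y hx hy => simp only [map_add, hx, hy]
  | single m r => simp [(g m).isGroupLikeElem_val.comul_eq_tmul_self]

/-- Faithfully flat descent of frames. -/
theorem exists_frame_of_descent [Module.FaithfullyFlat R T] {g : M →* GroupLike T (T ⊗[R] A)} (hg : IsFrame g)
    (h : ∀ m, coefMap A (Algebra.TensorProduct.includeLeft : T →ₐ[R] T ⊗[R] T) (g m).val =
      coefMap A (Algebra.TensorProduct.includeRight : T →ₐ[R] T ⊗[R] T) (g m).val) :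
    ∃ g₀ : M →* GroupLike R A, IsFrame g₀ ∧ ∀ m, (1 : T) ⊗ₜ[R] (g₀ m).val = (g m).val := by
  have hex : ∀ m, ∃ a : A, (1 : T) ⊗ₜ[R] a = (g m).val := by
    intro m
    refine LinearMap.mem_range.mp (GrothLib.DescElem.mem_range_of_one_tmul T (TensorProduct.mk R T A 1) _ ?_)
    refine ⟨(g m).val, ?_⟩
    have h1 : ∀ y : T ⊗[R] A, (TensorProduct.mk R T A 1).lTensor T y =
        TensorProduct.assoc R T T A (coefMap A (Algebra.TensorProduct.includeLeft : T →ₐ[R] T ⊗[R] T) y) := by
      intro y
      induction y using TensorProduct.induction_on with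
      | zero => simp
      | tmul t a => rfl
      | add x y hx hy => simp only [map_add, hx, hy]
    have h2 : ∀ y : T ⊗[R] A, (1 : T) ⊗ₜ[R] y =
        TensorProduct.assoc R T T A (coefMap A (Algebra.TensorProduct.includeRight : T →ₐ[R] T ⊗[R] T) y) := by
      intro y
      induction y using TensorProduct.induction_on with
      | zero => simp
      | tmul t a => rfl
      | add x y hx hy => simp only [tmul_add, map_add, hx, hy]
    rw [h1, h2, h m]
  choose a ha using hex
  have inj : Function.Injective fun x : A => (1 : T) ⊗ₜ[R] x :=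
    Module.FaithfullyFlat.tensorProduct_mk_injective (A := R) (B := T) A
  let g₀ : M →* GroupLike R A :=
    { toFun := fun m => ⟨a m, isGroupLikeElem_of_one_tmul (T := T) (by
        rw [ha]; exact (g m).isGroupLikeElem_val)⟩
      map_one' := GroupLike.ext (inj (by
        change (1 : T) ⊗ₜ[R] a 1 = (1 : T) ⊗ₜ[R] (1 : A)
        rw [ha, map_one]; rfl))
      map_mul' := fun m n => GroupLike.ext (inj (by
        change (1 : T) ⊗ₜ[R] a (m * n) = (1 : T) ⊗ₜ[R] (a m * a n)
        rw [ha, map_mul, GroupLike.val_mul, ← ha, ← ha, Algebra.TensorProduct.tmul_mul_tmul, _root_.mul_one])) }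
  refine ⟨g₀, ⟨fun x y hxy => ?_, fun y => ?_⟩, ha⟩
  · have key : ∀ z, glHom g (mapRingHom M (algebraMap R T) z) = (1 : T) ⊗ₜ[R] glHom g₀ z := by
      intro z
      induction z using MonoidAlgebra.induction_linear with
      | zero => simp
      | add x y hx hy => simp only [map_add, tmul_add, hx, hy]
      | single m r => simp [g₀, ← ha, ← Algebra.algebraMap_eq_smul_one, tmul_smul]
    have := hg.1 ((key x).trans ((congrArg ((1 : T) ⊗ₜ[R] ·) hxy).trans (key y).symm))
    refine MonoidAlgebra.ext (Finsupp.ext fun m => FaithfulSMul.algebraMap_injective R T ?_)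
    simpa using congrArg (fun z => z.coeff m) this
  · refine LinearMap.mem_range.mp (GrothLib.DescElem.mem_range_of_one_tmul T
      (glHom g₀ : MonoidAlgebra R M →ₗc[R] A).toLinearMap y ?_)
    obtain ⟨z, hz⟩ := hg.2 ((1 : T) ⊗ₜ[R] y)
    rw [← hz]
    clear hz
    induction z using MonoidAlgebra.induction_linear with
    | zero => simp
    | add x y hx hy => rw [map_add]; exact add_mem hx hy
    | single m r =>
      refine ⟨r ⊗ₜ[R] single m 1, ?_⟩
      rw [LinearMap.lTensor_tmul, glHom_single, ← ha, smul_tmul', smul_eq_mul, _root_.mul_one]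
      exact congrArg (r ⊗ₜ[R] ·) ((glHom_single g₀ m 1).trans (one_smul _ _))

/-- Descent of frames relative to an intermediate ring. -/
theorem exists_frame_of_descent_tower (L : Type u) [CommRing L] [Algebra R L] [Algebra L T] [IsScalarTower R L T]
    [Module.FaithfullyFlat L T] {g : M →* GroupLike T (T ⊗[R] A)} (hg : IsFrame g)
    (h : ∀ m, coefMap A ((Algebra.TensorProduct.includeLeft : T →ₐ[L] T ⊗[L] T).restrictScalars R) (g m).val =
      coefMap A ((Algebra.TensorProduct.includeRight : T →ₐ[L] T ⊗[L] T).restrictScalars R) (g m).val) :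
    ∃ g₀ : M →* GroupLike L (L ⊗[R] A), IsFrame g₀ ∧
      ∀ m, coefMap A (IsScalarTower.toAlgHom R L T) (g₀ m).val = (g m).val := by
  let c := GrothLib.Hopf.cancelBaseChange R L T A
  have key : ∀ (f : T →ₐ[L] T ⊗[L] T) (y : T ⊗[R] A),
      GrothLib.Hopf.cancelBaseChange R L (T ⊗[L] T) A (coefMap (L ⊗[R] A) f (c.symm y)) =
        coefMap A (f.restrictScalars R) y := by
    intro f y
    obtain ⟨w, rfl⟩ : ∃ w, c w = y := ⟨c.symm y, c.apply_symm_apply y⟩
    rw [BialgEquiv.symm_apply_apply]
    induction w using TensorProduct.induction_on with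
    | zero => simp
    | tmul t x =>
      induction x using TensorProduct.induction_on with
      | zero => simp
      | tmul l a =>
        simp only [c, coefMap_tmul, GrothLib.Hopf.cancelBaseChange_tmul, AlgHom.coe_restrictScalars', map_smul]
      | add x y hx hy => simp only [tmul_add, map_add, hx, hy]
    | add x y hx hy => simp only [map_add, hx, hy]
  obtain ⟨g₀, hg₀, hgg⟩ := exists_frame_of_descent (R := L) (A := L ⊗[R] A) (hg.push c.symm)
    (fun m => (GrothLib.Hopf.cancelBaseChange R L (T ⊗[L] T) A).toEquiv.injective (by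
      change GrothLib.Hopf.cancelBaseChange R L (T ⊗[L] T) A (coefMap (L ⊗[R] A) _ (c.symm (g m).val)) =
        GrothLib.Hopf.cancelBaseChange R L (T ⊗[L] T) A (coefMap (L ⊗[R] A) _ (c.symm (g m).val))
      rw [key, key]
      exact h m))
  refine ⟨g₀, hg₀, fun m => ?_⟩
  have h1 : ∀ x : L ⊗[R] A, c ((1 : T) ⊗ₜ[L] x) = coefMap A (IsScalarTower.toAlgHom R L T) x := by
    intro x
    induction x using TensorProduct.induction_on with
    | zero => simp
    | tmul l a => simp [c, GrothLib.Hopf.cancelBaseChange_tmul, Algebra.algebraMap_eq_smul_one]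
    | add x y hx hy => simp only [tmul_add, map_add, hx, hy]
  rw [← h1, hgg m]
  exact c.apply_symm_apply _

end GrothLib.MultLocal
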