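import Groth.Agent.Lib.MultLocal.Nil
import Groth.Agent.Lib.MultLocal.Descent
import Mathlib.RingTheory.AdicCompletion.Basic
import Mathlib.RingTheory.Coalgebra.Convolution

/-!
Formal homomorphisms into diagonalisable groups over complete Noetherian rings are algebraic.
-/

universe u

set_option linter.style.haveILetI false
set_option maxSynthPendingDepth 3

open TensorProduct MonoidAlgebra WithConv

namespace GrothLib.MultLocal

section Rank

variable {E : Type u} [CommRing E]

/-- A diagonal family contained in a finite module over a Noetherian ring has finite support. -/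
theorem finite_of_diag [IsNoetherianRing E] {ι κ : Type u} [DecidableEq ι] [Finite κ] (a : ι → E) (V : κ → ι → E)
    (h : ∀ m, Pi.single (M := fun _ : ι => E) m (a m) ∈ Submodule.span E (Set.range V)) :
    {m | a m ≠ 0}.Finite := by
  classical
  let W := Submodule.span E (Set.range V)
  haveI : Module.Finite E W := Module.Finite.iff_fg.mpr (Submodule.fg_span (Set.finite_range V))
  haveI : IsNoetherian E W := inferInstance
  let P : Submodule E (ι → E) := Submodule.span E (Set.range fun m => Pi.single (M := fun _ : ι => E) m (a m))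
  have hPW : P ≤ W := Submodule.span_le.mpr (Set.range_subset_iff.mpr h)
  obtain ⟨G, hG⟩ := isNoetherian_submodule.mp ‹IsNoetherian E W› P hPW
  choose T hT hGT using fun x : G => Submodule.mem_span_finite_of_mem_span
    (show (x : ι → E) ∈ P from hG ▸ Submodule.subset_span x.2)
  let t := Finset.univ.biUnion T
  have hts : Submodule.span E (t : Set (ι → E)) = P := by
    refine le_antisymm (Submodule.span_mono fun y hy => ?_) ?_
    · obtain ⟨x, -, hx⟩ := Finset.mem_biUnion.mp hy
      exact hT x hx
    · rw [← hG, Submodule.span_le]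
      intro x hx
      exact Submodule.span_mono (fun y hy => Finset.mem_biUnion.mpr ⟨⟨x, hx⟩, Finset.mem_univ _, hy⟩) (hGT ⟨x, hx⟩)
  choose f hf using fun x : t => (show (x : ι → E) ∈ Set.range fun m => Pi.single (M := fun _ : ι => E) m (a m) from by
    obtain ⟨g, -, hg⟩ := Finset.mem_biUnion.mp x.2
    exact hT g hg)
  refine (Finset.univ.image f).finite_toSet.subset fun m hm => ?_
  by_contra hmem
  let F : Submodule E (ι → E) := LinearMap.ker (LinearMap.proj (φ := fun _ : ι => E) m)
  have hle : P ≤ F := by
    rw [← hts]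
    refine Submodule.span_le.mpr fun x hx => ?_
    change x m = 0
    rw [show x = _ from (hf ⟨x, hx⟩).symm]
    refine Pi.single_eq_of_ne (fun hmx => hmem ?_) _
    exact Finset.mem_image.mpr ⟨⟨x, hx⟩, Finset.mem_univ _, hmx.symm⟩
  refine hm ?_
  have := hle (Submodule.subset_span ⟨m, rfl⟩)
  simpa [F] using this

end Rank

variable {E : Type u} [CommRing E] (J : Ideal E) {C : Type u} [CommRing C] [Bialgebra E C] {M : Type u} [CommGroup M]

theorem coeff_compat (x : MonoidAlgebra E M) (m : M) (J : Ideal E) :
    (mapRingHom M (Ideal.Quotient.mk J) x).coeff m = Ideal.Quotient.mk J (x.coeff m) := by simp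

theorem ext_of_forall_mapRingHom [IsHausdorff J E] {x y : MonoidAlgebra E M}
    (h : ∀ n, mapRingHom M (Ideal.Quotient.mk (J ^ (n + 1))) x = mapRingHom M (Ideal.Quotient.mk (J ^ (n + 1))) y) :
    x = y := by
  refine MonoidAlgebra.ext (Finsupp.ext fun m => sub_eq_zero.mp (IsHausdorff.haus' (I := J) _ fun n => ?_))
  rw [SModEq.zero, smul_eq_mul, Ideal.mul_top]
  refine Ideal.pow_le_pow_right n.le_succ (Ideal.Quotient.eq.mp ?_)
  rw [← coeff_compat, ← coeff_compat, h n]

theorem ext_of_pairs (z z' : MonoidAlgebra E M ⊗[E] MonoidAlgebra E M)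
    (h : ∀ m m', LinearMap.mul' E E (TensorProduct.map ((Finsupp.lapply m).comp (MonoidAlgebra.coeffLinearEquiv E).toLinearMap)
      ((Finsupp.lapply m').comp (MonoidAlgebra.coeffLinearEquiv E).toLinearMap) z) =
      LinearMap.mul' E E (TensorProduct.map ((Finsupp.lapply m).comp (MonoidAlgebra.coeffLinearEquiv E).toLinearMap)
      ((Finsupp.lapply m').comp (MonoidAlgebra.coeffLinearEquiv E).toLinearMap) z')) : z = z' := by
  classical
  let b : Module.Basis M E (MonoidAlgebra E M) :=
    (Finsupp.basisSingleOne (R := E) (ι := M)).map (MonoidAlgebra.coeffLinearEquiv E).symm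
  refine (b.tensorProduct b).ext_elem fun p => ?_
  have hc : ∀ z, (b.tensorProduct b).repr z p =
      LinearMap.mul' E E (TensorProduct.map ((Finsupp.lapply p.1).comp (MonoidAlgebra.coeffLinearEquiv E).toLinearMap)
      ((Finsupp.lapply p.2).comp (MonoidAlgebra.coeffLinearEquiv E).toLinearMap) z) := by
    intro z
    induction z using TensorProduct.induction_on with
    | zero => simp
    | add x y hx hy => simp only [map_add, Finsupp.add_apply, hx, hy]
    | tmul x y =>
      rw [Module.Basis.tensorProduct_repr_tmul_apply, TensorProduct.map_tmul, LinearMap.mul'_apply]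
      simp [b, mul_comm]
  rw [hc, hc, h]

/-- Compatible reductions of a homomorphism to a diagonalisable group come from a homomorphism. -/
theorem exists_bialgHom_of_compatible [IsNoetherianRing E] [IsAdicComplete J E]
    (ψ : ∀ n : ℕ, (E ⧸ J ^ (n + 1)) ⊗[E] C →ₐc[E ⧸ J ^ (n + 1)] MonoidAlgebra (E ⧸ J ^ (n + 1)) M)
    (hψ : ∀ m n (h : m ≤ n) (c : C),
      mapRingHom M (Ideal.Quotient.factor (Ideal.pow_le_pow_right (Nat.succ_le_succ h)) :
        E ⧸ J ^ (n + 1) →+* E ⧸ J ^ (m + 1)) (ψ n ((1 : E ⧸ J ^ (n + 1)) ⊗ₜ[E] c)) =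
        ψ m ((1 : E ⧸ J ^ (m + 1)) ⊗ₜ[E] c)) :
    ∃ f : C →ₐc[E] MonoidAlgebra E M, ∀ n c,
      mapRingHom M (Ideal.Quotient.mk (J ^ (n + 1))) (f c) = ψ n ((1 : E ⧸ J ^ (n + 1)) ⊗ₜ[E] c) := by
  classical
  haveI : IsHausdorff J E := IsAdicComplete.toIsHausdorff
  haveI : IsPrecomplete J E := IsAdicComplete.toIsPrecomplete
  have hcoef : ∀ (m : M) (c : C), ∃ e : E, ∀ n,
      Ideal.Quotient.mk (J ^ (n + 1)) e = (ψ n ((1 : E ⧸ J ^ (n + 1)) ⊗ₜ[E] c)).coeff m := by
    intro m c
    choose y hy using fun n => Ideal.Quotient.mk_surjective ((ψ n ((1 : E ⧸ J ^ (n + 1)) ⊗ₜ[E] c)).coeff m)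
    obtain ⟨L, hL⟩ := IsPrecomplete.prec' (I := J) y fun {p q} hpq => by
      rw [SModEq.sub_mem, smul_eq_mul, Ideal.mul_top]
      refine Ideal.pow_le_pow_right p.le_succ (Ideal.Quotient.eq.mp ?_)
      rw [hy p, ← hψ p q hpq c, MonoidAlgebra.coeff_mapRingHom, ← hy q]
      rfl
    refine ⟨L, fun n => ?_⟩
    have h := hL (n + 1)
    rw [SModEq.sub_mem, smul_eq_mul, Ideal.mul_top] at h
    rw [← hψ n (n + 1) n.le_succ c, MonoidAlgebra.coeff_mapRingHom, ← hy (n + 1),
      Ideal.Quotient.factor_mk]
    exact (Ideal.Quotient.eq.mpr h).symm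
  choose a ha using hcoef
  have hext : ∀ x y : E, (∀ n, Ideal.Quotient.mk (J ^ (n + 1)) x = Ideal.Quotient.mk (J ^ (n + 1)) y) → x = y :=
    fun x y h => sub_eq_zero.mp (IsHausdorff.haus' (I := J) _ fun n => by
      rw [SModEq.zero, smul_eq_mul, Ideal.mul_top]
      exact Ideal.pow_le_pow_right n.le_succ (Ideal.Quotient.eq.mp (h n)))
  let al : M → C →ₗ[E] E := fun m =>
    { toFun := a m
      map_add' := fun x y => hext _ _ fun n => by
        rw [map_add, ha, ha, ha, tmul_add, map_add, coeff_add, Finsupp.add_apply]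
      map_smul' := fun r x => hext _ _ fun n => by
        rw [RingHom.id_apply, smul_eq_mul, map_mul, ha, ha, tmul_smul, ← Ideal.Quotient.algebraMap_eq,
          ← algebraMap_smul (E ⧸ J ^ (n + 1)) r, map_smul, MonoidAlgebra.coeff_smul, Finsupp.smul_apply, smul_eq_mul] }
  have horth : ∀ m m' c, LinearMap.mul' E E (TensorProduct.map (al m) (al m') (Coalgebra.comul c)) =
      if m = m' then a m c else 0 := by
    intro m m' c
    refine hext _ _ fun n => ?_
    let S := E ⧸ J ^ (n + 1)
    let cf : M → (MonoidAlgebra S M →ₗ[S] S) := fun k =>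
      (Finsupp.lapply k).comp (MonoidAlgebra.coeffLinearEquiv S).toLinearMap
    have h1 : ∀ z : C ⊗[E] C, Ideal.Quotient.mk (J ^ (n + 1)) (LinearMap.mul' E E (TensorProduct.map (al m) (al m') z)) =
        LinearMap.mul' S S (TensorProduct.map (cf m) (cf m') (TensorProduct.map (ψ n).toCoalgHom.toLinearMap
          (ψ n).toCoalgHom.toLinearMap (sqMap E C S z))) := by
      intro z
      induction z using TensorProduct.induction_on with
      | zero => simp [sqMap]
      | add x y hx hy => simp only [sqMap, tmul_add, map_add] at hx hy ⊢; rw [hx, hy]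
      | tmul x y =>
        rw [sqMap_tmul, TensorProduct.map_tmul, LinearMap.mul'_apply, map_mul]
        change Ideal.Quotient.mk _ (a m x) * Ideal.Quotient.mk _ (a m' y) = _
        rw [ha, ha]
        rfl
    have h2 : ∀ w : MonoidAlgebra S M, LinearMap.mul' S S (TensorProduct.map (cf m) (cf m') (Coalgebra.comul w)) =
        if m = m' then w.coeff m else 0 := by
      intro w
      induction w using MonoidAlgebra.induction_linear with
      | zero => simp
      | add x y hx hy => simp only [map_add, coeff_add, Finsupp.add_apply, hx, hy]; split_ifs <;> simp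
      | single k r =>
        rw [show (single k r : MonoidAlgebra S M) = r • single k 1 by simp, map_smul, map_smul, map_smul,
          (isGroupLikeElem_single_one (R := S) (A := S) k).comul_eq_tmul_self, TensorProduct.map_tmul,
          LinearMap.mul'_apply]
        change r • ((single k (1 : S)).coeff m * (single k (1 : S)).coeff m') = _
        rw [MonoidAlgebra.coeff_smul, Finsupp.smul_apply, MonoidAlgebra.coeff_single, Finsupp.single_apply,
          Finsupp.single_apply]
        by_cases hmm : m = m'
        · subst hmm; by_cases hkm : k = m <;> simp [hkm]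
        · rw [if_neg hmm]
          by_cases hkm : k = m
          · subst hkm; simp [hmm]
          · simp [hkm]
    have h3 := CoalgHomClass.map_comp_comul_apply (ψ n) ((1 : S) ⊗ₜ[E] c)
    rw [comul_one_tmul] at h3
    rw [h1, show TensorProduct.map (ψ n).toCoalgHom.toLinearMap (ψ n).toCoalgHom.toLinearMap
      (sqMap E C S (Coalgebra.comul c)) = Coalgebra.comul (ψ n ((1 : S) ⊗ₜ[E] c)) from h3, h2]
    split_ifs
    · exact (ha m c n).symm
    · exact (map_zero _).symm
  have hfin : ∀ c, {m | a m c ≠ 0}.Finite := by
    intro c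
    obtain ⟨t, ht⟩ := TensorProduct.exists_finset (Coalgebra.comul (R := E) c)
    refine finite_of_diag (κ := t) (fun m => a m c) (fun i m' => a m' i.1.2) fun m => ?_
    have heq : Pi.single (M := fun _ : M => E) m (a m c) = ∑ i : t, a m i.1.1 • fun m' => a m' i.1.2 := by
      funext m'
      rw [Finset.sum_apply]
      have h := horth m m' c
      rw [ht, map_sum, map_sum] at h
      simp only [TensorProduct.map_tmul, LinearMap.mul'_apply] at h
      rw [← Finset.sum_coe_sort] at h
      simp only [Pi.smul_apply, smul_eq_mul]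
      refine Eq.trans ?_ h.symm
      by_cases hmm : m = m'
      · subst hmm; simp
      · rw [if_neg hmm, Pi.single_eq_of_ne (Ne.symm hmm)]
    rw [heq]
    exact Submodule.sum_mem _ fun i _ => Submodule.smul_mem _ _ (Submodule.subset_span ⟨i, rfl⟩)
  let f₀ : C → MonoidAlgebra E M := fun c =>
    MonoidAlgebra.ofCoeff (Finsupp.onFinset (hfin c).toFinset (fun m => a m c) fun m hm => (hfin c).mem_toFinset.mpr hm)
  have hf₀ : ∀ c m, (f₀ c).coeff m = a m c := fun c m => rfl
  have hred : ∀ n c, mapRingHom M (Ideal.Quotient.mk (J ^ (n + 1))) (f₀ c) = ψ n ((1 : E ⧸ J ^ (n + 1)) ⊗ₜ[E] c) :=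
    fun n c => MonoidAlgebra.ext (Finsupp.ext fun m => by rw [coeff_compat, hf₀, ha])
  let f : C →ₐ[E] MonoidAlgebra E M :=
    { toFun := f₀
      map_one' := ext_of_forall_mapRingHom J fun n => by
        rw [hred, map_one (mapRingHom M _), ← Algebra.TensorProduct.one_def, map_one]
      map_mul' := fun x y => ext_of_forall_mapRingHom J fun n => by
        rw [hred, map_mul (mapRingHom M _), hred, hred, ← map_mul (ψ n), Algebra.TensorProduct.tmul_mul_tmul,
          _root_.mul_one]
      map_zero' := ext_of_forall_mapRingHom J fun n => by rw [hred, map_zero, tmul_zero, map_zero]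
      map_add' := fun x y => ext_of_forall_mapRingHom J fun n => by
        rw [hred, map_add, hred, hred, tmul_add, map_add]
      commutes' := fun r => ext_of_forall_mapRingHom J fun n => by
        rw [hred, Algebra.algebraMap_eq_smul_one, tmul_smul, ← algebraMap_smul (E ⧸ J ^ (n + 1)) r, map_smul,
          ← Algebra.TensorProduct.one_def, map_one]
        refine MonoidAlgebra.ext (Finsupp.ext fun m => ?_)
        simp [MonoidAlgebra.coe_algebraMap, MonoidAlgebra.one_def, Finsupp.single_apply, Algebra.smul_def,
          apply_ite (Ideal.Quotient.mk (J ^ (n + 1)))] }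
  refine ⟨BialgHom.ofAlgHom f (AlgHom.ext fun c => ?_) (AlgHom.ext fun c => ?_), hred⟩
  · change Coalgebra.counit (R := E) (f₀ c) = Coalgebra.counit (R := E) c
    refine hext _ _ fun n => ?_
    have h1 : ∀ w : MonoidAlgebra E M, Ideal.Quotient.mk (J ^ (n + 1)) (Coalgebra.counit (R := E) w) =
        Coalgebra.counit (R := E ⧸ J ^ (n + 1)) (mapRingHom M (Ideal.Quotient.mk (J ^ (n + 1))) w) := by
      intro w
      induction w using MonoidAlgebra.induction_linear with
      | zero => simp
      | add x y hx hy => simp only [map_add, hx, hy]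
      | single m r => simp
    rw [h1, hred]
    refine (CoalgHomClass.counit_comp_apply (ψ n) _).trans ?_
    rw [TensorProduct.counit_tmul, CommSemiring.counit_apply, ← Ideal.Quotient.algebraMap_eq,
      Algebra.algebraMap_eq_smul_one]
  · change TensorProduct.map f.toLinearMap f.toLinearMap (Coalgebra.comul c) = Coalgebra.comul (f₀ c)
    refine ext_of_pairs _ _ fun m m' => ?_
    rw [TensorProduct.map_map]
    change LinearMap.mul' E E (TensorProduct.map (al m) (al m') (Coalgebra.comul c)) = _
    rw [horth]
    generalize hw : f₀ c = w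
    rw [← hf₀ c, hw]
    clear hw
    induction w using MonoidAlgebra.induction_linear with
    | zero => simp
    | add x y hx hy => rw [map_add, map_add, map_add, ← hx, ← hy, coeff_add, Finsupp.add_apply]; split_ifs <;> simp
    | single k r =>
      rw [show (single k r : MonoidAlgebra E M) = r • single k 1 by simp, map_smul, map_smul, map_smul,
        (isGroupLikeElem_single_one (R := E) (A := E) k).comul_eq_tmul_self, TensorProduct.map_tmul,
        LinearMap.mul'_apply]
      change _ = r • ((single k (1 : E)).coeff m * (single k (1 : E)).coeff m')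
      rw [MonoidAlgebra.coeff_smul, Finsupp.smul_apply, MonoidAlgebra.coeff_single, Finsupp.single_apply,
        Finsupp.single_apply]
      by_cases hmm : m = m'
      · subst hmm; by_cases hkm : k = m <;> simp [hkm]
      · rw [if_neg hmm]
        by_cases hkm : k = m
        · subst hkm; simp [hmm]
        · simp [hkm]

end GrothLib.MultLocal
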