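import Groth.Agent.Lib.MultLocal.Frame
import Mathlib.RingTheory.Idempotents

/-!
Group-like elements and frames along nilpotent thickenings.
-/

universe u

set_option linter.style.haveILetI false

open TensorProduct MonoidAlgebra

namespace GrothLib.MultLocal

section Raw

variable {T T₀ : Type u} [CommRing T] [CommRing T₀] {M : Type u} [CommGroup M]

theorem isGroupLikeElem_groupAlg_iff [DecidableEq M] (x : MonoidAlgebra T M) :
    IsGroupLikeElem T x ↔ (∀ a b, x.coeff a * x.coeff b = if a = b then x.coeff a else 0) ∧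
      x.coeff.sum (fun _ c => c) = 1 := by
  have hx : x = ∑ a ∈ x.coeff.support, single a (x.coeff a) := by
    conv_lhs => rw [← MonoidAlgebra.sum_coeff_single x, Finsupp.sum]
  have hε : Coalgebra.counit (R := T) x = x.coeff.sum (fun _ c => c) := by
    conv_lhs => rw [hx, map_sum]
    exact Finset.sum_congr rfl fun a _ => by simp
  constructor
  · exact fun h => ⟨coeff_mul_coeff h, hε ▸ h.counit_eq_one⟩
  · rintro ⟨h1, h2⟩
    refine ⟨hε.trans h2, ?_⟩
    have hone : ∀ a, (single a (x.coeff a) : MonoidAlgebra T M) = x.coeff a • single a 1 := fun a => by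
      rw [smul_single, smul_eq_mul, _root_.mul_one]
    have hgl : ∀ a : M, Coalgebra.comul (R := T) (single a (1 : T) : MonoidAlgebra T M) = single a 1 ⊗ₜ single a 1 :=
      fun a => (isGroupLikeElem_single_one a).comul_eq_tmul_self
    rw [hx]
    simp only [hone, map_sum, map_smul, hgl, sum_tmul, tmul_sum, smul_tmul_smul]
    refine Finset.sum_congr rfl fun a ha => ?_
    rw [Finset.sum_eq_single a]
    · rw [h1, if_pos rfl]
    · intro b _ hb
      rw [h1]
      first
        | rw [if_neg hb, zero_smul]
        | rw [if_neg (Ne.symm hb), zero_smul]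
    · exact fun h => absurd ha h

theorem isGroupLikeElem_mapRingHom (π : T →+* T₀) {x : MonoidAlgebra T M} (hx : IsGroupLikeElem T x) :
    IsGroupLikeElem T₀ (mapRingHom M π x) := by
  classical
  obtain ⟨h1, h2⟩ := (isGroupLikeElem_groupAlg_iff x).mp hx
  refine (isGroupLikeElem_groupAlg_iff _).mpr ⟨fun a b => ?_, ?_⟩
  · have := congrArg π (h1 a b)
    rw [map_mul, apply_ite π, map_zero] at this
    simpa using this
  · rw [Finsupp.sum_of_support_subset _ (s := x.coeff.support) (fun a => by simp; exact fun h h0 => h (by rw [h0, map_zero]))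
      _ (fun _ _ => rfl), ← map_one π, ← h2, Finsupp.sum, map_sum]
    simp

theorem eq_of_mapRingHom_eq (π : T →+* T₀) (hnil : ∀ a ∈ RingHom.ker π, IsNilpotent a) {x y : MonoidAlgebra T M}
    (hx : IsGroupLikeElem T x) (hy : IsGroupLikeElem T y) (h : mapRingHom M π x = mapRingHom M π y) : x = y := by
  refine MonoidAlgebra.ext (Finsupp.ext fun m => ?_)
  refine eq_of_isNilpotent_sub_of_isIdempotentElem (isIdempotentElem_coeff hx m) (isIdempotentElem_coeff hy m)
    (hnil _ ?_)
  have := congrArg (fun z => z.coeff m) h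
  simp only [coeff_mapRingHom, Finsupp.mapRange_apply] at this
  rw [RingHom.mem_ker, map_sub, sub_eq_zero]
  exact this

theorem exists_groupLike_lift (π : T →+* T₀) (hπ : Function.Surjective π) (hnil : ∀ a ∈ RingHom.ker π, IsNilpotent a)
    {y : MonoidAlgebra T₀ M} (hy : IsGroupLikeElem T₀ y) :
    ∃ x : MonoidAlgebra T M, IsGroupLikeElem T x ∧ mapRingHom M π x = y := by
  classical
  have hy' := (isGroupLikeElem_groupAlg_iff y).mp hy
  have huniq : ∀ {e e' : T}, IsIdempotentElem e → IsIdempotentElem e' → π e = π e' → e = e' := fun he he' h =>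
    eq_of_isNilpotent_sub_of_isIdempotentElem he he' (hnil _ (by rw [RingHom.mem_ker, map_sub, h, sub_self]))
  choose e he hπe using fun g : M => (existsUnique_isIdempotentElem_eq_of_ker_isNilpotent π hnil (y.coeff g)
    (RingHom.mem_range.mpr (hπ _)) (isIdempotentElem_coeff hy g)).exists
  have hsupp : ∀ g, e g ≠ 0 → g ∈ y.coeff.support := fun g hg => Finsupp.mem_support_iff.mpr fun h0 =>
    hg (huniq (he g) IsIdempotentElem.zero (by rw [hπe, h0, map_zero]))
  have horth : ∀ a b, e a * e b = if a = b then e a else 0 := fun a b => by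
    split_ifs with h
    · subst h; exact (he a).eq
    · refine huniq ((he a).mul (he b)) IsIdempotentElem.zero ?_
      rw [map_mul, hπe, hπe, hy'.1, if_neg h, map_zero]
  refine ⟨MonoidAlgebra.ofCoeff (Finsupp.onFinset y.coeff.support e hsupp),
    (isGroupLikeElem_groupAlg_iff _).mpr ⟨?_, ?_⟩, ?_⟩
  · intro a b
    simpa using horth a b
  · rw [Finsupp.sum_of_support_subset _ (s := y.coeff.support) (by intro g; simpa using hsupp g) _ (fun _ _ => rfl)]
    simp only [MonoidAlgebra.coeff_ofCoeff, Finsupp.onFinset_apply]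
    refine huniq ?_ IsIdempotentElem.one ?_
    · rw [IsIdempotentElem, Finset.sum_mul_sum]
      refine Finset.sum_congr rfl fun a ha => ?_
      rw [Finset.sum_eq_single a (fun b _ hb => by rw [horth, if_neg (Ne.symm hb)]) (fun h => absurd ha h), (he a).eq]
    · rw [map_sum, map_one, ← hy'.2, Finsupp.sum]
      exact Finset.sum_congr rfl fun g _ => hπe g
  · apply MonoidAlgebra.coeff_injective
    refine Finsupp.ext fun g => ?_
    simp [hπe]

end Raw

section Frames

variable {R : Type u} [CommRing R] {A : Type u} [CommRing A] [HopfAlgebra R A]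
  {T T₀ : Type u} [CommRing T] [CommRing T₀] [Algebra R T] [Algebra R T₀] {M M' : Type u} [CommGroup M] [CommGroup M']

theorem mapRingHom_injective_frame (π : T →ₐ[R] T₀) {g : M' →* GroupLike T (T ⊗[R] A)} (hg : IsFrame g)
    (z : MonoidAlgebra T M') :
    coefMap A π (glHom g z) = glHom ((glMap A π).comp g) (mapRingHom M' (π : T →+* T₀) z) :=
  (glHom_glMap π g z).symm

/-- Group-like elements are determined modulo nilpotents. -/
theorem IsFrame.ext_of_nil (π : T →ₐ[R] T₀) (hnil : ∀ a ∈ RingHom.ker (π : T →+* T₀), IsNilpotent a)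
    {g : M' →* GroupLike T (T ⊗[R] A)} (hg : IsFrame g) {x y : GroupLike T (T ⊗[R] A)}
    (h : glMap A π x = glMap A π y) : x = y := by
  obtain ⟨a, ha⟩ := hg.2 x.val
  obtain ⟨b, hb⟩ := hg.2 y.val
  have hga : IsGroupLikeElem T a := (isGroupLikeElem_map_equiv hg.equiv).mp (by
    rw [hg.equiv_apply, ha]; exact x.isGroupLikeElem_val)
  have hgb : IsGroupLikeElem T b := (isGroupLikeElem_map_equiv hg.equiv).mp (by
    rw [hg.equiv_apply, hb]; exact y.isGroupLikeElem_val)
  have hab : a = b := eq_of_mapRingHom_eq _ hnil hga hgb ((hg.map π).1 (by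
    rw [glHom_glMap, glHom_glMap, ha, hb, ← glMap_val, ← glMap_val, h]))
  exact GroupLike.ext (by rw [← ha, ← hb, hab])

/-- Group-like elements lift modulo nilpotents. -/
theorem IsFrame.exists_lift (π : T →ₐ[R] T₀) (hπ : Function.Surjective π)
    (hnil : ∀ a ∈ RingHom.ker (π : T →+* T₀), IsNilpotent a) {g : M' →* GroupLike T (T ⊗[R] A)} (hg : IsFrame g)
    (y : GroupLike T₀ (T₀ ⊗[R] A)) : ∃ x, glMap A π x = y := by
  obtain ⟨b, hb⟩ := (hg.map π).2 y.val
  have hgb : IsGroupLikeElem T₀ b := (isGroupLikeElem_map_equiv (hg.map π).equiv).mp (by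
    rw [(hg.map π).equiv_apply, hb]; exact y.isGroupLikeElem_val)
  obtain ⟨a, ha, hab⟩ := exists_groupLike_lift (π : T →+* T₀) hπ hnil hgb
  refine ⟨⟨glHom g a, ha.map (glHom g)⟩, GroupLike.ext ?_⟩
  rw [glMap_val, ← glHom_glMap, hab, hb]

/-- Frames lift along nilpotent thickenings when some frame exists upstairs. -/
theorem exists_frame_lift (π : T →ₐ[R] T₀) (hπ : Function.Surjective π)
    (hnil : ∀ a ∈ RingHom.ker (π : T →+* T₀), IsNilpotent a) {g : M' →* GroupLike T (T ⊗[R] A)} (hg : IsFrame g)
    {h₀ : M →* GroupLike T₀ (T₀ ⊗[R] A)} (hh₀ : IsFrame h₀) :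
    ∃ h : M →* GroupLike T (T ⊗[R] A), IsFrame h ∧ ∀ m, glMap A π (h m) = h₀ m := by
  classical
  choose x hx using fun m => hg.exists_lift π hπ hnil (h₀ m)
  let h : M →* GroupLike T (T ⊗[R] A) :=
    { toFun := x
      map_one' := hg.ext_of_nil π hnil (by rw [hx, map_one, map_one])
      map_mul' := fun a b => hg.ext_of_nil π hnil (by rw [hx, map_mul, map_mul, hx, hx]) }
  have hlift : ∀ m' : M', ∃ z : MonoidAlgebra T M, IsGroupLikeElem T z ∧
      coefMap A π (glHom h z) = (glMap A π (g m')).val := by
    intro m'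
    obtain ⟨b, hb⟩ := hh₀.2 (glMap A π (g m')).val
    have hgb : IsGroupLikeElem T₀ b := (isGroupLikeElem_map_equiv hh₀.equiv).mp (by
      rw [hh₀.equiv_apply, hb]; exact (glMap A π (g m')).isGroupLikeElem_val)
    obtain ⟨a, ha, hab⟩ := exists_groupLike_lift (π : T →+* T₀) hπ hnil hgb
    refine ⟨a, ha, ?_⟩
    rw [← glHom_glMap, hab, show (glMap A π).comp h = h₀ from MonoidHom.ext hx, hb]
  choose z hz hzπ using hlift
  have hzg : ∀ m', glHom h (z m') = (g m').val := fun m' =>
    congrArg GroupLike.val (hg.ext_of_nil π hnil (x := ⟨_, (hz m').map (glHom h)⟩) (GroupLike.ext (hzπ m')))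
  refine ⟨h, ⟨?_, fun y => ?_⟩, hx⟩
  · -- a left inverse
    let L : T ⊗[R] A →ₗ[T] MonoidAlgebra T M :=
      (Finsupp.linearCombination T z ∘ₗ (MonoidAlgebra.coeffLinearEquiv T).toLinearMap) ∘ₗ
        (hg.equiv.symm : T ⊗[R] A ≃ₐc[T] MonoidAlgebra T M').toAlgEquiv.toLinearEquiv.toLinearMap
    have hL : ∀ m, L (h m).val = single m 1 := by
      intro m
      obtain ⟨a, ha⟩ := hg.2 (h m).val
      have hga : IsGroupLikeElem T a := (isGroupLikeElem_map_equiv hg.equiv).mp (by
        rw [hg.equiv_apply, ha]; exact (h m).isGroupLikeElem_val)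
      have hLa : L (h m).val = a.coeff.sum fun m' r => r • z m' := by
        rw [← ha]
        change Finsupp.linearCombination T z (hg.equiv.symm (hg.equiv a)).coeff = _
        rw [BialgEquiv.symm_apply_apply]
        rfl
      rw [hLa]
      have hgl : IsGroupLikeElem T (a.coeff.sum fun m' r => r • z m') := by
        refine ⟨?_, ?_⟩
        · rw [Finsupp.sum, map_sum]
          simp only [map_smul, (hz _).counit_eq_one, smul_eq_mul, _root_.mul_one]
          exact ((isGroupLikeElem_groupAlg_iff a).mp hga).2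
        · rw [Finsupp.sum, map_sum]
          simp only [map_smul, (hz _).comul_eq_tmul_self, sum_tmul, tmul_sum, smul_tmul_smul]
          refine Finset.sum_congr rfl fun p hp => ?_
          rw [Finset.sum_eq_single p]
          · rw [coeff_mul_coeff hga, if_pos rfl]
          · intro b _ hb
            rw [coeff_mul_coeff hga]
            first
              | rw [if_neg hb, zero_smul]
              | rw [if_neg (Ne.symm hb), zero_smul]
          · exact fun h => absurd hp h
      refine eq_of_mapRingHom_eq (π : T →+* T₀) hnil hgl (isGroupLikeElem_single_one m) (hh₀.1 ?_)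
      have key : glHom h (a.coeff.sum fun m' r => r • z m') = (h m).val := by
        rw [← ha, Finsupp.sum, map_sum]
        simp only [map_smul, hzg]
        conv_rhs => rw [← MonoidAlgebra.sum_coeff_single a, Finsupp.sum, map_sum]
        simp
      rw [← show (glMap A π).comp h = h₀ from MonoidHom.ext hx, glHom_glMap, glHom_glMap, key, glHom_single, one_smul]
    refine Function.LeftInverse.injective (g := L) fun w => ?_
    induction w using MonoidAlgebra.induction_linear with
    | zero => simp
    | add u v hu hv => simp only [map_add, hu, hv]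
    | single m r => rw [glHom_single, map_smul, hL, smul_single, smul_eq_mul, _root_.mul_one]
  · obtain ⟨a, rfl⟩ := hg.2 y
    refine ⟨a.coeff.sum fun m' r => r • z m', ?_⟩
    rw [Finsupp.sum, map_sum]
    simp only [map_smul, hzg]
    conv_rhs => rw [← MonoidAlgebra.sum_coeff_single a, Finsupp.sum, map_sum]
    simp

end Frames

end GrothLib.MultLocal
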