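import Groth.Agent.Lib.MultLocal.Descent
import Groth.Agent.Lib.MultLocal.Nil
import Groth.Prelude.Def_SGA3b
import Mathlib.RingTheory.Flat.FaithfullyFlat.Algebra
import Mathlib.RingTheory.Localization.Away.Basic
import Mathlib.RingTheory.TensorProduct.Pi

/-!
Frames over finite products, and lifting frames of groups of multiplicative type modulo nilpotents.
-/

universe u

set_option linter.style.haveILetI false
set_option maxSynthPendingDepth 3

open TensorProduct MonoidAlgebra

namespace GrothLib.MultLocal

section Criterion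

variable (R : Type u) [CommRing R] (A : Type u) [CommRing A] [Bialgebra R A]
  (T : Type u) [CommRing T] [Algebra R T]

/-- The left inclusion `T ⊗ A → T ⊗ (A ⊗ A)`. -/
noncomputable def inl2 : T ⊗[R] A →ₐ[T] T ⊗[R] (A ⊗[R] A) :=
  Algebra.TensorProduct.map (AlgHom.id T T) Algebra.TensorProduct.includeLeft

/-- The right inclusion `T ⊗ A → T ⊗ (A ⊗ A)`. -/
noncomputable def inr2 : T ⊗[R] A →ₐ[T] T ⊗[R] (A ⊗[R] A) :=
  Algebra.TensorProduct.map (AlgHom.id T T) Algebra.TensorProduct.includeRight

/-- The comparison `(T ⊗ A) ⊗_T (T ⊗ A) → T ⊗ (A ⊗ A)`. -/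
noncomputable def sqInv : (T ⊗[R] A) ⊗[T] (T ⊗[R] A) →ₐ[T] T ⊗[R] (A ⊗[R] A) :=
  Algebra.TensorProduct.lift (inl2 R A T) (inr2 R A T) fun _ _ => Commute.all _ _

variable {R A T}

theorem sqInv_tmul (t s : T) (a b : A) : sqInv R A T ((t ⊗ₜ a) ⊗ₜ (s ⊗ₜ b)) = (t * s) ⊗ₜ (a ⊗ₜ b) := by
  simp [sqInv, inl2, inr2]

theorem sqInv_injective : Function.Injective (sqInv R A T) := by
  let Φ : T ⊗[R] (A ⊗[R] A) →ₗ[R] (T ⊗[R] A) ⊗[T] (T ⊗[R] A) :=
    ((AlgebraTensorModule.tensorTensorTensorComm R T R T T T A A).toLinearMap.restrictScalars R) ∘ₗ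
      (((TensorProduct.mk T T T).flip 1).restrictScalars R).rTensor (A ⊗[R] A)
  have key : ∀ z, Φ (sqInv R A T z) = z := by
    intro z
    induction z using TensorProduct.induction_on with
    | zero => simp
    | add x y hx hy => simp only [map_add, hx, hy]
    | tmul x y =>
      induction x using TensorProduct.induction_on with
      | zero => simp
      | add u v hu hv => simp only [add_tmul, map_add, hu, hv]
      | tmul t a =>
        induction y using TensorProduct.induction_on with
        | zero => simp
        | add u v hu hv => simp only [tmul_add, map_add, hu, hv]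
        | tmul s b =>
          rw [sqInv_tmul]
          change ((t * s) ⊗ₜ[R] a) ⊗ₜ[T] ((1 : T) ⊗ₜ[R] b) = _
          rw [mul_comm, show (s * t) ⊗ₜ[R] a = s • (t ⊗ₜ[R] a) by rw [smul_tmul', smul_eq_mul], smul_tmul,
            smul_tmul', smul_eq_mul, _root_.mul_one]
  exact Function.LeftInverse.injective key

theorem sqInv_comul (x : T ⊗[R] A) :
    sqInv R A T (Coalgebra.comul (R := T) x) = (Coalgebra.comul (R := R) (A := A)).lTensor T x := by
  induction x using TensorProduct.induction_on with
  | zero => simp
  | add x y hx hy => simp only [map_add, hx, hy]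
  | tmul t a =>
    rw [show t ⊗ₜ[R] a = t • ((1 : T) ⊗ₜ[R] a) by rw [smul_tmul', smul_eq_mul, _root_.mul_one], map_smul, map_smul,
      comul_one_tmul, LinearMap.lTensor_def]
    have : ∀ z : A ⊗[R] A, sqInv R A T (sqMap R A T z) = (1 : T) ⊗ₜ z := by
      intro z
      induction z using TensorProduct.induction_on with
      | zero => simp [sqMap]
      | tmul a b => rw [sqMap_tmul, sqInv_tmul, _root_.mul_one]
      | add u v hu hv => simp only [sqMap, tmul_add, map_add] at hu hv ⊢; rw [hu, hv]
    rw [this, smul_tmul', smul_eq_mul, _root_.mul_one, smul_tmul', smul_eq_mul, _root_.mul_one, TensorProduct.map_tmul]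
    simp

/-- Group-like elements of a base change in terms of the undeformed tensor square. -/
theorem isGroupLikeElem_iff_lTensor (x : T ⊗[R] A) : IsGroupLikeElem T x ↔ Coalgebra.counit (R := T) x = 1 ∧
    (Coalgebra.comul (R := R) (A := A)).lTensor T x = inl2 R A T x * inr2 R A T x := by
  have h : sqInv R A T (x ⊗ₜ[T] x) = inl2 R A T x * inr2 R A T x := Algebra.TensorProduct.lift_tmul ..
  constructor
  · exact fun hx => ⟨hx.counit_eq_one, by rw [← sqInv_comul, hx.comul_eq_tmul_self, h]⟩
  · rintro ⟨h1, h2⟩
    exact ⟨h1, sqInv_injective (by rw [sqInv_comul, h2, h])⟩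

end Criterion

section Pi

variable {R : Type u} [CommRing R] {A : Type u} [CommRing A] [HopfAlgebra R A]
  {ι : Type u} [Fintype ι] {T : ι → Type u} [∀ i, CommRing (T i)] [∀ i, Algebra R (T i)] {M : Type u} [CommGroup M]

omit [Fintype ι] in
/-- The projection of a product algebra. -/
noncomputable def prj (i : ι) : (∀ j, T j) →ₐ[R] T i := Pi.evalAlgHom R T i

theorem eq_of_forall_prj {N : Type u} [AddCommGroup N] [Module R N] {x y : (∀ j, T j) ⊗[R] N}
    (h : ∀ i, ((prj (R := R) (T := T) i).toLinearMap).rTensor N x = ((prj (R := R) (T := T) i).toLinearMap).rTensor N y) :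
    x = y := by
  classical
  have key : ∀ z : (∀ j, T j) ⊗[R] N, z =
      ∑ i, (LinearMap.single R T i).rTensor N (((prj (R := R) (T := T) i).toLinearMap).rTensor N z) := by
    intro z
    induction z using TensorProduct.induction_on with
    | zero => simp
    | tmul t n =>
      simp only [LinearMap.rTensor_tmul, ← sum_tmul]
      congr 1
      exact (Finset.univ_sum_single t).symm
    | add u v hu hv => simp only [map_add, Finset.sum_add_distrib]; rw [← hu, ← hv]
  rw [key x, key y]
  simp only [h]

theorem coefMap_eq_rTensor {T₁ T₂ : Type u} [CommRing T₁] [CommRing T₂] [Algebra R T₁] [Algebra R T₂]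
    (f : T₁ →ₐ[R] T₂) (x : T₁ ⊗[R] A) : coefMap A f x = f.toLinearMap.rTensor A x := by
  induction x using TensorProduct.induction_on with
  | zero => simp
  | tmul t a => rfl
  | add u v hu hv => simp only [map_add, hu, hv]

theorem eq_of_forall_coefMap {x y : (∀ j, T j) ⊗[R] A} (h : ∀ i, coefMap A (prj i) x = coefMap A (prj i) y) : x = y :=
  eq_of_forall_prj fun i => by rw [← coefMap_eq_rTensor, ← coefMap_eq_rTensor]; exact h i

/-- Frames over finite products. -/
theorem exists_frame_pi (g : ∀ i, M →* GroupLike (T i) (T i ⊗[R] A)) (hg : ∀ i, IsFrame (g i)) :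
    ∃ gT : M →* GroupLike (∀ i, T i) ((∀ i, T i) ⊗[R] A), IsFrame gT ∧ ∀ i m, glMap A (prj i) (gT m) = g i m := by
  classical
  let X : M → (∀ j, T j) ⊗[R] A := fun m => ∑ i, (LinearMap.single R T i).rTensor A (g i m).val
  have hX : ∀ i m, coefMap A (prj i) (X m) = (g i m).val := by
    intro i m
    rw [map_sum, Finset.sum_eq_single i]
    · rw [coefMap_eq_rTensor, ← LinearMap.comp_apply, ← LinearMap.rTensor_comp]
      rw [show (prj (R := R) (T := T) i).toLinearMap ∘ₗ LinearMap.single R T i = LinearMap.id from
        LinearMap.ext fun t => by simp [prj]]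
      exact LinearMap.rTensor_id_apply _ _ _
    · intro j _ hj
      rw [coefMap_eq_rTensor, ← LinearMap.comp_apply, ← LinearMap.rTensor_comp]
      rw [show (prj (R := R) (T := T) i).toLinearMap ∘ₗ LinearMap.single R T j = 0 from
        LinearMap.ext fun t => by simp [prj, Pi.single_eq_of_ne (Ne.symm hj)]]
      simp
    · simp
  have hgl : ∀ m, IsGroupLikeElem (∀ j, T j) (X m) := by
    intro m
    rw [isGroupLikeElem_iff_lTensor]
    refine ⟨funext fun i => ?_, eq_of_forall_prj fun i => ?_⟩
    · have h : ∀ z : (∀ j, T j) ⊗[R] A,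
          (Coalgebra.counit (R := ∀ j, T j) z) i = Coalgebra.counit (R := T i) (coefMap A (prj i) z) := by
        intro z
        induction z using TensorProduct.induction_on with
        | zero => simp
        | tmul t a => simp [prj]
        | add u v hu hv => simp only [map_add, Pi.add_apply, hu, hv]
      rw [h, hX, (g i m).isGroupLikeElem_val.counit_eq_one]
      rfl
    · let F : (∀ j, T j) ⊗[R] (A ⊗[R] A) →ₐ[R] T i ⊗[R] (A ⊗[R] A) :=
        Algebra.TensorProduct.map (prj i) (AlgHom.id R _)
      have hF : ∀ z, (prj (R := R) (T := T) i).toLinearMap.rTensor (A ⊗[R] A) z = F z := fun z => by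
        induction z using TensorProduct.induction_on with
        | zero => simp
        | tmul t a => rfl
        | add u v hu hv => simp only [map_add, hu, hv]
      have h1 : ∀ z, F ((Coalgebra.comul (R := R) (A := A)).lTensor _ z) =
          (Coalgebra.comul (R := R) (A := A)).lTensor (T i) (coefMap A (prj i) z) := fun z => by
        induction z using TensorProduct.induction_on with
        | zero => simp
        | tmul t a => rfl
        | add u v hu hv => simp only [map_add, hu, hv]
      have h2 : ∀ z, F (inl2 R A _ z) = inl2 R A (T i) (coefMap A (prj i) z) := fun z => by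
        induction z using TensorProduct.induction_on with
        | zero => simp
        | tmul t a => rfl
        | add u v hu hv => simp only [map_add, hu, hv]
      have h3 : ∀ z, F (inr2 R A _ z) = inr2 R A (T i) (coefMap A (prj i) z) := fun z => by
        induction z using TensorProduct.induction_on with
        | zero => simp
        | tmul t a => rfl
        | add u v hu hv => simp only [map_add, hu, hv]
      rw [hF, hF, h1, map_mul, h2, h3, hX]
      exact ((isGroupLikeElem_iff_lTensor _).mp (g i m).isGroupLikeElem_val).2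
  let gT : M →* GroupLike (∀ j, T j) ((∀ j, T j) ⊗[R] A) :=
    { toFun := fun m => ⟨X m, hgl m⟩
      map_one' := GroupLike.ext (eq_of_forall_coefMap fun i => by
        change coefMap A (prj i) (X 1) = coefMap A (prj i) 1
        rw [hX, map_one, GroupLike.val_one, map_one])
      map_mul' := fun a b => GroupLike.ext (eq_of_forall_coefMap fun i => by
        change coefMap A (prj i) (X (a * b)) = coefMap A (prj i) (X a * X b)
        rw [hX, map_mul, GroupLike.val_mul, map_mul, hX, hX]) }
  have hgT : ∀ i, (glMap A (prj (R := R) (T := T) i)).comp gT = g i := fun i => MonoidHom.ext fun m => GroupLike.ext (hX i m)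
  refine ⟨gT, ⟨fun x y hxy => ?_, fun y => ?_⟩, fun i m => DFunLike.congr_fun (hgT i) m⟩
  · refine MonoidAlgebra.ext (Finsupp.ext fun m => funext fun i => ?_)
    have h := congrArg (coefMap A (prj i)) hxy
    rw [← glHom_glMap, ← glHom_glMap, hgT] at h
    have := congrArg (fun z => z.coeff m) ((hg i).1 h)
    simp only [coeff_mapRingHom, Finsupp.mapRange_apply] at this
    exact this
  · choose z hz using fun i => (hg i).2 (coefMap A (prj i) y)
    refine ⟨∑ i, ∑ m ∈ (z i).coeff.support, single m (Pi.single i ((z i).coeff m)), eq_of_forall_coefMap fun i => ?_⟩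
    rw [← glHom_glMap, hgT, ← hz i]
    congr 1
    rw [map_sum, Finset.sum_eq_single i]
    · rw [map_sum]
      conv_rhs => rw [← MonoidAlgebra.sum_coeff_single (z i), Finsupp.sum]
      exact Finset.sum_congr rfl fun m _ => by simp [prj]
    · intro j _ hj
      rw [map_sum]
      exact Finset.sum_eq_zero fun m _ => by simp [prj, Pi.single_eq_of_ne (Ne.symm hj)]
    · simp

end Pi

end GrothLib.MultLocal
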