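import Groth.Agent.Lib.MultLocal.Nil
import Groth.Agent.Lib.MultLocal.Glue
import Groth.Agent.Lib.MultLocal.Algebraize

/-!
Homomorphisms into diagonalisable groups lift uniquely along nil ideals.
-/

universe u

set_option linter.style.haveILetI false
set_option maxSynthPendingDepth 3

open TensorProduct MonoidAlgebra

namespace GrothLib.MultLocal

variable {E : Type u} [CommRing E] {C : Type u} [CommRing C] [Bialgebra E C] {M : Type u} [CommGroup M]

/-- Change of the ring in a homomorphism to a diagonalisable group. -/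
theorem exists_bc {T T' : Type u} [CommRing T] [CommRing T'] [Algebra E T] [Algebra E T'] (f : T →ₐ[E] T')
    (ψ : T ⊗[E] C →ₐc[T] MonoidAlgebra T M) :
    ∃ ψ' : T' ⊗[E] C →ₐc[T'] MonoidAlgebra T' M, ∀ z,
      ψ' (coefMap C f z) = mapRingHom M (f : T →+* T') (ψ z) := by
  letI : Algebra T T' := f.toRingHom.toAlgebra
  haveI : IsScalarTower E T T' := IsScalarTower.of_algebraMap_eq fun r => (f.commutes r).symm
  let c := GrothLib.Hopf.cancelBaseChange E T T' C
  let cM := GrothLib.Hopf.groupAlgBaseChange T T' M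
  let ψ' : T' ⊗[E] C →ₐc[T'] MonoidAlgebra T' M :=
    (cM : T' ⊗[T] MonoidAlgebra T M →ₐc[T'] MonoidAlgebra T' M).comp
      ((Bialgebra.TensorProduct.map (BialgHom.id T' T') ψ).comp
        (c.symm : T' ⊗[E] C →ₐc[T'] T' ⊗[T] (T ⊗[E] C)))
  refine ⟨ψ', fun z => ?_⟩
  have hz : coefMap C f z = c ((1 : T') ⊗ₜ[T] z) := by
    induction z using TensorProduct.induction_on with
    | zero => simp
    | add x y hx hy => simp only [tmul_add, map_add, hx, hy]
    | tmul t a =>
      rw [GrothLib.Hopf.cancelBaseChange_tmul, coefMap_tmul, Algebra.smul_def, _root_.mul_one]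
      rfl
  change cM ((Bialgebra.TensorProduct.map (BialgHom.id T' T') ψ) (c.symm (coefMap C f z))) = _
  rw [hz, BialgEquiv.symm_apply_apply]
  change cM ((1 : T') ⊗ₜ[T] ψ z) = _
  generalize ψ z = w
  rw [GrothLib.Hopf.groupAlgBaseChange_tmul, one_smul]
  rfl

/-- Homomorphisms into a diagonalisable group agreeing modulo nilpotents agree, given a frame. -/
theorem eq_of_frame_nil {T T₀ : Type u} [CommRing T] [CommRing T₀] [Algebra E T] {N : Type u} [CommGroup N]
    {g : N →* GroupLike T (T ⊗[E] C)} (hg : IsFrame g) (π : T →+* T₀)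
    (hnil : ∀ a ∈ RingHom.ker π, IsNilpotent a) (φ ψ : T ⊗[E] C →ₐc[T] MonoidAlgebra T M)
    (h : ∀ c, mapRingHom M π (φ ((1 : T) ⊗ₜ c)) = mapRingHom M π (ψ ((1 : T) ⊗ₜ c))) : φ = ψ := by
  have hz : ∀ z, mapRingHom M π (φ z) = mapRingHom M π (ψ z) := by
    intro z
    induction z using TensorProduct.induction_on with
    | zero => simp
    | add x y hx hy => simp only [map_add, hx, hy]
    | tmul t c =>
      have hs : ∀ (χ : T ⊗[E] C →ₐc[T] MonoidAlgebra T M), mapRingHom M π (χ (t ⊗ₜ c)) =
          π t • mapRingHom M π (χ ((1 : T) ⊗ₜ c)) := fun χ => by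
        rw [show t ⊗ₜ[E] c = t • ((1 : T) ⊗ₜ[E] c) by rw [smul_tmul', smul_eq_mul, _root_.mul_one], map_smul]
        exact MonoidAlgebra.ext (Finsupp.ext fun m => by simp)
      rw [hs, hs, h]
  have hgl : ∀ n, φ (g n).val = ψ (g n).val := fun n =>
    eq_of_mapRingHom_eq π hnil ((g n).isGroupLikeElem_val.map φ) ((g n).isGroupLikeElem_val.map ψ) (hz _)
  refine BialgHom.ext fun z => ?_
  obtain ⟨w, rfl⟩ := hg.2 z
  induction w using MonoidAlgebra.induction_linear with
  | zero => simp
  | add x y hx hy => rw [map_add, map_add, map_add, hx, hy]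
  | single n r => rw [glHom_single, map_smul, map_smul, hgl]

theorem coeff_eq_of_mapRingHom_eq {T : Type u} [CommRing T] {S S' : Type u} [CommRing S] [CommRing S'] (f : S →+* T)
    (f' : S' →+* T) {x : MonoidAlgebra S M} {y : MonoidAlgebra S' M} (h : mapRingHom M f x = mapRingHom M f' y)
    (m : M) : f (x.coeff m) = f' (y.coeff m) := by
  simpa only [coeff_mapRingHom, Finsupp.mapRange_apply] using congrArg (fun z => z.coeff m) h

section Cover

variable {ι : Type u} [Fintype ι] {T : ι → Type u} [∀ i, CommRing (T i)] [∀ i, Algebra E (T i)]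
  [Module.FaithfullyFlat E (∀ i, T i)] {N : ι → Type u} [∀ i, CommGroup (N i)]
  {g : ∀ i, N i →* GroupLike (T i) (T i ⊗[E] C)}

theorem eq_of_forall_map {x y : MonoidAlgebra E M}
    (h : ∀ i, mapRingHom M (algebraMap E (T i)) x = mapRingHom M (algebraMap E (T i)) y) : x = y :=
  MonoidAlgebra.ext (Finsupp.ext fun m => FaithfulSMul.algebraMap_injective E (∀ i, T i)
    (funext fun i => coeff_eq_of_mapRingHom_eq _ _ (h i) m))

theorem exists_bc_top (φ : C →ₐc[E] MonoidAlgebra E M) (T : Type u) [CommRing T] [Algebra E T] :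
    ∃ ψ : T ⊗[E] C →ₐc[T] MonoidAlgebra T M, ∀ c, ψ ((1 : T) ⊗ₜ c) = mapRingHom M (algebraMap E T) (φ c) := by
  let cM := GrothLib.Hopf.groupAlgBaseChange E T M
  refine ⟨(cM : T ⊗[E] MonoidAlgebra E M →ₐc[T] MonoidAlgebra T M).comp
    (Bialgebra.TensorProduct.map (BialgHom.id T T) φ), fun c => ?_⟩
  change cM ((1 : T) ⊗ₜ[E] φ c) = _
  generalize φ c = w
  rw [GrothLib.Hopf.groupAlgBaseChange_tmul, one_smul]
  rfl

/-- Two homomorphisms into a diagonalisable group which agree modulo nilpotents agree. -/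
theorem bialgHom_eq_of_nil (hg : ∀ i, IsFrame (g i)) {J : Ideal E} (hJ : ∀ x ∈ J, IsNilpotent x)
    (φ ψ : C →ₐc[E] MonoidAlgebra E M)
    (h : ∀ c, mapRingHom M (Ideal.Quotient.mk J) (φ c) = mapRingHom M (Ideal.Quotient.mk J) (ψ c)) : φ = ψ := by
  refine BialgHom.ext fun c => eq_of_forall_map (T := T) fun i => ?_
  obtain ⟨φi, hφi⟩ := exists_bc_top φ (T i)
  obtain ⟨ψi, hψi⟩ := exists_bc_top ψ (T i)
  let π : T i →+* T i ⧸ J.map (algebraMap E (T i)) := Ideal.Quotient.mk _
  have hnil : ∀ a ∈ RingHom.ker π, IsNilpotent a := fun a ha => by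
    have hle : J.map (algebraMap E (T i)) ≤ nilradical (T i) := Ideal.map_le_iff_le_comap.mpr fun x hx =>
      Ideal.mem_comap.mpr (mem_nilradical.mpr ((hJ x hx).map _))
    exact mem_nilradical.mp (hle (Ideal.Quotient.eq_zero_iff_mem.mp (RingHom.mem_ker.mp ha)))
  have := eq_of_frame_nil (hg i) π hnil φi ψi fun c => by
    rw [hφi, hψi]
    refine MonoidAlgebra.ext (Finsupp.ext fun m => ?_)
    simp only [coeff_mapRingHom, Finsupp.mapRange_apply]
    have h1 := coeff_eq_of_mapRingHom_eq _ _ (h c) m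
    rw [Ideal.Quotient.eq] at h1 ⊢
    rw [← map_sub]
    exact Ideal.mem_map_of_mem _ h1
  rw [← hφi, ← hψi, this]

theorem mem_range_of_prj {P : ∀ i, T i}
    (h : ∀ i j, (Algebra.TensorProduct.includeLeft : T i →ₐ[E] T i ⊗[E] T j) (P i) =
      (Algebra.TensorProduct.includeRight : T j →ₐ[E] T i ⊗[E] T j) (P j)) :
    P ∈ Set.range (algebraMap E (∀ i, T i)) := by
  have hPP : P ⊗ₜ[E] (1 : ∀ i, T i) = (1 : ∀ i, T i) ⊗ₜ[E] P := by
    refine eq_of_forall_prj fun i => ?_
    apply (TensorProduct.comm E (T i) (∀ j, T j)).injective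
    refine eq_of_forall_prj fun j => ?_
    apply (TensorProduct.comm E (T j) (T i)).injective
    simp only [LinearMap.rTensor_tmul, TensorProduct.comm_tmul]
    exact h i j
  obtain ⟨e, he⟩ := LinearMap.mem_range.mp
    (GrothLib.DescElem.mem_range_of_one_tmul (∀ i, T i) (Algebra.linearMap E (∀ i, T i)) P
      ⟨P ⊗ₜ[E] (1 : E), by rw [LinearMap.lTensor_tmul, Algebra.linearMap_apply, map_one, hPP]⟩)
  exact ⟨e, he⟩

/-- Homomorphisms into a diagonalisable group lift along nil ideals. -/
theorem exists_bialgHom_lift (hg : ∀ i, IsFrame (g i)) {J : Ideal E} (hJ : ∀ x ∈ J, IsNilpotent x)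
    (φ₀ : (E ⧸ J) ⊗[E] C →ₐc[E ⧸ J] MonoidAlgebra (E ⧸ J) M) :
    ∃ φ : C →ₐc[E] MonoidAlgebra E M, ∀ c, mapRingHom M (Ideal.Quotient.mk J) (φ c) = φ₀ ((1 : E ⧸ J) ⊗ₜ c) := by
  classical
  have hnil : ∀ (S : Type u) [CommRing S] [Algebra E S],
      ∀ a ∈ RingHom.ker (Ideal.Quotient.mk (J.map (algebraMap E S))), IsNilpotent a := fun S _ _ a ha => by
    have hle : J.map (algebraMap E S) ≤ nilradical S := Ideal.map_le_iff_le_comap.mpr fun x hx =>
      Ideal.mem_comap.mpr (mem_nilradical.mpr ((hJ x hx).map _))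
    exact mem_nilradical.mp (hle (Ideal.Quotient.eq_zero_iff_mem.mp (RingHom.mem_ker.mp ha)))
  let q : ∀ (S : Type u) [CommRing S] [Algebra E S], (E ⧸ J) →ₐ[E] S ⧸ J.map (algebraMap E S) := fun S _ _ =>
    Ideal.Quotient.liftₐ J (Algebra.ofId E _) fun a ha => by
      change algebraMap E (S ⧸ J.map (algebraMap E S)) a = 0
      rw [IsScalarTower.algebraMap_apply E S (S ⧸ J.map (algebraMap E S)), Ideal.Quotient.algebraMap_eq,
        Ideal.Quotient.eq_zero_iff_mem]
      exact Ideal.mem_map_of_mem _ ha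
  -- the maps over the members of the cover
  have hloc : ∀ i, ∃ ψ : T i ⊗[E] C →ₐc[T i] MonoidAlgebra (T i) M, ∀ c,
      mapRingHom M (Ideal.Quotient.mk (J.map (algebraMap E (T i)))) (ψ ((1 : T i) ⊗ₜ c)) =
        mapRingHom M (q (T i) : E ⧸ J →+* T i ⧸ J.map (algebraMap E (T i))) (φ₀ ((1 : E ⧸ J) ⊗ₜ c)) := by
    intro i
    obtain ⟨β, hβ⟩ := exists_bc (q (T i)) φ₀
    let π : T i →ₐ[E] T i ⧸ J.map (algebraMap E (T i)) := Ideal.Quotient.mkₐ E _
    choose x hx hxy using fun n => exists_groupLike_lift (π : T i →+* T i ⧸ J.map (algebraMap E (T i)))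
      Ideal.Quotient.mk_surjective (hnil (T i)) ((glMap C π (g i n)).isGroupLikeElem_val.map β)
    let gx : N i →* GroupLike (T i) (MonoidAlgebra (T i) M) :=
      { toFun := fun n => ⟨x n, hx n⟩
        map_one' := GroupLike.ext (eq_of_mapRingHom_eq _ (hnil (T i)) (hx 1) IsGroupLikeElem.one (by
          change mapRingHom M (π : T i →+* T i ⧸ J.map (algebraMap E (T i))) (x 1) =
            mapRingHom M (π : T i →+* T i ⧸ J.map (algebraMap E (T i))) 1
          rw [hxy, map_one (g i), map_one (glMap C π), GroupLike.val_one, map_one β]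
          exact (map_one (mapRingHom M (π : T i →+* T i ⧸ J.map (algebraMap E (T i))))).symm))
        map_mul' := fun a b => GroupLike.ext (eq_of_mapRingHom_eq _ (hnil (T i)) (hx _) ((hx a).mul (hx b)) (by
          change mapRingHom M (π : T i →+* T i ⧸ J.map (algebraMap E (T i))) (x (a * b)) =
            mapRingHom M (π : T i →+* T i ⧸ J.map (algebraMap E (T i))) (x a * x b)
          rw [hxy, map_mul (g i), map_mul (glMap C π), GroupLike.val_mul, map_mul β, ← hxy, ← hxy,
            ← map_mul (mapRingHom M (π : T i →+* T i ⧸ J.map (algebraMap E (T i))))])) }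
    let ψ : T i ⊗[E] C →ₐc[T i] MonoidAlgebra (T i) M :=
      (glHom gx).comp ((hg i).equiv.symm : T i ⊗[E] C →ₐc[T i] MonoidAlgebra (T i) (N i))
    refine ⟨ψ, fun c => ?_⟩
    have hψ : ∀ w, mapRingHom M (π : T i →+* T i ⧸ J.map (algebraMap E (T i))) (ψ w) = β (coefMap C π w) := by
      intro w
      obtain ⟨v, rfl⟩ : ∃ v, (hg i).equiv v = w := ⟨_, (hg i).equiv.apply_symm_apply w⟩
      change mapRingHom M _ (glHom gx ((hg i).equiv.symm ((hg i).equiv v))) = _
      rw [BialgEquiv.symm_apply_apply, IsFrame.equiv_apply]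
      induction v using MonoidAlgebra.induction_linear with
      | zero => simp
      | add a b ha hb => simp only [map_add, ha, hb]
      | single n r =>
        rw [glHom_single, glHom_single, coefMap_smul, map_smul β]
        refine Eq.trans ?_ (congrArg (π r • ·) (hxy n))
        exact MonoidAlgebra.ext (Finsupp.ext fun m => by simp [gx, π])
    change mapRingHom M (π : T i →+* T i ⧸ J.map (algebraMap E (T i))) (ψ ((1 : T i) ⊗ₜ c)) = _
    rw [hψ, coefMap_tmul, map_one π]
    have := hβ ((1 : E ⧸ J) ⊗ₜ c)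
    rwa [coefMap_tmul, map_one (q (T i))] at this
  choose ψ hψ using hloc
  -- compatibility on the overlaps
  have hcompat : ∀ i j c, mapRingHom M ((Algebra.TensorProduct.includeLeft : T i →ₐ[E] T i ⊗[E] T j) : T i →+* T i ⊗[E] T j)
      (ψ i ((1 : T i) ⊗ₜ c)) = mapRingHom M ((Algebra.TensorProduct.includeRight : T j →ₐ[E] T i ⊗[E] T j) : T j →+* T i ⊗[E] T j)
      (ψ j ((1 : T j) ⊗ₜ c)) := by
    intro i j c
    let l : T i →ₐ[E] T i ⊗[E] T j := Algebra.TensorProduct.includeLeft
    let r : T j →ₐ[E] T i ⊗[E] T j := Algebra.TensorProduct.includeRight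
    obtain ⟨a, ha⟩ := exists_bc l (ψ i)
    obtain ⟨b, hb⟩ := exists_bc r (ψ j)
    let S := T i ⊗[E] T j
    have hred : ∀ {k} (f : T k →ₐ[E] S) (c : C),
        mapRingHom M (Ideal.Quotient.mk (J.map (algebraMap E S))) (mapRingHom M (f : T k →+* S) (ψ k ((1 : T k) ⊗ₜ c))) =
          mapRingHom M (q S : E ⧸ J →+* S ⧸ J.map (algebraMap E S)) (φ₀ ((1 : E ⧸ J) ⊗ₜ c)) := by
      intro k f c
      refine MonoidAlgebra.ext (Finsupp.ext fun m => ?_)
      simp only [coeff_mapRingHom, Finsupp.mapRange_apply]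
      have h1 := coeff_eq_of_mapRingHom_eq _ _ (hψ k c) m
      obtain ⟨e, he⟩ := Ideal.Quotient.mk_surjective ((φ₀ ((1 : E ⧸ J) ⊗ₜ c)).coeff m)
      rw [← he] at h1 ⊢
      change Ideal.Quotient.mk _ _ = Ideal.Quotient.mk _ (algebraMap E (T k) e) at h1
      change Ideal.Quotient.mk _ _ = Ideal.Quotient.mk _ (algebraMap E S e)
      rw [Ideal.Quotient.eq] at h1 ⊢
      have h2 := Ideal.mem_map_of_mem (f : T k →+* S) h1
      rw [Ideal.map_map, AlgHom.comp_algebraMap, map_sub] at h2
      rwa [show (f : T k →+* S) (algebraMap E (T k) e) = algebraMap E S e from f.commutes e] at h2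
    have hab : a = b := eq_of_frame_nil ((hg i).map l) (Ideal.Quotient.mk (J.map (algebraMap E S))) (hnil S) a b fun c => by
      rw [show (1 : S) ⊗ₜ[E] c = coefMap C l ((1 : T i) ⊗ₜ c) by rw [coefMap_tmul, map_one l], ha,
        show coefMap C l ((1 : T i) ⊗ₜ[E] c) = coefMap C r ((1 : T j) ⊗ₜ c) by
          rw [coefMap_tmul, coefMap_tmul, map_one l, map_one r], hb, hred, hred]
    rw [← ha, ← hb, hab, coefMap_tmul, coefMap_tmul, map_one l, map_one r]
  -- descent
  have hcoef : ∀ (c : C) (m : M), ∃ e : E, ∀ i, algebraMap E (T i) e = (ψ i ((1 : T i) ⊗ₜ c)).coeff m := by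
    intro c m
    obtain ⟨e, he⟩ := mem_range_of_prj (E := E) (P := fun i => (ψ i ((1 : T i) ⊗ₜ c)).coeff m)
      (fun i j => coeff_eq_of_mapRingHom_eq _ _ (hcompat i j c) m)
    exact ⟨e, fun i => congrFun he i⟩
  choose a ha using hcoef
  have hsupp : ∀ c m, a c m ≠ 0 → m ∈ Finset.univ.biUnion fun i => (ψ i ((1 : T i) ⊗ₜ c)).coeff.support := by
    intro c m hne
    by_contra hm
    refine hne (FaithfulSMul.algebraMap_injective E (∀ i, T i) (funext fun i => ?_))
    rw [map_zero]
    change algebraMap E (T i) (a c m) = 0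
    rw [ha]
    by_contra h0
    exact hm (Finset.mem_biUnion.mpr ⟨i, Finset.mem_univ _, Finsupp.mem_support_iff.mpr h0⟩)
  let f₀ : C → MonoidAlgebra E M := fun c => MonoidAlgebra.ofCoeff (Finsupp.onFinset _ (a c) (hsupp c))
  have hf₀ : ∀ c i, mapRingHom M (algebraMap E (T i)) (f₀ c) = ψ i ((1 : T i) ⊗ₜ c) := fun c i =>
    MonoidAlgebra.ext (Finsupp.ext fun m => by simp [f₀, ha])
  let f : C →ₐ[E] MonoidAlgebra E M :=
    { toFun := f₀
      map_one' := eq_of_forall_map (T := T) fun i => by
        rw [hf₀, map_one (mapRingHom M (algebraMap E (T i))), ← Algebra.TensorProduct.one_def, map_one (ψ i)]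
      map_mul' := fun x y => eq_of_forall_map (T := T) fun i => by
        rw [hf₀, map_mul (mapRingHom M (algebraMap E (T i))), hf₀, hf₀, ← map_mul (ψ i),
          Algebra.TensorProduct.tmul_mul_tmul, _root_.mul_one]
      map_zero' := eq_of_forall_map (T := T) fun i => by rw [hf₀, map_zero, tmul_zero, map_zero]
      map_add' := fun x y => eq_of_forall_map (T := T) fun i => by rw [hf₀, map_add, hf₀, hf₀, tmul_add, map_add]
      commutes' := fun r => eq_of_forall_map (T := T) fun i => by
        rw [hf₀, Algebra.algebraMap_eq_smul_one, tmul_smul, ← algebraMap_smul (T i) r, map_smul,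
          ← Algebra.TensorProduct.one_def, map_one (ψ i)]
        refine MonoidAlgebra.ext (Finsupp.ext fun m => ?_)
        simp [MonoidAlgebra.coe_algebraMap, MonoidAlgebra.one_def, Finsupp.single_apply, Algebra.smul_def,
          apply_ite (algebraMap E (T i))] }
  refine ⟨BialgHom.ofAlgHom f (AlgHom.ext fun c => ?_) (AlgHom.ext fun c => ?_), fun c => ?_⟩
  · change Coalgebra.counit (R := E) (f₀ c) = Coalgebra.counit (R := E) c
    refine FaithfulSMul.algebraMap_injective E (∀ i, T i) (funext fun i => ?_)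
    have h1 : ∀ w : MonoidAlgebra E M, algebraMap E (T i) (Coalgebra.counit (R := E) w) =
        Coalgebra.counit (R := T i) (mapRingHom M (algebraMap E (T i)) w) := by
      intro w
      induction w using MonoidAlgebra.induction_linear with
      | zero => simp
      | add x y hx hy => simp only [map_add, hx, hy]
      | single m r => simp
    change algebraMap E (T i) _ = algebraMap E (T i) _
    rw [h1, hf₀]
    refine (CoalgHomClass.counit_comp_apply (ψ i) _).trans ?_
    rw [TensorProduct.counit_tmul, CommSemiring.counit_apply, Algebra.algebraMap_eq_smul_one]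
  · change TensorProduct.map f.toLinearMap f.toLinearMap (Coalgebra.comul c) = Coalgebra.comul (f₀ c)
    refine ext_of_pairs _ _ fun m m' => FaithfulSMul.algebraMap_injective E (∀ i, T i) (funext fun i => ?_)
    let S := T i
    let cf : M → (MonoidAlgebra S M →ₗ[S] S) := fun k =>
      (Finsupp.lapply k).comp (MonoidAlgebra.coeffLinearEquiv S).toLinearMap
    let cE : M → (MonoidAlgebra E M →ₗ[E] E) := fun k =>
      (Finsupp.lapply k).comp (MonoidAlgebra.coeffLinearEquiv E).toLinearMap
    change algebraMap E S (LinearMap.mul' E E (TensorProduct.map (cE m) (cE m') _)) =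
      algebraMap E S (LinearMap.mul' E E (TensorProduct.map (cE m) (cE m') _))
    have h1 : ∀ z : C ⊗[E] C, algebraMap E S (LinearMap.mul' E E (TensorProduct.map (cE m) (cE m')
        (TensorProduct.map f.toLinearMap f.toLinearMap z))) =
        LinearMap.mul' S S (TensorProduct.map (cf m) (cf m') (TensorProduct.map (ψ i).toCoalgHom.toLinearMap
          (ψ i).toCoalgHom.toLinearMap (sqMap E C S z))) := by
      intro z
      induction z using TensorProduct.induction_on with
      | zero => simp [sqMap]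
      | add x y hx hy => simp only [sqMap, tmul_add, map_add] at hx hy ⊢; rw [hx, hy]
      | tmul x y =>
        rw [sqMap_tmul, TensorProduct.map_tmul, TensorProduct.map_tmul, LinearMap.mul'_apply, map_mul,
          TensorProduct.map_tmul, TensorProduct.map_tmul, LinearMap.mul'_apply]
        change algebraMap E S ((f₀ x).coeff m) * algebraMap E S ((f₀ y).coeff m') =
          (ψ i ((1 : S) ⊗ₜ x)).coeff m * (ψ i ((1 : S) ⊗ₜ y)).coeff m'
        rw [← hf₀, ← hf₀, coeff_mapRingHom, coeff_mapRingHom]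
    have h2 : ∀ w : MonoidAlgebra E M, algebraMap E S (LinearMap.mul' E E (TensorProduct.map (cE m) (cE m')
        (Coalgebra.comul w))) =
        LinearMap.mul' S S (TensorProduct.map (cf m) (cf m') (Coalgebra.comul (mapRingHom M (algebraMap E S) w))) := by
      intro w
      induction w using MonoidAlgebra.induction_linear with
      | zero => simp
      | add x y hx hy => simp only [map_add, hx, hy]
      | single k r =>
        rw [mapRingHom_single]
        simp [cE, cf, Finsupp.single_apply, apply_ite (algebraMap E S)]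
    have h3 := CoalgHomClass.map_comp_comul_apply (ψ i) ((1 : S) ⊗ₜ[E] c)
    rw [comul_one_tmul] at h3
    rw [h1, h2, hf₀]
    exact congrArg (fun z => LinearMap.mul' S S (TensorProduct.map (cf m) (cf m') z)) h3
  · refine MonoidAlgebra.ext (Finsupp.ext fun m => ?_)
    change (mapRingHom M (Ideal.Quotient.mk J) (f₀ c)).coeff m = _
    rw [coeff_mapRingHom]
    obtain ⟨e, he⟩ := Ideal.Quotient.mk_surjective ((φ₀ ((1 : E ⧸ J) ⊗ₜ c)).coeff m)
    rw [← he, Ideal.Quotient.eq]
    let P := ∀ i, T i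
    have hP : J.map (algebraMap E P) ≤ RingHom.ker (RingHom.id P) ⊔ J.map (algebraMap E P) := le_sup_right
    suffices h : algebraMap E P ((f₀ c).coeff m - e) ∈ J.map (algebraMap E P) by
      rw [← Ideal.comap_map_eq_self_of_faithfullyFlat (B := P) J]
      exact h
    have hi : ∀ i, algebraMap E (T i) ((f₀ c).coeff m - e) ∈ J.map (algebraMap E (T i)) := fun i => by
      rw [map_sub, ← Ideal.Quotient.eq]
      have h1 := coeff_eq_of_mapRingHom_eq _ _ (hψ i c) m
      rw [← he] at h1
      refine Eq.trans ?_ h1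
      rw [← hf₀, coeff_mapRingHom]
    have key : algebraMap E P ((f₀ c).coeff m - e) =
        ∑ i, LinearMap.single E T i (algebraMap E (T i) ((f₀ c).coeff m - e)) :=
      (Finset.univ_sum_single _).symm
    rw [key]
    suffices h' : (∑ i, LinearMap.single E T i (algebraMap E (T i) ((f₀ c).coeff m - e))) ∈
        (J • (⊤ : Submodule E P)) by
      rw [Ideal.smul_top_eq_map] at h'
      exact h'
    refine Submodule.sum_mem _ fun i _ => ?_
    have h4 : algebraMap E (T i) ((f₀ c).coeff m - e) ∈ (J • (⊤ : Submodule E (T i))) := by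
      rw [Ideal.smul_top_eq_map]
      exact hi i
    have h5 := Submodule.mem_map_of_mem (f := LinearMap.single E T i) h4
    rw [Submodule.map_smul''] at h5
    exact Submodule.smul_mono le_rfl le_top h5

end Cover

end GrothLib.MultLocal
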