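import Groth.Agent.Lib.MultLocal.Descent
import Groth.Agent.Lib.OT.Rank
import Groth.Prelude.Def_SGA3b
import Mathlib.RingTheory.HopfAlgebra.Quotient
import Mathlib.GroupTheory.FiniteAbelian.Basic
import Mathlib.GroupTheory.QuotientGroup.Finite
import Mathlib.RingTheory.HopfAlgebra.Convolution

/-!
The kernel of the `n`-th power map of a group with a frame, and the moduli separating descent data.
-/

universe u

set_option linter.style.haveILetI false

open TensorProduct MonoidAlgebra WithConv

namespace GrothLib.MultLocal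

section Group

variable {M : Type u} [CommGroup M]

variable (M) in
/-- The subgroup of `n`-th powers. -/
def powSub (n : ℕ) : Subgroup M := (powMonoidHom n : M →* M).range

theorem mem_powSub {n : ℕ} {x : M} : x ∈ powSub M n ↔ ∃ y, y ^ n = x := by
  simp [powSub]

theorem powSub_anti {n m : ℕ} (h : n ∣ m) : powSub M m ≤ powSub M n := by
  rintro x hx
  obtain ⟨y, rfl⟩ := mem_powSub.mp hx
  obtain ⟨k, rfl⟩ := h
  exact mem_powSub.mpr ⟨y ^ k, by rw [← pow_mul, mul_comm]⟩

theorem exists_notMem_powSub [Group.FG M] {x : M} (hx : x ≠ 1) : ∃ n : ℕ, 0 < n ∧ x ∉ powSub M n := by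
  classical
  haveI : AddGroup.FG (Additive M) := GroupFG.iff_add_fg.mp inferInstance
  obtain ⟨r, ι, _, p, hp, e, ⟨f⟩⟩ := AddCommGroup.equiv_free_prod_directSum_zmod (Additive M)
  have hx' : f (Additive.ofMul x) ≠ 0 := by
    rw [ne_eq, map_eq_zero_iff _ f.injective]
    exact hx
  by_cases h1 : (f (Additive.ofMul x)).1 = 0
  · haveI : ∀ i, NeZero (p i ^ e i) := fun i => ⟨pow_ne_zero _ (hp i).pos.ne'⟩
    let D := ∀ i : ι, ZMod (p i ^ e i)
    refine ⟨Fintype.card D, Fintype.card_pos, fun hmem => hx' ?_⟩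
    obtain ⟨y, hy⟩ := mem_powSub.mp hmem
    refine Prod.ext h1 (DFinsupp.ext fun i => ?_)
    rw [← hy, ofMul_pow, map_nsmul, Prod.smul_snd, Prod.snd_zero, DirectSum.zero_apply]
    have := card_nsmul_eq_zero (G := D) (x := fun i => (f (Additive.ofMul y)).2 i)
    exact (DFinsupp.smul_apply _ _ i).trans (congrFun this i)
  · obtain ⟨i, hi⟩ : ∃ i, (f (Additive.ofMul x)).1 i ≠ 0 := by
      by_contra! h
      exact h1 (Finsupp.ext h)
    refine ⟨((f (Additive.ofMul x)).1 i).natAbs + 1, Nat.succ_pos _, fun hmem => hi ?_⟩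
    obtain ⟨y, hy⟩ := mem_powSub.mp hmem
    set c := (f (Additive.ofMul x)).1 i
    have hc : c = ((c.natAbs + 1 : ℕ) : ℤ) * (f (Additive.ofMul y)).1 i := by
      have := congrArg (fun z => (f (Additive.ofMul z)).1 i) hy.symm
      simpa [ofMul_pow, map_nsmul, c] using this
    refine Int.eq_zero_of_dvd_of_natAbs_lt_natAbs ⟨_, hc⟩ ?_
    rw [Int.natAbs_natCast]
    omega

/-- A modulus separating finitely many elements from `1`. -/
theorem exists_separating [Group.FG M] (s : Finset M) :
    ∃ n : ℕ, 0 < n ∧ ∀ x ∈ s, x ∈ powSub M n → x = 1 := by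
  classical
  induction s using Finset.induction_on with
  | empty => exact ⟨1, one_pos, by simp⟩
  | insert a s _ ih =>
    obtain ⟨n, hn, h⟩ := ih
    by_cases ha : a = 1
    · refine ⟨n, hn, fun x hx hmem => ?_⟩
      rcases Finset.mem_insert.mp hx with rfl | hx
      exacts [ha, h x hx hmem]
    · obtain ⟨m, hm, hma⟩ := exists_notMem_powSub ha
      refine ⟨n * m, Nat.mul_pos hn hm, fun x hx hmem => ?_⟩
      rcases Finset.mem_insert.mp hx with rfl | hx
      · exact absurd (powSub_anti (dvd_mul_left m n) hmem) hma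
      · exact h x hx (powSub_anti (dvd_mul_right n m) hmem)

theorem finite_quot_powSub [Group.FG M] {n : ℕ} (hn : 0 < n) : Finite (M ⧸ powSub M n) := by
  refine CommGroup.finite_of_fg_torsion _ fun x => ?_
  obtain ⟨m, rfl⟩ := QuotientGroup.mk_surjective x
  refine isOfFinOrder_iff_pow_eq_one.mpr ⟨n, hn, ?_⟩
  rw [← QuotientGroup.mk_pow, QuotientGroup.eq_one_iff]
  exact mem_powSub.mpr ⟨m, rfl⟩

end Group

section HopfIdeal

variable {R : Type u} [CommRing R] {A : Type u} [CommRing A] [HopfAlgebra R A]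

theorem powConv_groupLike (n : ℕ) {x : A} (hx : IsGroupLikeElem R x) : SGA3b.powConv R A n x = x ^ n := by
  induction n with
  | zero => simp [SGA3b.powConv, hx.counit_eq_one]
  | succ n ih =>
    rw [SGA3b.powConv, pow_succ, AlgHom.convMul_apply, hx.comul_eq_tmul_self]
    simp only [Algebra.TensorProduct.map_tmul, Algebra.TensorProduct.lmul'_apply_tmul, ofConv_toConv,
      AlgHom.id_apply]
    rw [pow_succ x n, ← ih]
    rfl

variable (R A) in
/-- The power map of a cocommutative Hopf algebra as a bialgebra map. -/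
noncomputable def powHom [Coalgebra.IsCocomm R A] (n : ℕ) : A →ₐc[R] A :=
  ((toConv (BialgHom.id R A)) ^ n).ofConv

theorem powHom_apply [Coalgebra.IsCocomm R A] (n : ℕ) (a : A) : powHom R A n a = SGA3b.powConv R A n a :=
  DFunLike.congr_fun (congrArg ofConv (BialgHom.toAlgHom_convPow (toConv (BialgHom.id R A)) n)) a

theorem antipode_bialgHom {B : Type u} [CommRing B] [HopfAlgebra R B] (φ : A →ₐc[R] B) :
    HopfAlgebraStruct.antipode R ∘ₗ φ.toCoalgHom.toLinearMap =
      φ.toCoalgHom.toLinearMap ∘ₗ HopfAlgebraStruct.antipode R := by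
  have h1 : toConv (HopfAlgebraStruct.antipode R ∘ₗ φ.toCoalgHom.toLinearMap) * toConv φ.toCoalgHom.toLinearMap =
      (1 : WithConv (A →ₗ[R] B)) := by
    apply ofConv_injective
    calc (toConv (HopfAlgebraStruct.antipode R ∘ₗ φ.toCoalgHom.toLinearMap) *
          toConv φ.toCoalgHom.toLinearMap : WithConv (A →ₗ[R] B)).ofConv
        = (toConv (HopfAlgebraStruct.antipode R) * toConv LinearMap.id : WithConv (B →ₗ[R] B)).ofConv ∘ₗ
            φ.toCoalgHom.toLinearMap := by
          rw [LinearMap.convMul_comp_coalgHom_distrib]; rfl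
      _ = (1 : WithConv (A →ₗ[R] B)).ofConv := by
          rw [LinearMap.antipode_mul_id, LinearMap.convOne_comp_coalgHom]
  have h2 : toConv φ.toCoalgHom.toLinearMap * toConv (φ.toCoalgHom.toLinearMap ∘ₗ HopfAlgebraStruct.antipode R) =
      (1 : WithConv (A →ₗ[R] B)) := by
    apply ofConv_injective
    calc (toConv φ.toCoalgHom.toLinearMap *
          toConv (φ.toCoalgHom.toLinearMap ∘ₗ HopfAlgebraStruct.antipode R) : WithConv (A →ₗ[R] B)).ofConv
        = (AlgHomClass.toAlgHom φ).toLinearMap ∘ₗ
            (toConv LinearMap.id * toConv (HopfAlgebraStruct.antipode R) : WithConv (A →ₗ[R] A)).ofConv := by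
          rw [LinearMap.algHom_comp_convMul_distrib]; rfl
      _ = (1 : WithConv (A →ₗ[R] B)).ofConv := by
          rw [LinearMap.id_mul_antipode, LinearMap.algHom_comp_convOne]
  exact congrArg ofConv (left_inv_eq_right_inv h1 h2)

/-- The ideal generated by the image of the augmentation ideal under a bialgebra endomorphism is a Hopf
ideal. -/
theorem isHopfIdeal_map_ker (φ : A →ₐc[R] A) (J : Ideal A)
    (hJ : J = Ideal.map (φ : A →ₐ[R] A) (RingHom.ker (Bialgebra.counitAlgHom R A))) : J.IsHopfIdeal R := by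
  let π : A →ₐ[R] A ⧸ J := Ideal.Quotient.mkₐ R J
  have hπ : ∀ a, π (φ a) = algebraMap R (A ⧸ J) (Coalgebra.counit a) := fun a => by
    have hmem : φ (a - algebraMap R A (Coalgebra.counit a)) ∈ J := by
      rw [hJ]
      refine Ideal.mem_map_of_mem (φ : A →ₐ[R] A) ?_
      simp
    have h := Ideal.Quotient.eq_zero_iff_mem.mpr hmem
    change π (φ (a - algebraMap R A (Coalgebra.counit a))) = 0 at h
    rw [map_sub, map_sub, AlgHomClass.commutes, AlgHom.commutes, sub_eq_zero] at h
    exact h
  have hε : J ≤ RingHom.ker (Bialgebra.counitAlgHom R A) := by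
    rw [hJ, Ideal.map_le_iff_le_comap]
    intro a ha
    rw [Ideal.mem_comap, RingHom.mem_ker]
    rw [RingHom.mem_ker] at ha
    exact (CoalgHomClass.counit_comp_apply φ a).trans ha
  have hΔ : J ≤ RingHom.ker ((Algebra.TensorProduct.map π π).comp (Bialgebra.comulAlgHom R A)) := by
    refine hJ.le.trans (Ideal.map_le_iff_le_comap.mpr fun a ha => ?_)
    rw [Ideal.mem_comap, RingHom.mem_ker]
    rw [RingHom.mem_ker] at ha
    change Algebra.TensorProduct.map π π (Coalgebra.comul (φ a)) = 0
    rw [← CoalgHomClass.map_comp_comul_apply φ a]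
    have h : ∀ z, Algebra.TensorProduct.map π π (TensorProduct.map (φ : A →ₗ[R] A) (φ : A →ₗ[R] A) z) =
        algebraMap R ((A ⧸ J) ⊗[R] (A ⧸ J))
          (LinearMap.mul' R R (TensorProduct.map Coalgebra.counit Coalgebra.counit z)) := by
      intro z
      induction z using TensorProduct.induction_on with
      | zero => simp
      | tmul x y =>
        rw [TensorProduct.map_tmul, Algebra.TensorProduct.map_tmul]
        change π (φ x) ⊗ₜ[R] π (φ y) = _
        rw [hπ, hπ, TensorProduct.map_tmul, LinearMap.mul'_apply, map_mul, Algebra.TensorProduct.algebraMap_apply,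
          Algebra.TensorProduct.algebraMap_apply', Algebra.TensorProduct.tmul_mul_tmul, _root_.mul_one,
          _root_.one_mul]
      | add x y hx hy => simp only [map_add, hx, hy]
    rw [h]
    have : LinearMap.mul' R R (TensorProduct.map Coalgebra.counit Coalgebra.counit (Coalgebra.comul a)) =
        Coalgebra.counit a * 1 := by
      rw [← (Coalgebra.Repr.arbitrary R a).eq, map_sum, map_sum]
      simp only [TensorProduct.map_tmul, LinearMap.mul'_apply, _root_.mul_one]
      conv_rhs => rw [← Coalgebra.sum_counit_smul (Coalgebra.Repr.arbitrary R a)]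
      simp [smul_eq_mul]
    rw [this, _root_.mul_one, show Coalgebra.counit a = (0 : R) from ha, map_zero]
  haveI : (J.restrictScalars R).IsCoideal :=
    ⟨fun x hx => hε hx, fun x hx => hΔ hx⟩
  refine ⟨fun x hx => ?_⟩
  rw [hJ] at hx ⊢
  suffices key : Ideal.map (φ : A →ₐ[R] A) (RingHom.ker (Bialgebra.counitAlgHom R A)) ≤
      Ideal.comap (HopfAlgebra.antipodeAlgHom R A)
        (Ideal.map (φ : A →ₐ[R] A) (RingHom.ker (Bialgebra.counitAlgHom R A))) from key hx
  rw [Ideal.map_le_iff_le_comap]
  intro a ha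
  rw [Ideal.mem_comap, Ideal.mem_comap]
  change HopfAlgebraStruct.antipode R (φ a) ∈ _
  rw [show HopfAlgebraStruct.antipode R (φ a) = φ (HopfAlgebraStruct.antipode R a) from
    LinearMap.congr_fun (antipode_bialgHom φ) a]
  refine Ideal.mem_map_of_mem (φ : A →ₐ[R] A) ?_
  rw [RingHom.mem_ker] at ha ⊢
  exact (HopfAlgebra.counit_antipode (R := R) a).trans ha

/-- The torsion ideal of a cocommutative Hopf algebra is a Hopf ideal. -/
theorem isHopfIdeal_torsionIdeal [Coalgebra.IsCocomm R A] (n : ℕ) : (SGA3b.torsionIdeal R A n).IsHopfIdeal R :=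
  isHopfIdeal_map_ker (powHom R A n) _ (by
    rw [SGA3b.torsionIdeal]
    exact congrArg (fun f : A →ₐ[R] A => Ideal.map f _) (AlgHom.ext fun a => (powHom_apply n a).symm))

end HopfIdeal

section Kernel

variable {R : Type u} [CommRing R] {A : Type u} [CommRing A] [HopfAlgebra R A]
  {C : Type u} [CommRing C] [Bialgebra R C] (π : A →ₐc[R] C) {M : Type u} [CommGroup M]

/-- `π` is the projection to the kernel of the `n`-th power map. -/
def IsKerPow (n : ℕ) : Prop :=
  Function.Surjective π ∧ RingHom.ker (π : A →ₐ[R] C) = SGA3b.torsionIdeal R A n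

variable {T T' : Type u} [CommRing T] [CommRing T'] [Algebra R T] [Algebra R T']

variable (T) in
/-- Base change of the projection. -/
noncomputable def projT : T ⊗[R] A →ₐc[T] T ⊗[R] C := Bialgebra.TensorProduct.map (BialgHom.id T T) π

@[simp]
theorem projT_tmul (t : T) (a : A) : projT π T (t ⊗ₜ a) = t ⊗ₜ π a := rfl

variable (T) in
/-- The projection on group-like elements. -/
noncomputable def glProj : GroupLike T (T ⊗[R] A) →* GroupLike T (T ⊗[R] C) := glPush (projT π T)

theorem glProj_glMap (f : T →ₐ[R] T') (x : GroupLike T (T ⊗[R] A)) :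
    glProj π T' (glMap A f x) = glMap C f (glProj π T x) := by
  refine GroupLike.ext ?_
  change projT π T' (coefMap A f x.val) = coefMap C f (projT π T x.val)
  generalize x.val = y
  induction y using TensorProduct.induction_on with
  | zero => simp
  | tmul t a => simp
  | add x y hx hy => simp only [map_add, hx, hy]

theorem exists_frame_kernel {n : ℕ} (hπ : IsKerPow π n) {g : M →* GroupLike T (T ⊗[R] A)} (hg : IsFrame g) :
    ∃ gQ : M ⧸ powSub M n →* GroupLike T (T ⊗[R] C), IsFrame gQ ∧ ∀ m : M, gQ m = glProj π T (g m) := by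
  have hkill : ∀ a : A, π (SGA3b.powConv R A n a) = algebraMap R C (Coalgebra.counit a) := fun a => by
    have hmem : SGA3b.powConv R A n (a - algebraMap R A (Coalgebra.counit a)) ∈ RingHom.ker (π : A →ₐ[R] C) := by
      rw [hπ.2]
      refine Ideal.mem_map_of_mem _ ?_
      simp
    rw [RingHom.mem_ker, map_sub, map_sub, AlgHom.commutes, AlgHom.commutes, sub_eq_zero] at hmem
    exact hmem
  have hT : ∀ y : T ⊗[R] A, projT π T (SGA3b.powConv T (T ⊗[R] A) n y) =
      algebraMap T (T ⊗[R] C) (Coalgebra.counit y) := by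
    intro y
    induction y using TensorProduct.induction_on with
    | zero => simp
    | add x y hx hy => simp only [map_add, hx, hy]
    | tmul t a =>
      rw [show t ⊗ₜ[R] a = t • ((1 : T) ⊗ₜ[R] a) by rw [smul_tmul', smul_eq_mul, _root_.mul_one], map_smul, map_smul,
        GrothLib.OT.powConv_baseChange, projT_tmul, hkill, map_smul, TensorProduct.counit_tmul,
        CommSemiring.counit_apply, Algebra.TensorProduct.algebraMap_apply, Algebra.algebraMap_eq_smul_one (A := C),
        smul_tmul', tmul_smul, smul_tmul', smul_eq_mul, _root_.mul_one]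
      simp [mul_comm]
  have hker : powSub M n ≤ ((glProj π T).comp g).ker := by
    intro x hx
    obtain ⟨y, rfl⟩ := mem_powSub.mp hx
    rw [MonoidHom.mem_ker, map_pow, MonoidHom.comp_apply]
    refine GroupLike.ext ?_
    rw [GroupLike.val_pow, GroupLike.val_one]
    change projT π T (g y).val ^ n = 1
    rw [← map_pow, ← powConv_groupLike n (g y).isGroupLikeElem_val, hT, (g y).isGroupLikeElem_val.counit_eq_one,
      map_one]
  let gQ := QuotientGroup.lift (powSub M n) ((glProj π T).comp g) hker
  have hgQ : ∀ m : M, gQ m = glProj π T (g m) := fun m => rfl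
  refine ⟨gQ, ⟨?_, ?_⟩, hgQ⟩
  · -- a left inverse
    let ψ' : T ⊗[R] A →ₐ[T] MonoidAlgebra T (M ⧸ powSub M n) :=
      (mapDomainAlgHom T T (QuotientGroup.mk' (powSub M n))).comp (hg.equiv.symm : T ⊗[R] A ≃ₐc[T] _).toAlgEquiv.toAlgHom
    have hψ' : ∀ m, ψ' (g m).val = single (m : M ⧸ powSub M n) 1 := fun m => by
      have h : hg.equiv.symm (g m).val = single m 1 := by
        rw [← one_smul T (g m).val, ← glHom_single g m 1, ← hg.equiv_apply, BialgEquiv.symm_apply_apply]
      change mapDomainAlgHom T T (QuotientGroup.mk' (powSub M n)) (hg.equiv.symm (g m).val) = _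
      rw [h]
      simp
    have hψpow : ∀ y, ψ' (SGA3b.powConv T (T ⊗[R] A) n y) = algebraMap T _ (Coalgebra.counit y) := by
      intro y
      obtain ⟨z, rfl⟩ := hg.2 y
      induction z using MonoidAlgebra.induction_linear with
      | zero => simp
      | add x y hx hy => simp only [map_add, hx, hy]
      | single m r =>
        rw [glHom_single, map_smul, map_smul, powConv_groupLike n (g m).isGroupLikeElem_val, map_pow, hψ',
          map_smul, (g m).isGroupLikeElem_val.counit_eq_one, single_pow, ← QuotientGroup.mk_pow,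
          (QuotientGroup.eq_one_iff _).mpr (mem_powSub.mpr ⟨m, rfl⟩)]
        simp [Algebra.algebraMap_eq_smul_one, MonoidAlgebra.one_def]
    let ψ0 : A →ₐ[R] MonoidAlgebra T (M ⧸ powSub M n) :=
      (ψ'.restrictScalars R).comp Algebra.TensorProduct.includeRight
    have hψ0 : RingHom.ker (π : A →ₐ[R] C) ≤ RingHom.ker ψ0 := by
      rw [hπ.2, SGA3b.torsionIdeal, Ideal.map_le_iff_le_comap]
      intro a ha
      rw [Ideal.mem_comap, RingHom.mem_ker]
      change ψ' ((1 : T) ⊗ₜ[R] SGA3b.powConv R A n a) = 0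
      rw [← GrothLib.OT.powConv_baseChange, hψpow, TensorProduct.counit_tmul,
        show Coalgebra.counit a = (0 : R) from ha, zero_smul, map_zero]
    obtain ⟨ψ1, hψ1⟩ : ∃ ψ1 : C →ₐ[R] MonoidAlgebra T (M ⧸ powSub M n), ∀ a, ψ1 (π a) = ψ0 a := by
      refine ⟨(Ideal.Quotient.liftₐ _ ψ0 fun a ha => hψ0 ha).comp
        (Ideal.quotientKerAlgEquivOfSurjective (f := (π : A →ₐ[R] C)) hπ.1).symm.toAlgHom, fun a => ?_⟩
      have : (Ideal.quotientKerAlgEquivOfSurjective (f := (π : A →ₐ[R] C)) hπ.1).symm (π a) =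
          Ideal.Quotient.mk _ a := by
        rw [AlgEquiv.symm_apply_eq]; rfl
      change (Ideal.Quotient.liftₐ _ ψ0 fun a ha => hψ0 ha) ((Ideal.quotientKerAlgEquivOfSurjective (f := (π : A →ₐ[R] C)) hπ.1).symm (π a)) = _
      rw [this]
      rfl
    let ψ : T ⊗[R] C →ₐ[T] MonoidAlgebra T (M ⧸ powSub M n) :=
      Algebra.TensorProduct.lift (Algebra.ofId T _) ψ1 fun _ _ => Commute.all _ _
    have hψ : ∀ y, ψ (projT π T y) = ψ' y := by
      intro y
      induction y using TensorProduct.induction_on with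
      | zero => simp
      | add x y hx hy => simp only [map_add, hx, hy]
      | tmul t a =>
        simp only [projT_tmul, ψ, Algebra.TensorProduct.lift_tmul, hψ1]
        rw [Algebra.ofId_apply, ← Algebra.smul_def]
        change t • ψ' ((1 : T) ⊗ₜ[R] a) = _
        rw [← map_smul, smul_tmul', smul_eq_mul, _root_.mul_one]
    refine Function.LeftInverse.injective (g := ψ) fun z => ?_
    induction z using MonoidAlgebra.induction_linear with
    | zero => simp
    | add x y hx hy => simp only [map_add, hx, hy]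
    | single q r =>
      obtain ⟨m, rfl⟩ := QuotientGroup.mk_surjective q
      rw [glHom_single, map_smul, hgQ]
      change r • ψ (projT π T (g m).val) = _
      rw [hψ, hψ', smul_single, smul_eq_mul, _root_.mul_one]
  · intro y
    induction y using TensorProduct.induction_on with
    | zero => exact ⟨0, map_zero _⟩
    | add x y hx hy =>
      obtain ⟨a, rfl⟩ := hx
      obtain ⟨b, rfl⟩ := hy
      exact ⟨a + b, map_add _ _ _⟩
    | tmul t c =>
      obtain ⟨a, rfl⟩ := hπ.1 c
      rw [← projT_tmul]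
      obtain ⟨z, hz⟩ := hg.2 (t ⊗ₜ a)
      refine ⟨mapDomainBialgHom T (QuotientGroup.mk' (powSub M n)) z, ?_⟩
      rw [← hz]
      clear hz
      induction z using MonoidAlgebra.induction_linear with
      | zero => simp
      | add x y hx hy => simp only [map_add, hx, hy]
      | single m r =>
        rw [mapDomainBialgHom_single, glHom_single, glHom_single, map_smul]
        rfl

/-- A modulus separating the descent data of a frame. -/
theorem exists_modulus [Group.FG M] {R' : Type u} [CommRing R'] [Algebra R R']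
    {g : M →* GroupLike R' (R' ⊗[R] A)} (hg : IsFrame g) :
    ∃ n : ℕ, 0 < n ∧ ∀ (C : Type u) [CommRing C] [Bialgebra R C] (π : A →ₐc[R] C), IsKerPow π n →
      ∀ (K : Type u) [Field K] [Algebra R K] (f₁ f₂ : R' →ₐ[R] K),
        (∀ m, glProj π K (glMap A f₁ (g m)) = glProj π K (glMap A f₂ (g m))) →
        ∀ m, glMap A f₁ (g m) = glMap A f₂ (g m) := by
  classical
  obtain ⟨S, hS⟩ := Group.FG.out (G := M)
  let T0 := R' ⊗[R] R'
  let g1 := (glMap A (Algebra.TensorProduct.includeLeft : R' →ₐ[R] T0)).comp g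
  have hg1 : IsFrame g1 := hg.map _
  choose a ha using fun m => hg1.2 (glMap A (Algebra.TensorProduct.includeRight : R' →ₐ[R] T0) (g m)).val
  obtain ⟨n, hn, hsep⟩ := exists_separating (S.biUnion fun s => (a s).coeff.support.image fun d => d * s⁻¹)
  refine ⟨n, hn, fun C _ _ π hπ K _ _ f₁ f₂ hyp => ?_⟩
  suffices h : (glMap A f₁).comp g = (glMap A f₂).comp g from fun m => DFunLike.congr_fun h m
  refine MonoidHom.eq_of_eqOn_dense hS fun s hs => ?_
  let φ : T0 →ₐ[R] K := Algebra.TensorProduct.lift f₁ f₂ fun _ _ => Commute.all _ _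
  have hφ1 : φ.comp Algebra.TensorProduct.includeLeft = f₁ := AlgHom.ext fun x =>
    show φ (x ⊗ₜ (1 : R')) = f₁ x by rw [Algebra.TensorProduct.lift_tmul, map_one, _root_.mul_one]
  have hφ2 : φ.comp Algebra.TensorProduct.includeRight = f₂ := AlgHom.ext fun x =>
    show φ ((1 : R') ⊗ₜ x) = f₂ x by rw [Algebra.TensorProduct.lift_tmul, map_one, _root_.one_mul]
  have hK := hg.map (A := A) f₁
  obtain ⟨t, ht⟩ := hK.surjective (glMap A f₂ (g s))
  have ht' : mapRingHom M (φ : T0 →+* K) (a s) = single t 1 := by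
    apply ((hg1.map φ)).1
    rw [glHom_glMap, ha, glHom_single, one_smul, ← glMap_val, glMap_glMap, hφ2]
    simp only [g1, MonoidHom.comp_apply, glMap_glMap, hφ1]
    exact congrArg GroupLike.val ht.symm
  have htmem : t ∈ (a s).coeff.support := by
    rw [Finsupp.mem_support_iff]
    intro h0
    have := congrArg (fun z => z.coeff t) ht'
    simp [h0] at this
  obtain ⟨gQ, hgQ, hgQm⟩ := exists_frame_kernel π hπ hK
  have h1 : gQ (t : M ⧸ powSub M n) = gQ (s : M ⧸ powSub M n) := by
    rw [hgQm, hgQm, ht]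
    exact (hyp s).symm
  have h2 : t * s⁻¹ ∈ powSub M n := by
    have := (QuotientGroup.eq).mp (hgQ.injective h1).symm
    rwa [mul_comm] at this
  have h3 : t = s := mul_inv_eq_one.mp (hsep _ (Finset.mem_biUnion.mpr
    ⟨s, Finset.mem_coe.mp hs, Finset.mem_image.mpr ⟨t, htmem, rfl⟩⟩) h2)
  rw [h3] at ht
  exact ht

end Kernel

end GrothLib.MultLocal
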