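import Groth.Agent.Lib.MultLocal.HopfModel
import Groth.Agent.Lib.HopfAG.Model
import Groth.Agent.Lib.Hopf.BaseChange
import Mathlib.RingTheory.RingHom.FinitePresentation

/-!
Existence of models of finitely presented Hopf algebras over finitely generated rings.
-/

universe u

set_option linter.style.haveILetI false
set_option maxSynthPendingDepth 3

open TensorProduct Algebra.TensorProduct

namespace GrothLib.MultLocal.Model

theorem one_tmul_smul {A : Type u} [CommRing A] {R : Type u} [CommRing R] [Algebra A R] {M : Type u} [AddCommGroup M]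
    [Module A M] (a : A) (y : M) : (1 : R) ⊗ₜ[A] (a • y) = algebraMap A R a • ((1 : R) ⊗ₜ[A] y) := by
  rw [← smul_tmul, smul_tmul', Algebra.smul_def, smul_eq_mul]

theorem exists_pre (R : Type u) [CommRing R] (C : Type u) [CommRing C] [HopfAlgebra R C] [Algebra.FinitePresentation R C] :
    ∃ (K : Type u) (_ : CommRing K) (_ : Algebra K R) (_ : Algebra.FiniteType ℤ K) (C₁ : Type u) (_ : CommRing C₁)
      (_ : Algebra K C₁) (_ : Algebra.FinitePresentation K C₁) (e : R ⊗[K] C₁ ≃ₐ[R] C)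
      (Δ : C₁ →ₐ[K] C₁ ⊗[K] C₁) (ε : C₁ →ₐ[K] K) (S : C₁ →ₐ[K] C₁),
      (∀ x, Algebra.TensorProduct.map e.toAlgHom e.toAlgHom (pair R C₁ C₁ ((1 : R) ⊗ₜ Δ x)) =
        Coalgebra.comul (R := R) (e ((1 : R) ⊗ₜ x))) ∧
      (∀ x, algebraMap K R (ε x) = Coalgebra.counit (R := R) (e ((1 : R) ⊗ₜ x))) ∧
      (∀ x, e ((1 : R) ⊗ₜ S x) = HopfAlgebra.antipode R (e ((1 : R) ⊗ₜ x))) := by
  classical
  let P := Algebra.Presentation.ofFinitePresentation R C
  let K₀ := P.Core
  haveI : IsNoetherianRing K₀ := Algebra.FiniteType.isNoetherianRing ℤ K₀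
  let C₀ := P.ModelOfHasCoeffs K₀
  haveI : Algebra.FinitePresentation K₀ C₀ := by
    change Algebra.FinitePresentation K₀ (MvPolynomial _ K₀ ⧸ (Ideal.span (Set.range (P.relationOfHasCoeffs K₀))))
    exact Algebra.FinitePresentation.quotient (Submodule.fg_span (Set.finite_range _))
  let e₀ : R ⊗[K₀] C₀ ≃ₐ[R] C := P.tensorModelOfHasCoeffsEquiv K₀
  let Γ : R ⊗[K₀] (C₀ ⊗[K₀] C₀) ≃ₐ[R] C ⊗[R] C :=
    (AlgEquiv.ofBijective (pair (K := K₀) R C₀ C₀) (pair_bijective R C₀ C₀)).trans (Algebra.TensorProduct.congr e₀ e₀)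
  let i₀ : C₀ →ₐ[K₀] R ⊗[K₀] C₀ := Algebra.TensorProduct.includeRight
  let fΔ : C₀ →ₐ[K₀] R ⊗[K₀] (C₀ ⊗[K₀] C₀) :=
    ((Γ.symm.toAlgHom.comp ((Bialgebra.comulAlgHom R C).comp e₀.toAlgHom)).restrictScalars K₀).comp i₀
  let fS : C₀ →ₐ[K₀] R ⊗[K₀] C₀ :=
    ((e₀.symm.toAlgHom.comp ((HopfAlgebra.antipodeAlgHom R C).comp e₀.toAlgHom)).restrictScalars K₀).comp i₀
  let fε : C₀ →ₐ[K₀] R ⊗[K₀] K₀ :=
    (((Algebra.TensorProduct.rid K₀ R R).symm.toAlgHom.comp ((Bialgebra.counitAlgHom R C).comp e₀.toAlgHom)).restrictScalars K₀).comp i₀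
  obtain ⟨A₁, hA₁, dΔ, hΔ⟩ := exists_lift fΔ
  obtain ⟨A₂, hA₂, dS, hS⟩ := exists_lift fS
  obtain ⟨A₃, hA₃, dε, hε⟩ := exists_lift fε
  let A : Subalgebra K₀ R := A₁ ⊔ A₂ ⊔ A₃
  have hA : A.FG := (hA₁.sup hA₂).sup hA₃
  haveI : Algebra.FiniteType K₀ A := (Subalgebra.fg_iff_finiteType A).mp hA
  haveI : Algebra.FiniteType ℤ A := Algebra.FiniteType.trans (R := ℤ) (S := K₀) inferInstance inferInstance
  let C₁ := A ⊗[K₀] C₀
  let e : R ⊗[A] C₁ ≃ₐ[R] C := (Algebra.TensorProduct.cancelBaseChange K₀ A R R C₀).trans e₀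
  have he : ∀ (a : A) x, e ((1 : R) ⊗ₜ (a ⊗ₜ[K₀] x)) = (a : R) • e₀ ((1 : R) ⊗ₜ x) := fun a x => by
    change e₀ (Algebra.TensorProduct.cancelBaseChange K₀ A R R C₀ ((1 : R) ⊗ₜ[A] (a ⊗ₜ[K₀] x))) = _
    rw [Algebra.TensorProduct.cancelBaseChange_tmul, ← map_smul e₀, smul_tmul']
    congr 2
  let gΔ : C₀ →ₐ[K₀] C₁ ⊗[A] C₁ :=
    ((pair (K := K₀) A C₀ C₀).restrictScalars K₀).comp
      ((incl (Subalgebra.inclusion (le_sup_left.trans le_sup_left : A₁ ≤ A)) (C₀ ⊗[K₀] C₀)).comp dΔ)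
  let Δ : C₁ →ₐ[A] C₁ ⊗[A] C₁ := Algebra.TensorProduct.lift (Algebra.ofId A _) gΔ fun _ _ => Commute.all _ _
  let S : C₁ →ₐ[A] C₁ := Algebra.TensorProduct.lift (Algebra.ofId A _)
    ((incl (Subalgebra.inclusion (le_sup_right.trans le_sup_left : A₂ ≤ A)) C₀).comp dS) fun _ _ => Commute.all _ _
  let ε : C₁ →ₐ[A] A := Algebra.TensorProduct.lift (AlgHom.id A A)
    (((Algebra.TensorProduct.rid K₀ K₀ A).toAlgHom).comp
      ((incl (Subalgebra.inclusion (le_sup_right : A₃ ≤ A)) K₀).comp dε)) fun _ _ => Commute.all _ _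
  haveI : Algebra.FinitePresentation A C₁ := inferInstance
  refine ⟨A, inferInstance, inferInstance, inferInstance, C₁, inferInstance, inferInstance, inferInstance, e, Δ, ε, S,
    fun z => ?_, fun z => ?_, fun z => ?_⟩
  · induction z using TensorProduct.induction_on with
    | zero => simp
    | add x y hx hy => simp only [tmul_add, map_add, hx, hy]
    | tmul a x =>
      rw [show Δ (a ⊗ₜ[K₀] x) = a • gΔ x by
          rw [Algebra.TensorProduct.lift_tmul, Algebra.ofId_apply, ← Algebra.smul_def], one_tmul_smul,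
        map_smul, map_smul, he, map_smul]
      refine congrArg ((a : R) • ·) ?_
      have key : ∀ w : A ⊗[K₀] (C₀ ⊗[K₀] C₀),
          Algebra.TensorProduct.map e.toAlgHom e.toAlgHom (pair R C₁ C₁ ((1 : R) ⊗ₜ[A] pair A C₀ C₀ w)) =
            Γ (incl A.val (C₀ ⊗[K₀] C₀) w) := by
        intro w
        induction w using TensorProduct.induction_on with
        | zero => simp
        | add u v hu hv => simp only [tmul_add, map_add, hu, hv]
        | tmul b n =>
          induction n using TensorProduct.induction_on with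
          | zero => simp
          | add u v hu hv => simp only [tmul_add, map_add, hu, hv]
          | tmul p q =>
            rw [pair_tmul, one_tmul_smul, map_smul, map_smul, pair_one_tmul]
            rw [Algebra.TensorProduct.map_tmul]
            change _ = Algebra.TensorProduct.congr e₀ e₀ (pair R C₀ C₀ ((A.val b) ⊗ₜ[K₀] (p ⊗ₜ[K₀] q)))
            rw [pair_tmul, map_smul]
            simp [he]
      change Algebra.TensorProduct.map e.toAlgHom e.toAlgHom (pair R C₁ C₁ ((1 : R) ⊗ₜ[A]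
        pair A C₀ C₀ (incl (Subalgebra.inclusion (le_sup_left.trans le_sup_left : A₁ ≤ A)) (C₀ ⊗[K₀] C₀) (dΔ x)))) = _
      rw [key, incl_incl]
      refine (congrArg Γ (hΔ x)).trans (Γ.apply_symm_apply _)
  · induction z using TensorProduct.induction_on with
    | zero => simp
    | add x y hx hy => simp only [tmul_add, map_add, hx, hy]
    | tmul a x =>
      rw [he, map_smul, smul_eq_mul]
      change algebraMap A R (ε (a ⊗ₜ[K₀] x)) = _
      rw [Algebra.TensorProduct.lift_tmul, map_mul]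
      refine congrArg₂ (· * ·) rfl ?_
      have key : ∀ w : A₃ ⊗[K₀] K₀, ((Algebra.TensorProduct.rid K₀ K₀ A
          (incl (Subalgebra.inclusion (le_sup_right : A₃ ≤ A)) K₀ w)) : R) =
            Algebra.TensorProduct.rid K₀ R R (incl A₃.val K₀ w) := by
        intro w
        induction w using TensorProduct.induction_on with
        | zero => simp
        | add u v hu hv => simp only [map_add, Subalgebra.coe_add, hu, hv]
        | tmul b k => simp [incl]
      refine (key (dε x)).trans ?_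
      rw [hε]
      exact (Algebra.TensorProduct.rid K₀ R R).apply_symm_apply _
  · induction z using TensorProduct.induction_on with
    | zero => simp
    | add x y hx hy => simp only [tmul_add, map_add, hx, hy]
    | tmul a x =>
      rw [show S (a ⊗ₜ[K₀] x) = a • (incl (Subalgebra.inclusion (le_sup_right.trans le_sup_left : A₂ ≤ A)) C₀ (dS x))
        by rw [Algebra.TensorProduct.lift_tmul, Algebra.ofId_apply, ← Algebra.smul_def]; rfl, one_tmul_smul,
        map_smul, he, map_smul]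
      refine congrArg ((a : R) • ·) ?_
      have key : ∀ w : A ⊗[K₀] C₀, e ((1 : R) ⊗ₜ[A] w) = e₀ (incl A.val C₀ w) := by
        intro w
        induction w using TensorProduct.induction_on with
        | zero => simp
        | add u v hu hv => simp only [tmul_add, map_add, hu, hv]
        | tmul b c =>
          rw [he, ← map_smul e₀, smul_tmul', smul_eq_mul, _root_.mul_one]
          rfl
      rw [key, incl_incl]
      refine (congrArg e₀ (hS x)).trans ?_
      exact e₀.apply_symm_apply _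

/-- A finitely presented Hopf algebra is the base change of a finitely presented Hopf algebra over a
finitely generated ring. -/
theorem exists_hopfModel (R : Type u) [CommRing R] (C : Type u) [CommRing C] [HopfAlgebra R C]
    [Algebra.FinitePresentation R C] :
    ∃ (K : Type u) (_ : CommRing K) (_ : Algebra K R) (_ : Algebra.FiniteType ℤ K) (C₁ : Type u) (_ : CommRing C₁)
      (_ : HopfAlgebra K C₁), Algebra.FinitePresentation K C₁ ∧ Nonempty (R ⊗[K] C₁ ≃ₐc[R] C) := by
  classical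
  obtain ⟨K, _, _, _, C₁, _, _, _, e, Δ, ε, S, hΔ, hε, hS⟩ := exists_pre R C
  have hc : ∀ z, Algebra.TensorProduct.map e.toAlgHom e.toAlgHom (comulT Δ R z) = Coalgebra.comul (R := R) (e z) := by
    intro z
    refine AlgHom.congr_fun (algHom_ext_one R (f := (Algebra.TensorProduct.map e.toAlgHom e.toAlgHom).comp (comulT Δ R))
      (g := (Bialgebra.comulAlgHom R C).comp e.toAlgHom) fun x => ?_) z
    exact hΔ x
  have hu : ∀ z, counitT ε R z = Coalgebra.counit (R := R) (e z) := by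
    intro z
    refine AlgHom.congr_fun (algHom_ext_one R (f := counitT ε R)
      (g := (Bialgebra.counitAlgHom R C).comp e.toAlgHom) fun x => ?_) z
    rw [counitT_one_tmul]
    exact hε x
  have hs : ∀ z, e (antipodeT S R z) = HopfAlgebra.antipode R (e z) := by
    intro z
    refine AlgHom.congr_fun (algHom_ext_one R (f := e.toAlgHom.comp (antipodeT S R))
      (g := (HopfAlgebra.antipodeAlgHom R C).comp e.toAlgHom) fun x => ?_) z
    exact hS x
  letI : HopfAlgebra R (R ⊗[K] C₁) := GrothLib.HopfAG.hopfAlgebra e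
  have hcomul : ∀ z : R ⊗[K] C₁, comulT Δ R z = Bialgebra.comulAlgHom R (R ⊗[K] C₁) z := by
    intro z
    apply (Algebra.TensorProduct.congr e e).injective
    exact (hc z).trans (GrothLib.HopfAG.map_comul' e z).symm
  have hcounit : counitT ε R = Bialgebra.counitAlgHom R (R ⊗[K] C₁) := AlgHom.ext fun z => hu z
  have hanti : antipodeT S R = HopfAlgebra.antipodeAlgHom R (R ⊗[K] C₁) := AlgHom.ext fun z => e.injective (by
    rw [hs]
    exact (e.apply_symm_apply _).symm)
  have hcomul' : comulT Δ R = Bialgebra.comulAlgHom R (R ⊗[K] C₁) := AlgHom.ext hcomul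
  have h1 : ∀ x, (1 : R) ⊗ₜ[K] coassL Δ x = (1 : R) ⊗ₜ[K] coassR Δ x := fun x => triple_injective R (by
    rw [← coassL_eq, ← coassR_eq, hcomul']
    exact Coalgebra.coassoc_apply _)
  have h2 : ∀ x, (1 : R) ⊗ₜ[K] counitL Δ ε x = (1 : R) ⊗ₜ[K] x := fun x => by
    rw [← counitL_eq, hcomul', hcounit]
    refine Eq.trans ?_ ((congrArg (TensorProduct.lid R (R ⊗[K] C₁))
      (Coalgebra.rTensor_counit_comul (R := R) ((1 : R) ⊗ₜ[K] x))).trans ?_)
    · change _ = TensorProduct.lid R (R ⊗[K] C₁) (LinearMap.rTensor (R ⊗[K] C₁) Coalgebra.counit (Coalgebra.comul _))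
      change Algebra.TensorProduct.lift _ _ _ (Coalgebra.comul (R := R) ((1 : R) ⊗ₜ[K] x)) = _
      induction Coalgebra.comul (R := R) ((1 : R) ⊗ₜ[K] x) using TensorProduct.induction_on with
      | zero => simp
      | add u v hu hv => simp only [map_add, hu, hv]
      | tmul a b => simp [Algebra.smul_def]
    · simp
  have h3 : ∀ x, (1 : R) ⊗ₜ[K] counitR Δ ε x = (1 : R) ⊗ₜ[K] x := fun x => by
    rw [← counitR_eq, hcomul', hcounit]
    refine Eq.trans ?_ ((congrArg (TensorProduct.rid R (R ⊗[K] C₁))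
      (Coalgebra.lTensor_counit_comul (R := R) ((1 : R) ⊗ₜ[K] x))).trans ?_)
    · change _ = TensorProduct.rid R (R ⊗[K] C₁) (LinearMap.lTensor (R ⊗[K] C₁) Coalgebra.counit (Coalgebra.comul _))
      change Algebra.TensorProduct.lift _ _ _ (Coalgebra.comul (R := R) ((1 : R) ⊗ₜ[K] x)) = _
      induction Coalgebra.comul (R := R) ((1 : R) ⊗ₜ[K] x) using TensorProduct.induction_on with
      | zero => simp
      | add u v hu hv => simp only [map_add, hu, hv]
      | tmul a b => simp [Algebra.smul_def, mul_comm]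
    · simp
  have hu1 : ∀ x, algebraMap R (R ⊗[K] C₁) (Coalgebra.counit (R := R) ((1 : R) ⊗ₜ[K] x)) =
      (1 : R) ⊗ₜ[K] algebraMap K C₁ (ε x) := fun x => by
    rw [show Coalgebra.counit (R := R) ((1 : R) ⊗ₜ[K] x) = counitT ε R ((1 : R) ⊗ₜ[K] x) by rw [hcounit]; rfl,
      counitT_one_tmul, ← IsScalarTower.algebraMap_apply, Algebra.algebraMap_eq_smul_one,
      Algebra.algebraMap_eq_smul_one, tmul_smul, ← Algebra.TensorProduct.one_def]
  have h4 : ∀ x, (1 : R) ⊗ₜ[K] antipL Δ S x = (1 : R) ⊗ₜ[K] algebraMap K C₁ (ε x) := fun x => by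
    rw [← antipL_eq, hcomul', hanti, ← hu1, ← HopfAlgebra.mul_antipode_rTensor_comul_apply (R := R)]
    change Algebra.TensorProduct.lift _ _ _ (Coalgebra.comul (R := R) ((1 : R) ⊗ₜ[K] x)) = _
    induction Coalgebra.comul (R := R) ((1 : R) ⊗ₜ[K] x) using TensorProduct.induction_on with
    | zero => simp
    | add u v hu hv => simp only [map_add, hu, hv]
    | tmul a b => simp
  have h5 : ∀ x, (1 : R) ⊗ₜ[K] antipR Δ S x = (1 : R) ⊗ₜ[K] algebraMap K C₁ (ε x) := fun x => by
    rw [← antipR_eq, hcomul', hanti, ← hu1, ← HopfAlgebra.mul_antipode_lTensor_comul_apply (R := R)]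
    change Algebra.TensorProduct.lift _ _ _ (Coalgebra.comul (R := R) ((1 : R) ⊗ₜ[K] x)) = _
    induction Coalgebra.comul (R := R) ((1 : R) ⊗ₜ[K] x) using TensorProduct.induction_on with
    | zero => simp
    | add u v hu hv => simp only [map_add, hu, hv]
    | tmul a b => simp
  obtain ⟨B₁, hB₁, e1⟩ := exists_eq (R := R) (coassL Δ) (coassR Δ) h1
  obtain ⟨B₂, hB₂, e2⟩ := exists_eq (R := R) (counitL Δ ε) (AlgHom.id K C₁) h2
  obtain ⟨B₃, hB₃, e3⟩ := exists_eq (R := R) (counitR Δ ε) (AlgHom.id K C₁) h3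
  obtain ⟨B₄, hB₄, e4⟩ := exists_eq (R := R) (antipL Δ S) ((Algebra.ofId K C₁).comp ε) h4
  obtain ⟨B₅, hB₅, e5⟩ := exists_eq (R := R) (antipR Δ S) ((Algebra.ofId K C₁).comp ε) h5
  let B := B₁ ⊔ B₂ ⊔ B₃ ⊔ B₄ ⊔ B₅
  have hB : B.FG := (((hB₁.sup hB₂).sup hB₃).sup hB₄).sup hB₅
  haveI : Algebra.FiniteType K B := (Subalgebra.fg_iff_finiteType B).mp hB
  haveI : Algebra.FiniteType ℤ B := Algebra.FiniteType.trans (R := ℤ) (S := K) inferInstance inferInstance
  have l4 : B₄ ≤ B := le_sup_left.trans' le_sup_right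
  have l3 : B₃ ≤ B := (le_sup_left.trans' le_sup_left).trans' le_sup_right
  have l2 : B₂ ≤ B := ((le_sup_left.trans' le_sup_left).trans' le_sup_left).trans' le_sup_right
  have l1 : B₁ ≤ B := ((le_sup_left.trans' le_sup_left).trans' le_sup_left).trans' le_sup_left
  letI : HopfAlgebra B (B ⊗[K] C₁) := hopfT (T := B) (Δ := Δ) (ε := ε) (S := S)
    (fun x => one_tmul_mono l1 (e1 x)) (fun x => one_tmul_mono l2 (e2 x)) (fun x => one_tmul_mono l3 (e3 x))
    (fun x => one_tmul_mono l4 (e4 x)) (fun x => one_tmul_mono le_sup_right (e5 x))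
  haveI : Algebra.FinitePresentation B (B ⊗[K] C₁) := inferInstance
  refine ⟨B, inferInstance, inferInstance, inferInstance, B ⊗[K] C₁, inferInstance, inferInstance, inferInstance, ⟨?_⟩⟩
  let ae : R ⊗[B] (B ⊗[K] C₁) ≃ₐ[R] C := (Algebra.TensorProduct.cancelBaseChange K B R R C₁).trans e
  have hae : ∀ x, ae ((1 : R) ⊗ₜ[B] ((1 : B) ⊗ₜ[K] x)) = e ((1 : R) ⊗ₜ[K] x) := fun x => by
    change e (Algebra.TensorProduct.cancelBaseChange K B R R C₁ _) = _
    rw [Algebra.TensorProduct.cancelBaseChange_tmul, one_smul]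
  have ext2 : ∀ {X : Type u} [CommRing X] [Algebra R X] {f g : R ⊗[B] (B ⊗[K] C₁) →ₐ[R] X},
      (∀ x, f ((1 : R) ⊗ₜ[B] ((1 : B) ⊗ₜ[K] x)) = g ((1 : R) ⊗ₜ[B] ((1 : B) ⊗ₜ[K] x))) → f = g := by
    intro X _ _ f g h
    refine algHom_ext_one R fun z => ?_
    induction z using TensorProduct.induction_on with
    | zero => simp
    | add x y hx hy => simp only [tmul_add, map_add, hx, hy]
    | tmul b x =>
      rw [show b ⊗ₜ[K] x = b • ((1 : B) ⊗ₜ[K] x) by rw [smul_tmul', smul_eq_mul, _root_.mul_one], one_tmul_smul,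
        map_smul, map_smul, h]
  refine BialgEquiv.ofAlgEquiv ae (ext2 fun x => ?_) (ext2 fun x => ?_)
  · change Coalgebra.counit (R := R) (ae ((1 : R) ⊗ₜ[B] ((1 : B) ⊗ₜ[K] x))) = _
    rw [hae, ← hu, counitT_one_tmul]
    refine Eq.trans ?_ (TensorProduct.counit_tmul (R := B) (S := R) (1 : R) ((1 : B) ⊗ₜ[K] x)).symm
    rw [CommSemiring.counit_apply]
    change _ = counitT ε B ((1 : B) ⊗ₜ[K] x) • (1 : R)
    rw [counitT_one_tmul, algebraMap_smul, Algebra.algebraMap_eq_smul_one]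
  · change Algebra.TensorProduct.map ae.toAlgHom ae.toAlgHom
      (Coalgebra.comul (R := R) ((1 : R) ⊗ₜ[B] ((1 : B) ⊗ₜ[K] x))) =
      Coalgebra.comul (R := R) (ae ((1 : R) ⊗ₜ[B] ((1 : B) ⊗ₜ[K] x)))
    rw [hae, ← hc, comulT_one_tmul, TensorProduct.comul_tmul]
    change Algebra.TensorProduct.map ae.toAlgHom ae.toAlgHom (TensorProduct.AlgebraTensorModule.tensorTensorTensorComm B R B R R R
      (B ⊗[K] C₁) (B ⊗[K] C₁) (((1 : R) ⊗ₜ[R] (1 : R)) ⊗ₜ[B] comulT Δ B ((1 : B) ⊗ₜ[K] x))) = _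
    rw [comulT_one_tmul]
    generalize Δ x = z
    induction z using TensorProduct.induction_on with
    | zero => simp
    | add u v hu hv => simp only [tmul_add, map_add, hu, hv]
    | tmul p q =>
      rw [pair_one_tmul, pair_one_tmul]
      change ae ((1 : R) ⊗ₜ[B] ((1 : B) ⊗ₜ[K] p)) ⊗ₜ[R] ae ((1 : R) ⊗ₜ[B] ((1 : B) ⊗ₜ[K] q)) =
        e ((1 : R) ⊗ₜ[K] p) ⊗ₜ[R] e ((1 : R) ⊗ₜ[K] q)
      rw [hae, hae]

end GrothLib.MultLocal.Model
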