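import Groth.Agent.Lib.MultLocal.DescIdem
import Groth.Agent.Lib.Hensel.Basic
import Groth.Agent.Lib.DescElem.Basic

/-!
Descent of the idempotent of a formal subgroup.
-/

universe u

set_option linter.style.haveILetI false
set_option maxSynthPendingDepth 3

open TensorProduct MonoidAlgebra

namespace GrothLib.MultLocal

variable {A : Type u} [CommRing A] {C : Type u} [CommRing C] [Bialgebra A C] {B : Type u} [CommRing B] [Algebra A B]
  {M : Type u} [CommGroup M]

theorem coefMap_mul_coefMap {I : Ideal A} (f : B ⊗[A] C →ₐc[B] MonoidAlgebra B M) (hf : Function.Surjective f)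
    {e : B ⊗[A] C} (he : IsIdempotentElem e) (hker : ∀ k, f k = 0 → e * k = k)
    (hmem : e ∈ I.map (algebraMap A (B ⊗[A] C))) {B' : Type u} [CommRing B'] [Algebra A B']
    (hIB : I.map (algebraMap A B') ≤ (⊥ : Ideal B').jacobson) (i j : B →ₐ[A] B') :
    coefMap C i e * coefMap C j e = coefMap C j e := by
  obtain ⟨σ, hσ⟩ := Module.projective_lifting_property (f : B ⊗[A] C →ₐ[B] MonoidAlgebra B M).toLinearMap LinearMap.id hf
  letI : Algebra B B' := i.toRingHom.toAlgebra
  haveI : IsScalarTower A B B' := IsScalarTower.of_algebraMap_eq fun r => (i.commutes r).symm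
  let c := Algebra.TensorProduct.cancelBaseChange A B B' B' C
  have hc : ∀ s, c ((1 : B') ⊗ₜ[B] s) = coefMap C i s := fun s => by
    induction s using TensorProduct.induction_on with
    | zero => simp
    | add u v hu hv => simp only [tmul_add, map_add, hu, hv]
    | tmul t a =>
      rw [Algebra.TensorProduct.cancelBaseChange_tmul, coefMap_tmul, Algebra.smul_def, _root_.mul_one]
      rfl
  let F : B' ⊗[B] (B ⊗[A] C) →ₐ[B'] MonoidAlgebra B' M :=
    (MonoidAlgebra.scalarTensorEquiv (M := M) B B').toAlgHom.comp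
      (Algebra.TensorProduct.map (AlgHom.id B' B') (f : B ⊗[A] C →ₐ[B] MonoidAlgebra B M))
  let x := c.symm (coefMap C j e)
  have hx : IsIdempotentElem x := (he.map (coefMap C j)).map c.symm
  have hxI : x ∈ I.map (algebraMap A (B' ⊗[B] (B ⊗[A] C))) := by
    have h1 := Ideal.mem_map_of_mem ((c.symm.toAlgHom.restrictScalars A).comp (coefMap C j)).toRingHom hmem
    rwa [Ideal.map_map, AlgHom.toRingHom_eq_coe, AlgHom.comp_algebraMap] at h1
  have hFx : F x = 0 := by
    refine eq_zero_of_idem_mem hIB (hx.map F) fun m => ?_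
    have h2 := Ideal.mem_map_of_mem (F.restrictScalars A).toRingHom hxI
    rw [Ideal.map_map, AlgHom.toRingHom_eq_coe, AlgHom.comp_algebraMap,
      IsScalarTower.algebraMap_eq A B' (MonoidAlgebra B' M), ← Ideal.map_map] at h2
    have h2' : F x ∈ I.map (algebraMap A B') • (⊤ : Submodule B' (MonoidAlgebra B' M)) := by
      rw [Ideal.smul_top_eq_map]; exact h2
    refine Submodule.smul_induction_on (p := fun z => z.coeff m ∈ I.map (algebraMap A B')) h2'
      (fun r hr z _ => ?_) fun y z hy hz => ?_
    · rw [coeff_smul, Finsupp.smul_apply, smul_eq_mul]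
      exact Ideal.mul_mem_right _ _ hr
    · rw [coeff_add, Finsupp.add_apply]; exact add_mem hy hz
  have hw : ((f : B ⊗[A] C →ₐ[B] MonoidAlgebra B M).toLinearMap.lTensor B') x = 0 := by
    have h3 : F x = MonoidAlgebra.scalarTensorEquiv (M := M) B B' (((f : B ⊗[A] C →ₐ[B] MonoidAlgebra B M).toLinearMap.lTensor B') x) := by
      generalize x = y
      induction y using TensorProduct.induction_on with
      | zero => simp
      | add u v hu hv => simp only [map_add, hu, hv]
      | tmul t s => rfl
    rw [hFx] at h3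
    exact (MonoidAlgebra.scalarTensorEquiv (M := M) B B').injective (h3.symm.trans (map_zero _).symm)
  have h4 : ((1 : B') ⊗ₜ[B] e) * x = x := by
    have h5 : x = ((LinearMap.id - σ.comp (f : B ⊗[A] C →ₐ[B] MonoidAlgebra B M).toLinearMap).lTensor B') x := by
      rw [LinearMap.lTensor_sub, LinearMap.sub_apply, LinearMap.lTensor_comp, LinearMap.comp_apply, hw, map_zero,
        sub_zero, LinearMap.lTensor_id, LinearMap.id_apply]
    rw [h5]
    generalize x = y
    induction y using TensorProduct.induction_on with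
    | zero => simp
    | add u v hu hv => simp only [map_add, mul_add, hu, hv]
    | tmul t s =>
      rw [LinearMap.lTensor_tmul, Algebra.TensorProduct.tmul_mul_tmul, _root_.one_mul, hker]
      change f (s - σ (f s)) = 0
      rw [map_sub]
      exact sub_eq_zero.mpr (LinearMap.congr_fun hσ (f s)).symm
  have h6 := congrArg c h4
  rwa [map_mul, hc, AlgEquiv.apply_symm_apply] at h6

/-- The idempotent of a formal subgroup descends along finite faithfully flat algebras. -/
theorem exists_descended_idem [Module.Finite A B] [Module.FaithfullyFlat A B] {I : Ideal A}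
    (hI : I ≤ (⊥ : Ideal A).jacobson) (f : B ⊗[A] C →ₐc[B] MonoidAlgebra B M) (hf : Function.Surjective f)
    {e : B ⊗[A] C} (he : IsIdempotentElem e) (hfe : f e = 0) (hker : ∀ k, f k = 0 → e * k = k)
    (hmem : e ∈ I.map (algebraMap A (B ⊗[A] C))) :
    ∃ e₀ : C, IsIdempotentElem e₀ ∧ e₀ ∈ I.map (algebraMap A C) ∧ (1 : B) ⊗ₜ[A] e₀ = e := by
  classical
  let B' := B ⊗[A] B
  have hIB : I.map (algebraMap A B') ≤ (⊥ : Ideal B').jacobson := GrothLib.Hensel.map_le_jacobson_of_isIntegral hI
  have hkey : ∀ (i j : B →ₐ[A] B'), coefMap C i e * coefMap C j e = coefMap C j e :=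
    coefMap_mul_coefMap f hf he hker hmem hIB
  let i₁ : B →ₐ[A] B' := Algebra.TensorProduct.includeLeft
  let i₂ : B →ₐ[A] B' := Algebra.TensorProduct.includeRight
  have heq : coefMap C i₁ e = coefMap C i₂ e := (hkey i₂ i₁).symm.trans ((mul_comm _ _).trans (hkey i₁ i₂))
  obtain ⟨e₀, he₀⟩ : ∃ e₀, (1 : B) ⊗ₜ[A] e₀ = e := by
    refine LinearMap.mem_range.mp (GrothLib.DescElem.mem_range_of_one_tmul B (TensorProduct.mk A B C 1) e ⟨e, ?_⟩)
    have h1 : ∀ y : B ⊗[A] C, (TensorProduct.mk A B C 1).lTensor B y = TensorProduct.assoc A B B C (coefMap C i₁ y) :=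
      fun y => by
        induction y using TensorProduct.induction_on with
        | zero => simp
        | tmul t a => rfl
        | add u v hu hv => simp only [map_add, hu, hv]
    have h2 : ∀ y : B ⊗[A] C, (1 : B) ⊗ₜ[A] y = TensorProduct.assoc A B B C (coefMap C i₂ y) := fun y => by
      induction y using TensorProduct.induction_on with
      | zero => simp
      | tmul t a => rfl
      | add u v hu hv => simp only [tmul_add, map_add, hu, hv]
    rw [h1, h2, heq]
  have inj : Function.Injective fun z : C => (1 : B) ⊗ₜ[A] z :=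
    Module.FaithfullyFlat.tensorProduct_mk_injective (A := A) (B := B) C
  refine ⟨e₀, inj ?_, ?_, he₀⟩
  · change (1 : B) ⊗ₜ[A] (e₀ * e₀) = (1 : B) ⊗ₜ[A] e₀
    have h := he.eq
    rwa [← he₀, Algebra.TensorProduct.tmul_mul_tmul, _root_.one_mul] at h
  · let C₀ := C ⧸ I.map (algebraMap A C)
    let π : B ⊗[A] C →ₐ[A] B ⊗[A] C₀ := Algebra.TensorProduct.map (AlgHom.id A B) (Ideal.Quotient.mkₐ A _)
    have h := Ideal.mem_map_of_mem π.toRingHom hmem
    rw [Ideal.map_map, AlgHom.toRingHom_eq_coe, AlgHom.comp_algebraMap] at h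
    have h0 : I.map (algebraMap A (B ⊗[A] C₀)) = ⊥ := by
      rw [eq_bot_iff, Ideal.map_le_iff_le_comap]
      intro r hr
      rw [Ideal.mem_comap, Submodule.mem_bot, Algebra.algebraMap_eq_smul_one, Algebra.TensorProduct.one_def,
        ← tmul_smul, ← Algebra.algebraMap_eq_smul_one, IsScalarTower.algebraMap_apply A C C₀,
        Ideal.Quotient.algebraMap_eq, Ideal.Quotient.eq_zero_iff_mem.mpr (Ideal.mem_map_of_mem _ hr), tmul_zero]
    rw [h0, Submodule.mem_bot] at h
    refine Ideal.Quotient.eq_zero_iff_mem.mp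
      (Module.FaithfullyFlat.tensorProduct_mk_injective (A := A) (B := B) C₀ ?_)
    rw [← he₀] at h
    change π ((1 : B) ⊗ₜ e₀) = 0 at h
    rw [Algebra.TensorProduct.map_tmul, map_one] at h
    exact h.trans (tmul_zero _ _).symm

end GrothLib.MultLocal
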