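import Groth.Agent.Lib.Hensel.FiniteEtaleLift
import Mathlib.RingTheory.Flat.FaithfullyFlat.Algebra
import Mathlib.RingTheory.Smooth.Flat

/-!
Lifting finite etale faithfully flat algebras over henselian pairs.
-/

universe u

set_option linter.style.haveILetI false

open TensorProduct

namespace GrothLib.MultLocal

variable {R : Type u} [CommRing R] (I : Ideal R) [HenselianRing R I]

/-- Finite etale faithfully flat algebras lift over henselian pairs. -/
theorem exists_finite_etale_ff_lift (E₀ : Type u) [CommRing E₀] [Algebra (R ⧸ I) E₀] [Algebra R E₀]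
    [IsScalarTower R (R ⧸ I) E₀] [Module.Finite (R ⧸ I) E₀] [Algebra.Etale (R ⧸ I) E₀]
    [Module.FaithfullyFlat (R ⧸ I) E₀] :
    ∃ (B : Type u) (_ : CommRing B) (_ : Algebra R B) (π : B →ₐ[R] E₀), Module.Finite R B ∧ Algebra.Etale R B ∧
      Module.FaithfullyFlat R B ∧ Function.Surjective π ∧ RingHom.ker π = I.map (algebraMap R B) := by
  obtain ⟨B, _, _, hBfin, hBet, ⟨ψ⟩⟩ := GrothLib.Hensel.exists_finite_etale_lift I E₀
  let π : B →ₐ[R] E₀ := (ψ.toAlgHom.restrictScalars R).comp Algebra.TensorProduct.includeRight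
  obtain ⟨hπ, hker⟩ := GrothLib.Hensel.ker_eq_of_tensor_equiv I π ψ fun _ => rfl
  refine ⟨B, inferInstance, inferInstance, π, hBfin, hBet, ⟨fun m hm htop => ?_⟩, hπ, hker⟩
  have hIm : I ≤ m := (HenselianRing.jac (R := R) (I := I)).trans
    (le_trans (le_of_eq rfl) (Ideal.jacobson_bot (R := R) ▸ Ring.jacobson_le_of_isMaximal m))
  have hmax : (m.map (Ideal.Quotient.mk I)).IsMaximal :=
    (Ideal.map_eq_top_or_isMaximal_of_surjective _ Ideal.Quotient.mk_surjective hm).resolve_left fun h => by
      have h1 := congrArg (Ideal.comap (Ideal.Quotient.mk I)) h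
      rw [Ideal.comap_map_of_surjective' _ Ideal.Quotient.mk_surjective, Ideal.mk_ker, sup_eq_left.mpr hIm,
        Ideal.comap_top] at h1
      exact hm.ne_top h1
  refine Module.FaithfullyFlat.submodule_ne_top (M := E₀) hmax (eq_top_iff.mpr fun y _ => ?_)
  obtain ⟨b, rfl⟩ := hπ y
  have hb : b ∈ m • (⊤ : Submodule R B) := by rw [htop]; trivial
  refine Submodule.smul_induction_on (p := fun z => π z ∈ m.map (Ideal.Quotient.mk I) • (⊤ : Submodule (R ⧸ I) E₀)) hb
    (fun r hr x _ => ?_) (fun x y hx hy => ?_)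
  · rw [map_smul, ← algebraMap_smul (R ⧸ I) r (π x), Ideal.Quotient.algebraMap_eq]
    exact Submodule.smul_mem_smul (Ideal.mem_map_of_mem _ hr) Submodule.mem_top
  · rw [map_add]
    exact add_mem hx hy

end GrothLib.MultLocal
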