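import Groth.Agent.Lib.MultLocal.Frame
import Groth.Agent.Lib.MultLocal.Descent
import Groth.Agent.Lib.NilFree.Basic
import Mathlib.RingTheory.Coalgebra.Convolution
import Mathlib.RingTheory.Idempotents

/-!
Rigidity of diagonalisable groups: lifting characters in flat deformations over nilpotent ideals.
-/

universe u

set_option linter.style.haveILetI false
set_option maxSynthPendingDepth 3

open TensorProduct MonoidAlgebra WithConv

namespace GrothLib.MultLocal

variable {R : Type u} [CommRing R]

theorem eq_top_of_sup_smul_top {N : Type u} [AddCommGroup N] [Module R N] {J : Ideal R} (hJ : IsNilpotent J)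
    {W : Submodule R N} (h : ⊤ ≤ W ⊔ J • (⊤ : Submodule R N)) : W = ⊤ := by
  obtain ⟨n, hn⟩ := hJ
  have hstep : ∀ j : ℕ, (⊤ : Submodule R N) ≤ W ⊔ J ^ j • (⊤ : Submodule R N) := by
    intro j
    induction j with
    | zero => rw [pow_zero, Ideal.one_eq_top, Submodule.top_smul]; exact le_sup_right
    | succ j ih =>
      refine ih.trans (sup_le le_sup_left ?_)
      refine (Submodule.smul_mono le_rfl h).trans ?_
      rw [Submodule.smul_sup, pow_succ, Submodule.mul_smul]
      exact sup_le_sup Submodule.smul_le_right le_rfl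
  have := hstep n
  rw [hn, Ideal.zero_eq_bot, Submodule.bot_smul, sup_bot_eq] at this
  exact top_le_iff.mp this

/-- Composition with a linear map out of the coalgebra. -/
theorem isNilpotent_of_forall_mem {A : Type u} [AddCommGroup A] [Module R A] [Coalgebra R A] {J : Ideal R}
    (hJ : IsNilpotent J) (f : WithConv (A →ₗ[R] R)) (hf : ∀ a, f a ∈ J) : IsNilpotent f := by
  obtain ⟨n, hn⟩ := hJ
  refine ⟨n + 1, ?_⟩
  have h : ∀ (k : ℕ) (a : A), (f ^ (k + 1)) a ∈ J ^ (k + 1) := by
    intro k
    induction k with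
    | zero => intro a; rw [zero_add, pow_one, pow_one]; exact hf a
    | succ k ih =>
      intro a
      rw [pow_succ f (k + 1), pow_succ J (k + 1), LinearMap.convMul_apply]
      generalize Coalgebra.comul (R := R) a = z
      induction z using TensorProduct.induction_on with
      | zero => simp
      | add x y hx hy => simp only [map_add]; exact add_mem hx hy
      | tmul x y =>
        rw [TensorProduct.map_tmul, LinearMap.mul'_apply]
        exact Ideal.mul_mem_mul (ih x) (hf y)
  refine WithConv.ofConv_injective (LinearMap.ext fun a => ?_)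
  have := h n a
  rw [pow_succ J, hn] at this
  simpa using this

section Lift

variable {A : Type u} [CommRing A] [Bialgebra R A] {J : Ideal R} {M : Type u} [CommGroup M]
  {g₀ : M →* GroupLike (R ⧸ J) ((R ⧸ J) ⊗[R] A)}

/-- The coefficient at `m` of a reduction. -/
noncomputable def redCoef (hg₀ : IsFrame g₀) (m : M) : A →ₗ[R] R ⧸ J :=
  (((Finsupp.lapply m).comp ((MonoidAlgebra.coeffLinearEquiv (R ⧸ J)).toLinearMap.comp
    ((hg₀.equiv.symm : (R ⧸ J) ⊗[R] A →ₐc[R ⧸ J] MonoidAlgebra (R ⧸ J) M) :
      (R ⧸ J) ⊗[R] A →ₗc[R ⧸ J] MonoidAlgebra (R ⧸ J) M).toLinearMap)).restrictScalars R).comp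
    (TensorProduct.mk R (R ⧸ J) A 1)

theorem redCoef_apply (hg₀ : IsFrame g₀) (m : M) (a : A) :
    redCoef hg₀ m a = (hg₀.equiv.symm ((1 : R ⧸ J) ⊗ₜ a)).coeff m := rfl

theorem redCoef_mul (hg₀ : IsFrame g₀) (m : M) :
    toConv (redCoef hg₀ m) * toConv (redCoef hg₀ m) = toConv (redCoef hg₀ m) := by
  refine WithConv.ofConv_injective (LinearMap.ext fun a => ?_)
  change LinearMap.mul' R (R ⧸ J) (TensorProduct.map (redCoef hg₀ m) (redCoef hg₀ m) (Coalgebra.comul a)) =
    redCoef hg₀ m a
  let c : (R ⧸ J) ⊗[R] A →ₗ[R ⧸ J] R ⧸ J :=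
    (Finsupp.lapply m).comp ((MonoidAlgebra.coeffLinearEquiv (R ⧸ J)).toLinearMap.comp
      ((hg₀.equiv.symm : (R ⧸ J) ⊗[R] A →ₐc[R ⧸ J] MonoidAlgebra (R ⧸ J) M) :
        (R ⧸ J) ⊗[R] A →ₗc[R ⧸ J] MonoidAlgebra (R ⧸ J) M).toLinearMap)
  have h1 : ∀ z : A ⊗[R] A, LinearMap.mul' R (R ⧸ J) (TensorProduct.map (redCoef hg₀ m) (redCoef hg₀ m) z) =
      LinearMap.mul' (R ⧸ J) (R ⧸ J) (TensorProduct.map c c (sqMap R A (R ⧸ J) z)) := by
    intro z
    induction z using TensorProduct.induction_on with
    | zero => simp [sqMap]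
    | add x y hx hy => simp only [sqMap, tmul_add, map_add] at hx hy ⊢; rw [hx, hy]
    | tmul x y => rw [sqMap_tmul]; rfl
  have h2 : ∀ w : MonoidAlgebra (R ⧸ J) M,
      LinearMap.mul' (R ⧸ J) (R ⧸ J) (TensorProduct.map c c (Coalgebra.comul (glHom g₀ w))) = w.coeff m := by
    intro w
    induction w using MonoidAlgebra.induction_linear with
    | zero => simp
    | add x y hx hy => simp only [map_add, coeff_add, Finsupp.add_apply, hx, hy]
    | single n r =>
      classical
      have hc : c (g₀ n).val = if n = m then 1 else 0 := by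
        have h3 : hg₀.equiv.symm (g₀ n).val = single n 1 := by
          apply hg₀.equiv.toEquiv.injective
          change hg₀.equiv _ = hg₀.equiv _
          rw [BialgEquiv.apply_symm_apply, IsFrame.equiv_apply, glHom_single, one_smul]
        change (hg₀.equiv.symm (g₀ n).val).coeff m = _
        rw [h3, MonoidAlgebra.coeff_single, Finsupp.single_apply]
      rw [glHom_single, map_smul, map_smul, map_smul, (g₀ n).isGroupLikeElem_val.comul_eq_tmul_self,
        TensorProduct.map_tmul, LinearMap.mul'_apply, hc, MonoidAlgebra.coeff_single, Finsupp.single_apply]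
      split_ifs <;> simp
  rw [h1, ← comul_one_tmul, show (1 : R ⧸ J) ⊗ₜ[R] a = glHom g₀ (hg₀.equiv.symm ((1 : R ⧸ J) ⊗ₜ[R] a)) from
    ((hg₀.equiv_apply _).symm.trans (hg₀.equiv.apply_symm_apply _)).symm, h2]
  rfl

variable [Module.Flat R A]

/-- Reduction of functionals. -/
noncomputable def redConv (R : Type u) [CommRing R] (J : Ideal R) (A : Type u) [AddCommGroup A] [Module R A]
    [Coalgebra R A] : WithConv (A →ₗ[R] R) →+* WithConv (A →ₗ[R] R ⧸ J) where
  toFun f := toConv ((Algebra.linearMap R (R ⧸ J)).comp f.ofConv)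
  map_one' := WithConv.ofConv_injective (LinearMap.ext fun a => by simp)
  map_mul' f g := WithConv.ofConv_injective
    (LinearMap.algHom_comp_convMul_distrib (Algebra.ofId R (R ⧸ J)) f g)
  map_zero' := WithConv.ofConv_injective (LinearMap.comp_zero _)
  map_add' f g := WithConv.ofConv_injective (LinearMap.comp_add _ _ _)

theorem exists_basis_lift (hJ : IsNilpotent J) (hg₀ : IsFrame g₀) (v : M → A)
    (hv : ∀ m, (1 : R ⧸ J) ⊗ₜ v m = (g₀ m).val) : ∃ b : Module.Basis M R A, ⇑b = v := by
  classical
  have hspan : Submodule.span R (Set.range v) = ⊤ := by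
    refine eq_top_of_sup_smul_top hJ fun a _ => ?_
    have key : ∀ w : MonoidAlgebra (R ⧸ J) M, ∃ x ∈ Submodule.span R (Set.range v),
        (1 : R ⧸ J) ⊗ₜ x = glHom g₀ w := by
      intro w
      induction w using MonoidAlgebra.induction_linear with
      | zero => exact ⟨0, zero_mem _, by simp⟩
      | add p q hp hq =>
        obtain ⟨x, hx, hxp⟩ := hp
        obtain ⟨y, hy, hyq⟩ := hq
        exact ⟨x + y, add_mem hx hy, by rw [tmul_add, hxp, hyq, map_add]⟩
      | single m r =>
        obtain ⟨t, rfl⟩ := Ideal.Quotient.mk_surjective r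
        refine ⟨t • v m, Submodule.smul_mem _ t (Submodule.subset_span ⟨m, rfl⟩), ?_⟩
        rw [glHom_single, ← hv, tmul_smul, ← Ideal.Quotient.algebraMap_eq, algebraMap_smul]
    obtain ⟨x, hx, hxa⟩ := key (hg₀.equiv.symm ((1 : R ⧸ J) ⊗ₜ a))
    refine Submodule.mem_sup.mpr ⟨x, hx, a - x, ?_, add_sub_cancel _ _⟩
    rw [← GrothLib.NilFree.mk_tmul_eq_zero_iff, tmul_sub, sub_eq_zero, hxa]
    exact ((hg₀.equiv_apply _).symm.trans (hg₀.equiv.apply_symm_apply _)).symm
  have hli : LinearIndependent R v := by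
    refine GrothLib.NilFree.linearIndependent_of_flat J hJ v hspan (fun m => redCoef hg₀ m) fun i l => ?_
    have h3 : hg₀.equiv.symm (g₀ l).val = single l 1 := by
      apply hg₀.equiv.toEquiv.injective
      change hg₀.equiv _ = hg₀.equiv _
      rw [BialgEquiv.apply_symm_apply, IsFrame.equiv_apply, glHom_single, one_smul]
    rw [redCoef_apply, hv, h3, MonoidAlgebra.coeff_single, Finsupp.single_apply]
  exact ⟨Module.Basis.mk hli hspan.ge, Module.Basis.coe_mk _ _⟩

theorem exists_idempotent_functional (hJ : IsNilpotent J) (hg₀ : IsFrame g₀) (m : M) :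
    ∃ e : WithConv (A →ₗ[R] R), IsIdempotentElem e ∧ ∀ a, Ideal.Quotient.mk J (e a) = redCoef hg₀ m a := by
  classical
  choose v hv using fun n => TensorProduct.mk_surjective R A (R ⧸ J) Ideal.Quotient.mk_surjective (g₀ n).val
  obtain ⟨b, hb⟩ := exists_basis_lift hJ hg₀ v hv
  have hrange : toConv (redCoef hg₀ m) ∈ (redConv R J A).range := by
    refine RingHom.mem_range.mpr ⟨toConv (b.coord m), WithConv.ofConv_injective (b.ext fun n => ?_)⟩
    change algebraMap R (R ⧸ J) (b.coord m (b n)) = redCoef hg₀ m (b n)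
    have h3 : hg₀.equiv.symm (g₀ n).val = single n 1 := by
      apply hg₀.equiv.toEquiv.injective
      change hg₀.equiv _ = hg₀.equiv _
      rw [BialgEquiv.apply_symm_apply, IsFrame.equiv_apply, glHom_single, one_smul]
    rw [Module.Basis.coord_apply, b.repr_self, redCoef_apply, hb]
    rw [show (1 : R ⧸ J) ⊗ₜ[R] v n = (g₀ n).val from hv n]
    rw [h3, MonoidAlgebra.coeff_single, Finsupp.single_apply, Finsupp.single_apply]
    split_ifs <;> simp
  obtain ⟨e, he, hee⟩ := exists_isIdempotentElem_eq_of_ker_isNilpotent (redConv R J A)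
    (fun f hf => isNilpotent_of_forall_mem hJ f fun a => Ideal.Quotient.eq_zero_iff_mem.mp
      (congrArg (fun φ : WithConv (A →ₗ[R] R ⧸ J) => φ a) (RingHom.mem_ker.mp hf)))
    _ hrange (redCoef_mul hg₀ m)
  exact ⟨e, he, fun a => congrArg (fun φ : WithConv (A →ₗ[R] R ⧸ J) => φ a) hee⟩

/-- Characters lift uniquely in flat deformations. -/
theorem existsUnique_groupLike_of_flat_nil (hJ : IsNilpotent J) (hg₀ : IsFrame g₀) (m : M) :
    ∃! x : A, IsGroupLikeElem R x ∧ (1 : R ⧸ J) ⊗ₜ[R] x = (g₀ m).val := by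
  classical
  obtain ⟨e, he, hred⟩ := exists_idempotent_functional hJ hg₀ m
  let P : A →ₗ[R] A := (TensorProduct.rid R A).toLinearMap.comp ((e.ofConv.lTensor A).comp Coalgebra.comul)
  have hee : ∀ a, e (P a) = e a := by
    intro a
    conv_rhs => rw [← he.eq, LinearMap.convMul_apply]
    change e (TensorProduct.rid R A (e.ofConv.lTensor A (Coalgebra.comul a))) = _
    generalize Coalgebra.comul (R := R) a = z
    induction z using TensorProduct.induction_on with
    | zero => simp
    | add x y hx hy => simp only [map_add, hx, hy]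
    | tmul x y => simp [mul_comm]
  have hcomul : ∀ a, Coalgebra.comul (R := R) (P a) = P.lTensor A (Coalgebra.comul a) := by
    intro a
    have hl : ∀ w : A ⊗[R] A, P.lTensor A w =
        (((TensorProduct.rid R A).toLinearMap.comp (e.ofConv.lTensor A)).lTensor A)
          ((Coalgebra.comul (R := R) (A := A)).lTensor A w) := fun w => by
      rw [← LinearMap.comp_apply, ← LinearMap.lTensor_comp]
      rfl
    rw [hl, ← Coalgebra.coassoc_apply]
    change Coalgebra.comul (R := R) (TensorProduct.rid R A (e.ofConv.lTensor A (Coalgebra.comul a))) = _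
    generalize Coalgebra.comul (R := R) a = z
    induction z using TensorProduct.induction_on with
    | zero => simp
    | add x y hx hy => simp only [map_add, hx, hy]
    | tmul x y =>
      rw [LinearMap.lTensor_tmul, TensorProduct.rid_tmul, map_smul, LinearMap.rTensor_tmul]
      generalize Coalgebra.comul (R := R) x = w
      induction w using TensorProduct.induction_on with
      | zero => simp
      | add p q hp hq => simp only [smul_add, add_tmul, map_add, hp, hq]
      | tmul p q =>
        rw [TensorProduct.assoc_tmul, LinearMap.lTensor_tmul, ← tmul_smul]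
        rfl
  have hPP : ∀ a, P (P a) = P a := by
    intro a
    change TensorProduct.rid R A (e.ofConv.lTensor A (Coalgebra.comul (P a))) =
      TensorProduct.rid R A (e.ofConv.lTensor A (Coalgebra.comul a))
    rw [hcomul]
    generalize Coalgebra.comul (R := R) a = z
    induction z using TensorProduct.induction_on with
    | zero => simp
    | add x y hx hy => simp only [map_add, hx, hy]
    | tmul x y => simp [hee]
  have hcounit : ∀ a, Coalgebra.counit (R := R) (P a) = e a := by
    intro a
    change Coalgebra.counit (R := R) (TensorProduct.rid R A (e.ofConv.lTensor A (Coalgebra.comul a))) = _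
    conv_rhs => rw [show e a = ((1 : WithConv (A →ₗ[R] R)) * e) a by rw [one_mul], LinearMap.convMul_apply]
    generalize Coalgebra.comul (R := R) a = z
    induction z using TensorProduct.induction_on with
    | zero => simp
    | add x y hx hy => simp only [map_add, hx, hy]
    | tmul x y => simp [mul_comm]
  have hmod : ∀ a, (1 : R ⧸ J) ⊗ₜ[R] P a = redCoef hg₀ m a • (g₀ m).val := by
    intro a
    let c : A →ₗ[R] R ⧸ J := redCoef hg₀ m
    have h1 : ∀ z : A ⊗[R] A, (1 : R ⧸ J) ⊗ₜ[R] TensorProduct.rid R A (e.ofConv.lTensor A z) =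
        TensorProduct.rid (R ⧸ J) _ (TensorProduct.map LinearMap.id
          ((Finsupp.lapply m).comp ((MonoidAlgebra.coeffLinearEquiv (R ⧸ J)).toLinearMap.comp
            ((hg₀.equiv.symm : (R ⧸ J) ⊗[R] A →ₐc[R ⧸ J] MonoidAlgebra (R ⧸ J) M) :
              (R ⧸ J) ⊗[R] A →ₗc[R ⧸ J] MonoidAlgebra (R ⧸ J) M).toLinearMap)) (sqMap R A (R ⧸ J) z)) := by
      intro z
      induction z using TensorProduct.induction_on with
      | zero => simp [sqMap]
      | add x y hx hy => simp only [sqMap, tmul_add, map_add] at hx hy ⊢; rw [hx, hy]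
      | tmul x y =>
        rw [sqMap_tmul, LinearMap.lTensor_tmul, TensorProduct.rid_tmul, TensorProduct.map_tmul,
          TensorProduct.rid_tmul]
        change _ = redCoef hg₀ m y • ((1 : R ⧸ J) ⊗ₜ[R] x)
        rw [← hred, tmul_smul, ← Ideal.Quotient.algebraMap_eq, algebraMap_smul]
    have h2 : ∀ w : MonoidAlgebra (R ⧸ J) M,
        TensorProduct.rid (R ⧸ J) _ (TensorProduct.map LinearMap.id
          ((Finsupp.lapply m).comp ((MonoidAlgebra.coeffLinearEquiv (R ⧸ J)).toLinearMap.comp
            ((hg₀.equiv.symm : (R ⧸ J) ⊗[R] A →ₐc[R ⧸ J] MonoidAlgebra (R ⧸ J) M) :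
              (R ⧸ J) ⊗[R] A →ₗc[R ⧸ J] MonoidAlgebra (R ⧸ J) M).toLinearMap))
          (Coalgebra.comul (glHom g₀ w))) = w.coeff m • (g₀ m).val := by
      intro w
      induction w using MonoidAlgebra.induction_linear with
      | zero => simp
      | add x y hx hy => simp only [map_add, coeff_add, Finsupp.add_apply, add_smul, hx, hy]
      | single n r =>
        have h3 : hg₀.equiv.symm (g₀ n).val = single n 1 := by
          apply hg₀.equiv.toEquiv.injective
          change hg₀.equiv _ = hg₀.equiv _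
          rw [BialgEquiv.apply_symm_apply, IsFrame.equiv_apply, glHom_single, one_smul]
        rw [glHom_single, map_smul, map_smul, map_smul, (g₀ n).isGroupLikeElem_val.comul_eq_tmul_self,
          TensorProduct.map_tmul, TensorProduct.rid_tmul]
        change r • ((hg₀.equiv.symm (g₀ n).val).coeff m • (g₀ n).val) = _
        rw [h3, MonoidAlgebra.coeff_single, MonoidAlgebra.coeff_single, Finsupp.single_apply, Finsupp.single_apply]
        split_ifs with hnm
        · subst hnm; simp
        · simp
    change (1 : R ⧸ J) ⊗ₜ[R] TensorProduct.rid R A (e.ofConv.lTensor A (Coalgebra.comul a)) = _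
    rw [h1, ← comul_one_tmul, show (1 : R ⧸ J) ⊗ₜ[R] a = glHom g₀ (hg₀.equiv.symm ((1 : R ⧸ J) ⊗ₜ[R] a)) from
      ((hg₀.equiv_apply _).symm.trans (hg₀.equiv.apply_symm_apply _)).symm, h2]
    rfl
  obtain ⟨x₁, hx₁⟩ := TensorProduct.mk_surjective R A (R ⧸ J) Ideal.Quotient.mk_surjective (g₀ m).val
  have hc1 : redCoef hg₀ m x₁ = 1 := by
    rw [redCoef_apply, show (1 : R ⧸ J) ⊗ₜ[R] x₁ = (g₀ m).val from hx₁]
    rw [show hg₀.equiv.symm (g₀ m).val = single m 1 from hg₀.equiv.toEquiv.injective (by
      change hg₀.equiv _ = hg₀.equiv _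
      rw [BialgEquiv.apply_symm_apply, IsFrame.equiv_apply, glHom_single, one_smul]),
      MonoidAlgebra.coeff_single, Finsupp.single_eq_same]
  obtain ⟨c, hc⟩ : IsUnit (e x₁) := by
    have hnil : IsNilpotent (1 - e x₁) := by
      obtain ⟨n, hn⟩ := hJ
      refine ⟨n, ?_⟩
      have h0 : 1 - e x₁ ∈ J := Ideal.Quotient.eq_zero_iff_mem.mp (by rw [map_sub, map_one, hred, hc1, sub_self])
      have := Ideal.pow_mem_pow h0 n
      rwa [hn] at this
    have := hnil.isUnit_one_sub
    rwa [sub_sub_cancel] at this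
  let x := (↑c⁻¹ : R) • P x₁
  have hex : e x = 1 := by
    change e ((↑c⁻¹ : R) • P x₁) = 1
    rw [map_smul, hee, smul_eq_mul, ← hc, Units.inv_mul]
  have hPx : P x = x := by rw [map_smul, hPP]
  have hxred : (1 : R ⧸ J) ⊗ₜ[R] x = (g₀ m).val := by
    have h1 : Ideal.Quotient.mk J (↑c : R) = 1 := by rw [hc, hred, hc1]
    have h2 : Ideal.Quotient.mk J (↑c⁻¹ : R) = 1 := by
      have := congrArg (Ideal.Quotient.mk J) c.inv_mul
      rwa [map_mul, h1, mul_one, map_one] at this
    change (1 : R ⧸ J) ⊗ₜ[R] ((↑c⁻¹ : R) • P x₁) = _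
    rw [tmul_smul, hmod, hc1, one_smul, ← algebraMap_smul (R ⧸ J) (↑c⁻¹ : R), Ideal.Quotient.algebraMap_eq, h2,
      one_smul]
  have hP : ∀ a, P a = e a • x := by
    have hsup : LinearMap.range P ≤ Submodule.span R {x} ⊔ J • LinearMap.range P := by
      rintro _ ⟨a, rfl⟩
      have hz : P a - e a • x ∈ J • (⊤ : Submodule R A) := by
        rw [← GrothLib.NilFree.mk_tmul_eq_zero_iff, tmul_sub, tmul_smul, hxred, hmod, ← hred,
          ← Ideal.Quotient.algebraMap_eq, algebraMap_smul, sub_self]
      have hz' : P a - e a • x ∈ J • LinearMap.range P := by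
        have h := Submodule.mem_map_of_mem (f := P) hz
        rw [Submodule.map_smul'', Submodule.map_top, map_sub, map_smul, hPP, hPx] at h
        exact h
      exact Submodule.mem_sup.mpr ⟨e a • x, Submodule.smul_mem _ _ (Submodule.mem_span_singleton_self x),
        P a - e a • x, hz', add_sub_cancel _ _⟩
    obtain ⟨n, hn⟩ := hJ
    have hstep : ∀ j : ℕ, LinearMap.range P ≤ Submodule.span R {x} ⊔ J ^ j • LinearMap.range P := by
      intro j
      induction j with
      | zero => rw [pow_zero, Ideal.one_eq_top, Submodule.top_smul]; exact le_sup_right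
      | succ j ih =>
        refine ih.trans (sup_le le_sup_left ?_)
        refine (Submodule.smul_mono le_rfl hsup).trans ?_
        rw [Submodule.smul_sup, pow_succ, Submodule.mul_smul]
        exact sup_le_sup Submodule.smul_le_right le_rfl
    intro a
    have := hstep n ⟨a, rfl⟩
    rw [hn, Ideal.zero_eq_bot, Submodule.bot_smul, sup_bot_eq] at this
    obtain ⟨t, ht⟩ := Submodule.mem_span_singleton.mp this
    rw [← ht]
    have h := congrArg (fun y => e y) ht
    simp only [map_smul, hex, hee, smul_eq_mul, mul_one] at h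
    rw [h]
  refine ⟨x, ⟨⟨?_, ?_⟩, hxred⟩, fun y ⟨hy, hyred⟩ => ?_⟩
  · rw [← hPx, hcounit, hex]
  · have hl : ∀ z : A ⊗[R] A, P.lTensor A z = TensorProduct.rid R A (e.ofConv.lTensor A z) ⊗ₜ[R] x := by
      intro z
      induction z using TensorProduct.induction_on with
      | zero => simp
      | add p q hp hq => simp only [map_add, add_tmul, hp, hq]
      | tmul p q => rw [LinearMap.lTensor_tmul, hP, LinearMap.lTensor_tmul, TensorProduct.rid_tmul, ← smul_tmul]
    conv_lhs => rw [← hPx, hcomul, hl]
    exact congrArg (· ⊗ₜ[R] x) hPx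
  · have hPy : P y = e y • y := by
      change TensorProduct.rid R A (e.ofConv.lTensor A (Coalgebra.comul y)) = _
      rw [hy.comul_eq_tmul_self, LinearMap.lTensor_tmul, TensorProduct.rid_tmul]
    have hunit : IsUnit (e y) := by
      have hnil : IsNilpotent (1 - e y) := by
        obtain ⟨n, hn⟩ := hJ
        refine ⟨n, ?_⟩
        have h0 : 1 - e y ∈ J := Ideal.Quotient.eq_zero_iff_mem.mp (by
          rw [map_sub, map_one, hred, redCoef_apply, hyred,
            show hg₀.equiv.symm (g₀ m).val = single m 1 from hg₀.equiv.toEquiv.injective (by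
              change hg₀.equiv _ = hg₀.equiv _
              rw [BialgEquiv.apply_symm_apply, IsFrame.equiv_apply, glHom_single, one_smul]),
            MonoidAlgebra.coeff_single, Finsupp.single_eq_same, sub_self])
        have := Ideal.pow_mem_pow h0 n
        rwa [hn] at this
      have := hnil.isUnit_one_sub
      rwa [sub_sub_cancel] at this
    have hyx : y = x := by
      obtain ⟨d, hd⟩ := hunit
      have h := (hPy.symm.trans (hP y))
      rw [← hd] at h
      exact (d.isUnit.smul_left_cancel).mp h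
    exact hyx

/-- A flat deformation of a diagonalisable group along a nilpotent ideal is diagonalisable. -/
theorem exists_frame_of_flat_nil (hJ : IsNilpotent J) (hg₀ : IsFrame g₀) :
    ∃ g : M →* GroupLike R A, IsFrame g ∧ ∀ m, (1 : R ⧸ J) ⊗ₜ[R] (g m).val = (g₀ m).val := by
  classical
  choose x hx huniq using fun m => existsUnique_groupLike_of_flat_nil hJ hg₀ m
  let g : M →* GroupLike R A :=
    { toFun := fun m => ⟨x m, (hx m).1⟩
      map_one' := GroupLike.ext (huniq 1 1 ⟨IsGroupLikeElem.one, by rw [map_one g₀]; rfl⟩).symm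
      map_mul' := fun a b => GroupLike.ext (huniq (a * b) _ ⟨(hx a).1.mul (hx b).1, by
        rw [map_mul g₀, GroupLike.val_mul, ← (hx a).2, ← (hx b).2, Algebra.TensorProduct.tmul_mul_tmul,
          _root_.mul_one]⟩).symm }
  refine ⟨g, ?_, fun m => (hx m).2⟩
  obtain ⟨b, hb⟩ := exists_basis_lift hJ hg₀ x fun m => (hx m).2
  have h : ∀ z, glHom g z = b.repr.symm z.coeff := by
    intro z
    induction z using MonoidAlgebra.induction_linear with
    | zero => simp
    | add p q hp hq => simp only [map_add, coeff_add, hp, hq]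
    | single m r =>
      rw [glHom_single, MonoidAlgebra.coeff_single, Module.Basis.repr_symm_apply,
        Finsupp.linearCombination_single, hb]
      rfl
  rw [IsFrame, show (glHom g : MonoidAlgebra R M → A) = b.repr.symm ∘ MonoidAlgebra.coeff from funext h]
  exact b.repr.symm.bijective.comp ⟨MonoidAlgebra.coeff_injective, fun f => ⟨MonoidAlgebra.ofCoeff f, by simp⟩⟩

end Lift

section BaseChange

variable {A : Type u} [CommRing A] [Bialgebra R A] [Module.Flat R A] {M : Type u} [CommGroup M]

/-- Frames of a flat bialgebra lift along surjections with nilpotent kernel. -/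
theorem exists_frame_of_flat_surjective {T T₀ : Type u} [CommRing T] [CommRing T₀] [Algebra R T] [Algebra R T₀]
    (π : T →ₐ[R] T₀) (hπ : Function.Surjective π) (hnil : IsNilpotent (RingHom.ker (π : T →+* T₀)))
    {h₀ : M →* GroupLike T₀ (T₀ ⊗[R] A)} (hh₀ : IsFrame h₀) :
    ∃ g : M →* GroupLike T (T ⊗[R] A), IsFrame g ∧ ∀ m, glMap A π (g m) = h₀ m := by
  let J := RingHom.ker (π : T →+* T₀)
  let e : (T ⧸ J) ≃ₐ[R] T₀ := Ideal.quotientKerAlgEquivOfSurjective hπ
  let c := GrothLib.Hopf.cancelBaseChange R T (T ⧸ J) A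
  obtain ⟨g, hg, hgg⟩ := exists_frame_of_flat_nil (R := T) (A := T ⊗[R] A) (J := J) hnil
    ((hh₀.map e.symm.toAlgHom).push c.symm)
  refine ⟨g, hg, fun m => GroupLike.ext ?_⟩
  have h : ∀ x : T ⊗[R] A, coefMap A π x = coefMap A e.toAlgHom (c ((1 : T ⧸ J) ⊗ₜ[T] x)) := by
    intro x
    induction x using TensorProduct.induction_on with
    | zero => simp
    | add x y hx hy => simp only [tmul_add, map_add, hx, hy]
    | tmul t a =>
      rw [GrothLib.Hopf.cancelBaseChange_tmul, coefMap_tmul, coefMap_tmul, Algebra.smul_def, _root_.mul_one]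
      rfl
  rw [glMap_val, h, hgg]
  change coefMap A e.toAlgHom (c (c.symm (coefMap A e.symm.toAlgHom (h₀ m).val))) = _
  rw [BialgEquiv.apply_symm_apply, coefMap_comp, show e.toAlgHom.comp e.symm.toAlgHom = AlgHom.id R T₀ from
    AlgHom.ext e.apply_symm_apply]
  exact congrArg GroupLike.val (glMap_id (h₀ m))

end BaseChange

end GrothLib.MultLocal
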