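import Groth.Agent.Lib.MultLocal.Mono
import Mathlib.RingTheory.Coalgebra.Convolution
import Mathlib.RingTheory.HopfAlgebra.Basic
import Mathlib.RingTheory.Nakayama

/-!
Closed diagonalisable subgroups which are open near the unit section are cut out by idempotents.
-/

universe u

set_option linter.style.haveILetI false
set_option maxSynthPendingDepth 3

open TensorProduct MonoidAlgebra WithConv

namespace GrothLib.MultLocal

variable {T : Type u} [CommRing T] {S : Type u} [CommRing S] [HopfAlgebra T S] {M : Type u} [CommGroup M]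

/-- The kernel of a surjection to a group algebra which vanishes near the counit is generated by an idempotent. -/
theorem exists_idempotent_ker (f : S →ₐc[T] MonoidAlgebra T M) (hf : Function.Surjective f) (r : S)
    (hr : Coalgebra.counit (R := T) r = 1) (hkill : ∀ k, f k = 0 → r * k = 0) :
    ∃ e : S, IsIdempotentElem e ∧ f e = 0 ∧ ∀ k, f k = 0 → e * k = k := by
  obtain ⟨σ, hσ⟩ := Module.projective_lifting_property (f : S →ₐ[T] (MonoidAlgebra T M)).toLinearMap LinearMap.id hf
  have hσ' : ∀ p, f (σ p) = p := fun p => LinearMap.congr_fun hσ p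
  let fa : S →ₐ[T] (MonoidAlgebra T M) := (f : S →ₐ[T] (MonoidAlgebra T M))
  let inl : (MonoidAlgebra T M) →ₐ[T] (MonoidAlgebra T M ⊗[T] S) := Algebra.TensorProduct.includeLeft
  let inr : S →ₐ[T] (MonoidAlgebra T M ⊗[T] S) := Algebra.TensorProduct.includeRight
  let a : WithConv (S →ₗ[T] (MonoidAlgebra T M ⊗[T] S)) := toConv (inl.comp fa).toLinearMap
  let ab : WithConv (S →ₗ[T] (MonoidAlgebra T M ⊗[T] S)) := toConv ((inl.comp fa).toLinearMap.comp (HopfAlgebraStruct.antipode T))
  let u : WithConv (S →ₗ[T] (MonoidAlgebra T M ⊗[T] S)) := toConv inr.toLinearMap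
  have haab : a * ab = 1 := by
    refine WithConv.ofConv_injective (LinearMap.ext fun x => ?_)
    rw [LinearMap.convMul_apply, LinearMap.convOne_apply]
    have h : ∀ z : S ⊗[T] S, LinearMap.mul' T (MonoidAlgebra T M ⊗[T] S) (TensorProduct.map a.ofConv ab.ofConv z) =
        inl.comp fa (LinearMap.mul' T S ((HopfAlgebraStruct.antipode T).lTensor S z)) := fun z => by
      induction z using TensorProduct.induction_on with
      | zero => simp
      | add p q hp hq => simp only [map_add, hp, hq]
      | tmul p q => simp [a, ab]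
    rw [h, HopfAlgebra.mul_antipode_lTensor_comul_apply, AlgHom.commutes]
  let g : S →ₐ[T] (MonoidAlgebra T M ⊗[T] S) := (Algebra.TensorProduct.map (fa.comp (HopfAlgebra.antipodeAlgHom T S)) (AlgHom.id T S)).comp
    (Bialgebra.comulAlgHom T S)
  let g' : S →ₐ[T] (MonoidAlgebra T M ⊗[T] S) := (Algebra.TensorProduct.map fa (AlgHom.id T S)).comp (Bialgebra.comulAlgHom T S)
  have hgconv : toConv g.toLinearMap = ab * u := by
    refine WithConv.ofConv_injective (LinearMap.ext fun x => ?_)
    rw [LinearMap.convMul_apply]
    change Algebra.TensorProduct.map (fa.comp (HopfAlgebra.antipodeAlgHom T S)) (AlgHom.id T S) (Coalgebra.comul x) = _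
    generalize Coalgebra.comul (R := T) x = z
    induction z using TensorProduct.induction_on with
    | zero => simp
    | add p q hp hq => simp only [map_add, hp, hq]
    | tmul p q => simp [ab, u, inl, inr]
  have hg'conv : toConv g'.toLinearMap = a * u := by
    refine WithConv.ofConv_injective (LinearMap.ext fun x => ?_)
    rw [LinearMap.convMul_apply]
    change Algebra.TensorProduct.map fa (AlgHom.id T S) (Coalgebra.comul x) = _
    generalize Coalgebra.comul (R := T) x = z
    induction z using TensorProduct.induction_on with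
    | zero => simp
    | add p q hp hq => simp only [map_add, hp, hq]
    | tmul p q => simp [a, u, inl, inr]
  let Ψ : (MonoidAlgebra T M ⊗[T] S) →ₐ[T] (MonoidAlgebra T M ⊗[T] S) := Algebra.TensorProduct.lift inl g fun _ _ => Commute.all _ _
  have hΨg' : ∀ x, Ψ (g' x) = inr x := by
    intro x
    have h := LinearMap.algHom_comp_convMul_distrib Ψ a u
    rw [← hg'conv] at h
    have ha : toConv (Ψ.toLinearMap.comp a.ofConv) = a :=
      WithConv.ofConv_injective (LinearMap.ext fun y => by simp [a, Ψ, inl])
    have hu : toConv (Ψ.toLinearMap.comp u.ofConv) = toConv g.toLinearMap :=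
      WithConv.ofConv_injective (LinearMap.ext fun y => by simp [u, Ψ, inl, inr, ← Algebra.TensorProduct.one_def])
    rw [ha, hu, hgconv, ← _root_.mul_assoc, haab, _root_.one_mul] at h
    exact LinearMap.congr_fun h x
  -- the image of the kernel lies in the tensor product with the kernel
  have hg'k : ∀ k, f k = 0 → inr r * g' k = 0 := by
    intro k hk
    have h1 : (fa.toLinearMap.lTensor (MonoidAlgebra T M)) (g' k) = 0 := by
      have h2 : (fa.toLinearMap.lTensor (MonoidAlgebra T M)) (g' k) =
          TensorProduct.map fa.toLinearMap fa.toLinearMap (Coalgebra.comul (R := T) k) := by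
        change (fa.toLinearMap.lTensor (MonoidAlgebra T M)) (Algebra.TensorProduct.map fa (AlgHom.id T S) (Coalgebra.comul k)) = _
        generalize Coalgebra.comul (R := T) k = z
        induction z using TensorProduct.induction_on with
        | zero => simp
        | add p q hp hq => simp only [map_add, hp, hq]
        | tmul p q => simp
      rw [h2]
      refine (CoalgHomClass.map_comp_comul_apply f k).trans ?_
      rw [hk, map_zero]
    have h3 : g' k = ((LinearMap.id - σ.comp fa.toLinearMap).lTensor (MonoidAlgebra T M)) (g' k) := by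
      rw [LinearMap.lTensor_sub, LinearMap.sub_apply, LinearMap.lTensor_comp, LinearMap.comp_apply, h1, map_zero,
        sub_zero, LinearMap.lTensor_id, LinearMap.id_apply]
    rw [h3]
    generalize g' k = z
    induction z using TensorProduct.induction_on with
    | zero => simp
    | add p q hp hq => simp only [map_add, mul_add, hp, hq, add_zero]
    | tmul p q =>
      rw [LinearMap.lTensor_tmul]
      change ((1 : (MonoidAlgebra T M)) ⊗ₜ[T] r) * _ = 0
      rw [Algebra.TensorProduct.tmul_mul_tmul, hkill _ (by
        rw [LinearMap.sub_apply, map_sub]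
        change f q - f (σ (f q)) = 0
        rw [hσ', sub_self]), tmul_zero]
  let L : (MonoidAlgebra T M ⊗[T] S) →ₗ[T] S := TensorProduct.lift (((LinearMap.mul T S).comp σ : (MonoidAlgebra T M) →ₗ[T] S →ₗ[T] S))
  have hLmul : ∀ (w : (MonoidAlgebra T M ⊗[T] S)) (k : S), L (w * inr k) = L w * k := by
    intro w k
    induction w using TensorProduct.induction_on with
    | zero => simp
    | add p q hp hq => simp only [add_mul, map_add, hp, hq]
    | tmul p q => simp [L, inr, _root_.mul_assoc]
  let s := L (g r)
  have hs : f s = 1 := by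
    have h1 : ∀ w : (MonoidAlgebra T M ⊗[T] S), f (L w) = LinearMap.mul' T (MonoidAlgebra T M) ((fa.toLinearMap.lTensor (MonoidAlgebra T M)) w) := by
      intro w
      induction w using TensorProduct.induction_on with
      | zero => simp
      | add p q hp hq => simp only [map_add, hp, hq]
      | tmul p q => simp [L, hσ', fa]
    rw [h1]
    have h2 : LinearMap.mul' T (MonoidAlgebra T M) ((fa.toLinearMap.lTensor (MonoidAlgebra T M)) (g r)) =
        fa (LinearMap.mul' T S ((HopfAlgebraStruct.antipode T).rTensor S (Coalgebra.comul r))) := by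
      change LinearMap.mul' T (MonoidAlgebra T M) ((fa.toLinearMap.lTensor (MonoidAlgebra T M)) (Algebra.TensorProduct.map
        (fa.comp (HopfAlgebra.antipodeAlgHom T S)) (AlgHom.id T S) (Coalgebra.comul r))) = _
      generalize Coalgebra.comul (R := T) r = z
      induction z using TensorProduct.induction_on with
      | zero => simp
      | add p q hp hq => simp only [map_add, hp, hq]
      | tmul p q => simp [fa]
    rw [h2, HopfAlgebra.mul_antipode_rTensor_comul_apply, hr, map_one (algebraMap T S), map_one]
  have hsk : ∀ k, f k = 0 → s * k = 0 := by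
    intro k hk
    rw [← hLmul]
    have := congrArg Ψ (hg'k k hk)
    rw [map_mul, map_zero, hΨg', show Ψ (inr r) = g r by simp [Ψ, inr, inl, ← Algebra.TensorProduct.one_def]] at this
    rw [this, map_zero]
  have he0 : f (1 - s) = 0 := by rw [map_sub, map_one, hs, sub_self]
  refine ⟨1 - s, ?_, he0, fun k hk => by rw [sub_mul, _root_.one_mul, hsk k hk, sub_zero]⟩
  change (1 - s) * (1 - s) = 1 - s
  rw [sub_mul, _root_.one_mul, hsk _ he0, sub_zero]

/-- A homomorphism to a diagonalisable group which is surjective modulo the Jacobson radical is surjective. -/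
theorem surjective_of_mod (f : S →ₐc[T] MonoidAlgebra T M) {J : Ideal T} (hJ : J ≤ (⊥ : Ideal T).jacobson)
    (hmod : ∀ z : MonoidAlgebra T M, ∃ c : S,
      mapRingHom M (Ideal.Quotient.mk J) (f c) = mapRingHom M (Ideal.Quotient.mk J) z) :
    Function.Surjective f := by
  intro z
  induction z using MonoidAlgebra.induction_linear with
  | zero => exact ⟨0, map_zero f⟩
  | add x y hx hy =>
    obtain ⟨a, rfl⟩ := hx
    obtain ⟨b, rfl⟩ := hy
    exact ⟨a + b, map_add f a b⟩
  | single m r =>
    obtain ⟨c, hc⟩ := hmod (single m 1)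
    have hu : IsUnit ((f c).coeff m) := by
      have h := congrArg (fun w => w.coeff m) hc
      simp only [coeff_mapRingHom, Finsupp.mapRange_apply, MonoidAlgebra.coeff_single, Finsupp.single_eq_same] at h
      have h1 : (f c).coeff m - 1 ∈ (⊥ : Ideal T).jacobson := hJ (Ideal.Quotient.eq.mp h)
      exact Ideal.isUnit_of_sub_one_mem_jacobson_bot _ h1
    obtain ⟨d, hd⟩ := coeff_smul_single_mem_range f c m
    obtain ⟨v, hv⟩ := hu
    refine ⟨(r * ↑v⁻¹) • d, ?_⟩
    rw [map_smul, hd, smul_single, smul_eq_mul, ← hv, _root_.mul_assoc, Units.inv_mul, _root_.mul_one]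

/-- An element killing the kernel which is congruent to one. -/
theorem exists_kill_ker [IsNoetherianRing S] (f : S →ₐc[T] MonoidAlgebra T M) {J : Ideal T}
    (hJ : J ≤ (⊥ : Ideal T).jacobson)
    (hK : RingHom.ker (f : S →+* MonoidAlgebra T M) ≤
      (J.map (algebraMap T S)) • RingHom.ker (f : S →+* MonoidAlgebra T M)) :
    ∃ r : S, Coalgebra.counit (R := T) r = 1 ∧ ∀ k, f k = 0 → r * k = 0 := by
  obtain ⟨r, hr, hrk⟩ := Submodule.exists_sub_one_mem_and_smul_eq_zero_of_fg_of_le_smul (J.map (algebraMap T S))
    (RingHom.ker (f : S →+* MonoidAlgebra T M)) (IsNoetherian.noetherian _) hK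
  have hε : Coalgebra.counit (R := T) r - 1 ∈ J := by
    have h := Ideal.mem_map_of_mem (Bialgebra.counitAlgHom T S : S →+* T) hr
    rw [Ideal.map_map, show (Bialgebra.counitAlgHom T S : S →+* T).comp (algebraMap T S) = RingHom.id T from
      RingHom.ext fun t => (Bialgebra.counitAlgHom T S).commutes t, Ideal.map_id, map_sub, map_one] at h
    exact h
  obtain ⟨v, hv⟩ := Ideal.isUnit_of_sub_one_mem_jacobson_bot _ (hJ hε)
  refine ⟨(↑v⁻¹ : T) • r, ?_, fun k hk => ?_⟩
  · rw [map_smul, ← hv, smul_eq_mul, Units.inv_mul]
  · rw [smul_mul_assoc, ← smul_eq_mul r k, hrk k (RingHom.mem_ker.mpr hk), smul_zero]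

end GrothLib.MultLocal
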