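import Groth.Agent.Lib.MultLocal.Complete
import Groth.Agent.Lib.MultLocal.FlatNil
import Groth.Agent.Lib.MultLocal.KerIdem

/-!
The open and closed diagonalisable subgroup attached to a frame modulo an adic ideal.
-/

universe u

set_option linter.style.haveILetI false
set_option maxSynthPendingDepth 3

open TensorProduct MonoidAlgebra

namespace GrothLib.MultLocal

variable {R : Type u} [CommRing R] {A : Type u} [CommRing A] [HopfAlgebra R A] {E : Type u} [CommRing E] [Algebra R E]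
  (J : Ideal E) {M : Type u} [CommGroup M]

theorem pushPull {T T₀ : Type u} [CommRing T] [CommRing T₀] [Algebra R T] [Algebra R T₀] [Algebra T T₀]
    [IsScalarTower R T T₀] (w : T ⊗[R] A) :
    GrothLib.Hopf.cancelBaseChange R T T₀ A ((1 : T₀) ⊗ₜ[T] w) = coefMap A (IsScalarTower.toAlgHom R T T₀) w := by
  induction w using TensorProduct.induction_on with
  | zero => simp
  | add x y hx hy => simp only [tmul_add, map_add, hx, hy]
  | tmul t a =>
    rw [GrothLib.Hopf.cancelBaseChange_tmul, coefMap_tmul, Algebra.smul_def, _root_.mul_one]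
    rfl

/-- Frames lift along surjections with nilpotent kernel when the bialgebra is flat over the source. -/
theorem exists_frame_of_flat_over {T T₀ : Type u} [CommRing T] [CommRing T₀] [Algebra R T] [Algebra R T₀]
    [Module.Flat T (T ⊗[R] A)] (π : T →ₐ[R] T₀) (hπ : Function.Surjective π)
    (hnil : IsNilpotent (RingHom.ker (π : T →+* T₀))) {h₀ : M →* GroupLike T₀ (T₀ ⊗[R] A)} (hh₀ : IsFrame h₀) :
    ∃ g : M →* GroupLike T (T ⊗[R] A), IsFrame g ∧ ∀ m, glMap A π (g m) = h₀ m := by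
  letI : Algebra T T₀ := π.toRingHom.toAlgebra
  haveI : IsScalarTower R T T₀ := IsScalarTower.of_algebraMap_eq fun r => (π.commutes r).symm
  let c := GrothLib.Hopf.cancelBaseChange R T T₀ A
  obtain ⟨g', hg', hgg⟩ := exists_frame_of_flat_surjective (R := T) (A := T ⊗[R] A) (Algebra.ofId T T₀) hπ hnil
    (hh₀.push c.symm)
  let l := Bialgebra.TensorProduct.lid T (T ⊗[R] A)
  refine ⟨_, hg'.push l, fun m => GroupLike.ext ?_⟩
  obtain ⟨w, hw⟩ : ∃ w, (g' m).val = (1 : T) ⊗ₜ[T] w := ⟨l (g' m).val, by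
    generalize (g' m).val = z
    induction z using TensorProduct.induction_on with
    | zero => simp
    | add x y hx hy => rw [map_add, tmul_add, ← hx, ← hy]
    | tmul t x => rw [Bialgebra.TensorProduct.lid_tmul, tmul_smul, smul_tmul', smul_eq_mul, _root_.mul_one]⟩
  have h1 := congrArg GroupLike.val (hgg m)
  rw [glMap_val, hw, coefMap_tmul, map_one] at h1
  change coefMap A π (l (g' m).val) = (h₀ m).val
  rw [hw, Bialgebra.TensorProduct.lid_tmul, one_smul]
  change (1 : T₀) ⊗ₜ[T] w = c.symm (h₀ m).val at h1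
  have h2 := congrArg c h1
  rw [BialgEquiv.apply_symm_apply, pushPull] at h2
  exact h2

/-- A frame modulo `J` gives a homomorphism to a diagonalisable group, surjective, with kernel vanishing near
the unit section. -/
theorem exists_formal_subgroup [IsNoetherianRing E] [IsNoetherianRing (E ⊗[R] A)] [IsAdicComplete J E]
    (hflat : ∀ n : ℕ, Module.Flat (E ⧸ J ^ (n + 1)) ((E ⧸ J ^ (n + 1)) ⊗[R] A))
    {h₀ : M →* GroupLike (E ⧸ J) ((E ⧸ J) ⊗[R] A)} (hh₀ : IsFrame h₀) :
    ∃ (f : E ⊗[R] A →ₐc[E] MonoidAlgebra E M) (e : E ⊗[R] A), Function.Surjective f ∧ IsIdempotentElem e ∧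
      f e = 0 ∧ (∀ k, f k = 0 → e * k = k) ∧ e ∈ J.map (algebraMap E (E ⊗[R] A)) ∧
      ∀ n : ℕ, ∃ (g : M →* GroupLike (E ⧸ J ^ (n + 1)) ((E ⧸ J ^ (n + 1)) ⊗[R] A)) (hg : IsFrame g),
        ∀ y, mapRingHom M (Ideal.Quotient.mk (J ^ (n + 1))) (f y) =
          hg.equiv.symm (coefMap A (Ideal.Quotient.mkₐ R (J ^ (n + 1))) y) := by
  let e₀ : (E ⧸ J) →ₐ[R] E ⧸ J ^ (0 + 1) := Ideal.Quotient.liftₐ J (Ideal.Quotient.mkₐ R (J ^ (0 + 1))) fun a ha =>
    Ideal.Quotient.eq_zero_iff_mem.mpr (by rwa [zero_add, pow_one])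
  have hk₀ := hh₀.map e₀
  have hlev : ∀ n : ℕ, ∃ g : M →* GroupLike (E ⧸ J ^ (n + 1)) ((E ⧸ J ^ (n + 1)) ⊗[R] A), IsFrame g ∧
      ∀ x, glMap A (levelMap J (Nat.zero_le n)) (g x) = glMap A e₀ (h₀ x) := by
    intro n
    haveI := hflat n
    have hk : IsNilpotent (RingHom.ker (levelMap (R := R) J (Nat.zero_le n) : E ⧸ J ^ (n + 1) →+* E ⧸ J ^ (0 + 1))) := by
      refine ⟨n + 1, bot_unique ?_⟩
      have hle : RingHom.ker (levelMap (R := R) J (Nat.zero_le n) : E ⧸ J ^ (n + 1) →+* E ⧸ J ^ (0 + 1)) ≤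
          J.map (Ideal.Quotient.mk (J ^ (n + 1))) := by
        intro a ha
        obtain ⟨x, rfl⟩ := Ideal.Quotient.mk_surjective a
        have hx : x ∈ J ^ (0 + 1) := Ideal.Quotient.eq_zero_iff_mem.mp (RingHom.mem_ker.mp ha)
        exact Ideal.mem_map_of_mem _ (by rwa [zero_add, pow_one] at hx)
      refine (Ideal.pow_right_mono hle _).trans ?_
      rw [← Ideal.map_pow, Ideal.map_quotient_self]
    exact exists_frame_of_flat_over (levelMap J (Nat.zero_le n)) (levelMap_surjective J _) hk hk₀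
  choose g hg hgh using hlev
  have h0 : ∀ n x, glMap A (levelMap J (Nat.zero_le n)) (g n x) = g 0 x := fun n x => by
    rw [hgh n x, ← hgh 0 x, show levelMap (R := R) J (Nat.zero_le 0) = AlgHom.id R _ from AlgHom.ext fun a => by
      obtain ⟨z, rfl⟩ := Ideal.Quotient.mk_surjective a
      rfl, glMap_id]
  obtain ⟨f, hf⟩ := exists_bialgHom_of_levels J g hg h0
  have hJ : J ≤ (⊥ : Ideal E).jacobson := IsAdicComplete.le_jacobson_bot J
  have hJ1 : J ^ (0 + 1) = J := by rw [zero_add, pow_one]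
  have hsurj : Function.Surjective f := by
    refine surjective_of_mod f (J := J ^ (0 + 1)) (by rwa [hJ1]) fun z => ?_
    obtain ⟨y, hy⟩ : ∃ y, coefMap A (Ideal.Quotient.mkₐ R (J ^ (0 + 1))) y =
        (hg 0).equiv (mapRingHom M (Ideal.Quotient.mk (J ^ (0 + 1))) z) :=
      TensorProduct.map_surjective Ideal.Quotient.mk_surjective Function.surjective_id _
    exact ⟨y, by rw [hf 0, hy, BialgEquiv.symm_apply_apply]⟩
  obtain ⟨σ, hσ⟩ := Module.projective_lifting_property (f : E ⊗[R] A →ₐ[E] MonoidAlgebra E M).toLinearMap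
    LinearMap.id hsurj
  have hJS : ∀ k, f k = 0 → k ∈ J.map (algebraMap E (E ⊗[R] A)) := by
    intro k hk
    have h1 : coefMap A (Ideal.Quotient.mkₐ R (J ^ (0 + 1))) k = 0 := by
      apply (hg 0).equiv.symm.toEquiv.injective
      change (hg 0).equiv.symm _ = (hg 0).equiv.symm _
      rw [← hf 0, hk, map_zero, map_zero]
    have h2 := Algebra.TensorProduct.rTensor_ker (R := R) (C := A) (Ideal.Quotient.mkₐ R (J ^ (0 + 1)))
      Ideal.Quotient.mk_surjective
    have h3 : k ∈ RingHom.ker (Algebra.TensorProduct.map (Ideal.Quotient.mkₐ R (J ^ (0 + 1))) (AlgHom.id R A)) := h1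
    rw [h2, show RingHom.ker (Ideal.Quotient.mkₐ R (J ^ (0 + 1))) = J ^ (0 + 1) from Ideal.mk_ker, hJ1] at h3
    exact h3
  have hK : RingHom.ker (f : E ⊗[R] A →+* MonoidAlgebra E M) ≤
      (J.map (algebraMap E (E ⊗[R] A))) • RingHom.ker (f : E ⊗[R] A →+* MonoidAlgebra E M) := by
    intro k hk
    have hk' : f k = 0 := hk
    let φ : E ⊗[R] A →ₗ[E] E ⊗[R] A :=
      LinearMap.id - σ.comp (f : E ⊗[R] A →ₐ[E] MonoidAlgebra E M).toLinearMap
    have hφ : ∀ s, f (φ s) = 0 := fun s => by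
      change f (s - σ (f s)) = 0
      rw [map_sub]
      exact sub_eq_zero.mpr (LinearMap.congr_fun hσ (f s)).symm
    have hkφ : φ k = k := by
      change k - σ (f k) = k
      rw [hk', map_zero, sub_zero]
    have hmem : k ∈ J • (⊤ : Submodule E (E ⊗[R] A)) := by
      rw [Ideal.smul_top_eq_map]
      exact hJS k hk'
    rw [← hkφ]
    refine Submodule.smul_induction_on (p := fun s => φ s ∈
      (J.map (algebraMap E (E ⊗[R] A))) • RingHom.ker (f : E ⊗[R] A →+* MonoidAlgebra E M)) hmem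
      (fun j hj s _ => ?_) fun x y hx hy => ?_
    · rw [map_smul, ← algebraMap_smul (E ⊗[R] A) j]
      have hjm : algebraMap E (E ⊗[R] A) j ∈ J.map (algebraMap E (E ⊗[R] A)) := Ideal.mem_map_of_mem _ hj
      have hsm : φ s ∈ RingHom.ker (f : E ⊗[R] A →+* MonoidAlgebra E M) := hφ s
      exact Submodule.smul_mem_smul hjm hsm
    · rw [map_add]
      exact add_mem hx hy
  obtain ⟨r, hr, hkill⟩ := exists_kill_ker f hJ hK
  obtain ⟨e, he, hfe, hek⟩ := exists_idempotent_ker f hsurj r hr hkill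
  exact ⟨f, e, hsurj, he, hfe, hek, hJS e hfe, fun n => ⟨g n, hg n, hf n⟩⟩

end GrothLib.MultLocal
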