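import Mathlib.RingTheory.Flat.Localization
import Mathlib.RingTheory.Flat.Stability
import Mathlib.RingTheory.Localization.LocalizationLocalization
import Mathlib.RingTheory.TensorProduct.Maps
import Mathlib.RingTheory.Jacobson.Ideal
import Mathlib.RingTheory.Nilpotent.Basic
import Mathlib.RingTheory.Nilpotent.Lemmas

/-!
Flatness at the points over a closed subset gives flatness on its thickenings.
-/

universe u

set_option linter.style.haveILetI false
set_option maxSynthPendingDepth 3

open TensorProduct

namespace GrothLib.MultLocal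

variable {A : Type u} [CommRing A] {C : Type u} [CommRing C] [Algebra A C]

/-- The submonoid `1 + IC`. -/
def oneAddSub (I : Ideal C) : Submonoid C where
  carrier := {x | x - 1 ∈ I}
  one_mem' := by simp
  mul_mem' {a b} ha hb := by
    have h : a * b - 1 = (a - 1) * b + (b - 1) := by ring
    change a * b - 1 ∈ I
    rw [h]
    exact add_mem (Ideal.mul_mem_right _ _ ha) hb

/-- An algebra in which `I` becomes nil sees only the flat points. -/
theorem flat_tensor_of_flat_at (I : Ideal A)
    (hfl : ∀ (q : Ideal C) [q.IsPrime], Ideal.map (algebraMap A C) I ≤ q → Module.Flat A (Localization.AtPrime q))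
    (Q : Type u) [CommRing Q] [Algebra A Q] (hQ : ∀ a ∈ I, IsNilpotent (algebraMap A Q a)) :
    Module.Flat Q (Q ⊗[A] C) := by
  let S := oneAddSub (I.map (algebraMap A C))
  let L := Localization S
  haveI : Module.Flat A L := by
    refine Module.flat_of_isLocalized_maximal (R := A) L L (fun P [P.IsMaximal] => Localization.AtPrime P)
      (fun P [P.IsMaximal] => (Algebra.linearMap L (Localization.AtPrime P))) fun P hP => ?_
    let q := P.comap (algebraMap C L)
    haveI : q.IsPrime := inferInstance
    have hq : I.map (algebraMap A C) ≤ q := by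
      intro x hx
      by_contra hxq
      have h2 : Ideal.span {algebraMap C L x} ⊔ P = ⊤ := hP.1.2 _ (lt_of_le_of_ne le_sup_right fun h =>
        hxq (Ideal.mem_comap.mpr (h ▸ Ideal.mem_sup_left (Ideal.mem_span_singleton_self _))))
      obtain ⟨u, hu, v, hv, huv⟩ := Submodule.mem_sup.mp ((Ideal.eq_top_iff_one _).mp h2)
      obtain ⟨w, rfl⟩ := Ideal.mem_span_singleton'.mp hu
      obtain ⟨⟨c, s⟩, hcs⟩ := IsLocalization.surj S w
      have hv' : algebraMap C L ((s : C) - c * x) = algebraMap C L s * v := by
        rw [map_sub, map_mul, ← hcs]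
        rw [show algebraMap C L (s : C) * v = algebraMap C L (s : C) * (w * algebraMap C L x + v) -
          w * algebraMap C L (s : C) * algebraMap C L x by ring, huv, _root_.mul_one]
      have hmem : (s : C) - c * x ∈ S := by
        change (s : C) - c * x - 1 ∈ I.map (algebraMap A C)
        rw [show (s : C) - c * x - 1 = ((s : C) - 1) - c * x by ring]
        exact sub_mem s.2 (Ideal.mul_mem_left _ _ hx)
      refine hP.ne_top (P.eq_top_of_isUnit_mem (P.mul_mem_left (algebraMap C L (s : C)) hv) ?_)
      exact hv' ▸ IsLocalization.map_units L (⟨(s : C) - c * x, hmem⟩ : S)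
    haveI : IsLocalization.AtPrime (Localization.AtPrime P) q :=
      IsLocalization.isLocalization_isLocalization_atPrime_isLocalization S (Localization.AtPrime P) P
    haveI := hfl q hq
    exact Module.Flat.of_linearEquiv
      ((IsLocalization.algEquiv q.primeCompl (Localization.AtPrime q) (Localization.AtPrime P)).restrictScalars A).toLinearEquiv.symm
  have hnil : (I.map (algebraMap A C)).map (Algebra.TensorProduct.includeRight : C →ₐ[A] Q ⊗[A] C).toRingHom ≤
      nilradical (Q ⊗[A] C) := by
    rw [Ideal.map_map, AlgHom.toRingHom_eq_coe, AlgHom.comp_algebraMap, Ideal.map_le_iff_le_comap]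
    intro a ha
    rw [Ideal.mem_comap, mem_nilradical, IsScalarTower.algebraMap_apply A Q (Q ⊗[A] C)]
    exact (hQ a ha).map _
  have hunit : ∀ s : S, IsUnit ((Algebra.TensorProduct.includeRight : C →ₐ[A] Q ⊗[A] C) (s : C)) := by
    intro s
    have h1 : IsNilpotent ((Algebra.TensorProduct.includeRight : C →ₐ[A] Q ⊗[A] C) ((s : C) - 1)) :=
      mem_nilradical.mp (hnil (Ideal.mem_map_of_mem _ s.2))
    rw [map_sub, map_one] at h1
    have := h1.neg.isUnit_one_sub
    rwa [sub_neg_eq_add, add_sub_cancel] at this
  let ψ : L →ₐ[A] Q ⊗[A] C := IsLocalization.liftAlgHom (M := S) hunit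
  let Φ : Q ⊗[A] C →ₐ[Q] Q ⊗[A] L := Algebra.TensorProduct.map (AlgHom.id Q Q) (IsScalarTower.toAlgHom A C L)
  let Ψ : Q ⊗[A] L →ₐ[Q] Q ⊗[A] C := Algebra.TensorProduct.lift (Algebra.ofId Q _) ψ fun _ _ => Commute.all _ _
  have h : ∀ z, Ψ (Φ z) = z := by
    intro z
    induction z using TensorProduct.induction_on with
    | zero => simp
    | add u v hu hv => simp only [map_add, hu, hv]
    | tmul t c =>
      rw [Algebra.TensorProduct.map_tmul, Algebra.TensorProduct.lift_tmul]
      change algebraMap Q (Q ⊗[A] C) t * IsLocalization.lift hunit (algebraMap C L c) = _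
      rw [IsLocalization.lift_eq]
      change (t ⊗ₜ[A] (1 : C)) * ((1 : Q) ⊗ₜ[A] c) = _
      rw [Algebra.TensorProduct.tmul_mul_tmul, _root_.mul_one, _root_.one_mul]
  haveI : Module.Flat Q (Q ⊗[A] L) := Module.Flat.baseChange (R := A) (S := Q) (M := L)
  exact Module.Flat.of_retract Φ.toLinearMap Ψ.toLinearMap (LinearMap.ext h)

end GrothLib.MultLocal
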