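import Groth.Agent.Lib.MultLocal.ClopenBC
import Groth.Agent.Lib.MultLocal.FlatClosedStage
import Groth.Agent.Lib.MultLocal.HopfModelExists
import Groth.Agent.Lib.AdicExtra.Completion
import Groth.Agent.Lib.Hopf.Descent
import Groth.Agent.S5285
import Groth.Agent.S2969
import Mathlib.RingTheory.Flat.FaithfullyFlat.Algebra
import Mathlib.RingTheory.Localization.AtPrime.Basic
import Mathlib.RingTheory.Etale.Field

/-!
Over a local ring: an open subgroup of multiplicative type after a faithfully flat local extension.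
-/

universe u

set_option linter.style.haveILetI false
set_option maxSynthPendingDepth 3

open TensorProduct

namespace GrothLib.MultLocal

theorem flat_atPrime_congr {R B B' : Type u} [CommRing R] [CommRing B] [CommRing B'] [Algebra R B] [Algebra R B']
    (ε : B ≃ₐ[R] B') (q : Ideal B') [q.IsPrime]
    (h : Module.Flat R (Localization.AtPrime (q.comap (ε : B →+* B')))) : Module.Flat R (Localization.AtPrime q) := by
  let P := q.comap (ε : B →+* B')
  have hmap : Submonoid.map (ε : B →+* B') P.primeCompl = q.primeCompl := by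
    ext x
    refine ⟨?_, fun hx => ⟨ε.symm x, ?_, ε.apply_symm_apply x⟩⟩
    · rintro ⟨y, hy, rfl⟩
      exact hy
    · intro h'
      exact hx (by simpa [P] using h')
  let e := IsLocalization.algEquivOfAlgEquiv (A := R) (Localization.AtPrime P) (Localization.AtPrime q) ε hmap
  exact Module.Flat.of_linearEquiv e.toLinearEquiv.symm

/-- A chart of the closed fibre over a field extension. -/
theorem exists_field_chart {k : Type u} [Field k] {C : Type u} [CommRing C] [HopfAlgebra k C]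
    (h : SGA3b.IsMultType k C) :
    ∃ (L : Type u) (_ : CommRing L) (_ : Algebra k L) (_ : Nontrivial L) (M : Type u) (_ : CommGroup M),
      Nonempty (L ⊗[k] C ≃ₐc[L] MonoidAlgebra L M) := by
  obtain ⟨L, _, _, _, M, _, -, -, he⟩ := GrothLib.Hopf.exists_local_chart h
  exact ⟨L, inferInstance, inferInstance, inferInstance, M, inferInstance, he⟩

theorem exists_clopen_of_local (R : Type u) [CommRing R] [IsLocalRing R] (C : Type u) [CommRing C] [HopfAlgebra R C]
    [Algebra.FinitePresentation R C]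
    (hfl : ∀ (q : Ideal C) [q.IsPrime], Ideal.map (algebraMap R C) (IsLocalRing.maximalIdeal R) ≤ q →
      Module.Flat R (Localization.AtPrime q))
    (hs : SGA3b.IsMultType (IsLocalRing.ResidueField R) (IsLocalRing.ResidueField R ⊗[R] C)) :
    ∃ (R' : Type u) (_ : CommRing R') (_ : IsLocalRing R') (_ : Algebra R R') (_ : Module.FaithfullyFlat R R')
      (e : R' ⊗[R] C) (E : Type u) (_ : CommRing E) (_ : Algebra R' E) (_ : Module.FaithfullyFlat R' E)
      (M : Type u) (_ : CommGroup M) (p : E ⊗[R'] (R' ⊗[R] C) →ₐc[E] MonoidAlgebra E M),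
      IsIdempotentElem e ∧ e ∈ (IsLocalRing.maximalIdeal R').map (algebraMap R' (R' ⊗[R] C)) ∧ Function.Surjective p ∧
      ∀ z, p z = 0 ↔ z ∈ Ideal.span {(1 : E) ⊗ₜ[R'] e} := by
  classical
  obtain ⟨K, _, _, _, C₁, _, _, hfp₁, ⟨ε₁⟩⟩ := Model.exists_hopfModel R C
  haveI := hfp₁
  haveI : IsNoetherianRing K := Algebra.FiniteType.isNoetherianRing ℤ K
  -- the noetherian stage
  have hfl₁ : ∀ (q : Ideal (R ⊗[K] C₁)) [q.IsPrime],
      Ideal.map (algebraMap R (R ⊗[K] C₁)) (IsLocalRing.maximalIdeal R) ≤ q → Module.Flat R (Localization.AtPrime q) := by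
    intro q _ hq
    let σ : C ≃ₐ[R] R ⊗[K] C₁ := ε₁.toAlgEquiv.symm
    refine flat_atPrime_congr σ q (hfl _ ?_)
    rw [Ideal.map_le_iff_le_comap, Ideal.comap_comap]
    intro x hx
    change σ (algebraMap R C x) ∈ q
    rw [AlgEquiv.commutes]
    exact hq (Ideal.mem_map_of_mem _ hx)
  obtain ⟨S, _, _, _, _, _, _, hloc, hflS⟩ := exists_flat_closed_stage hfl₁
  haveI := hloc
  -- completion
  let mS := IsLocalRing.maximalIdeal S
  let A₀ := AdicCompletion mS S
  haveI : IsNoetherianRing A₀ := GrothLib.AdicExtra.isNoetherianRing_adicCompletion mS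
  let m₀ := IsLocalRing.maximalIdeal A₀
  haveI : IsAdicComplete m₀ A₀ := by
    rw [show m₀ = mS.map (algebraMap S A₀) from AdicCompletion.maximalIdeal_eq_map]
    exact AdicCompletion.isAdicComplete_self mS mS.fg_of_isNoetherianRing
  haveI hlocA : IsLocalHom (algebraMap S A₀) :=
    AdicCompletion.algebraMap_isLocalHom_of_fg mS.fg_of_isNoetherianRing
  haveI : IsScalarTower K S A₀ := inferInstance
  let C₀ := A₀ ⊗[K] C₁
  have hfl₀ : ∀ (q : Ideal C₀) [q.IsPrime], Ideal.map (algebraMap A₀ C₀) m₀ ≤ q →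
      Module.Flat A₀ (Localization.AtPrime q) := by
    intro q _ hq
    rw [← flat_localizedModule_iff]
    refine flat_stageMap (IsScalarTower.toAlgHom K S A₀) q ?_
    rw [flat_localizedModule_iff]
    refine hflS _ ?_
    rw [Ideal.map_le_iff_le_comap]
    intro x hx
    change algebraMap S A₀ x ⊗ₜ[K] (1 : C₁) ∈ q
    exact hq (Ideal.mem_map_of_mem _ ((IsLocalRing.mem_maximalIdeal _).mpr fun hu =>
      (IsLocalRing.mem_maximalIdeal _).mp hx (isUnit_of_map_unit (algebraMap S A₀) x hu)))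
  -- the closed fibre
  let k := IsLocalRing.ResidueField R
  let kS := IsLocalRing.ResidueField S
  let k₀ := A₀ ⧸ m₀
  letI : Field k₀ := Ideal.Quotient.field m₀
  obtain ⟨L, _, _, _, M₀, _, ⟨eL⟩⟩ := exists_field_chart hs
  letI : Algebra R L := Algebra.compHom L (algebraMap R k)
  haveI : IsScalarTower R k L := IsScalarTower.of_algebraMap_eq fun _ => rfl
  letI : Algebra K L := Algebra.compHom L (algebraMap K R)
  haveI : IsScalarTower K R L := IsScalarTower.of_algebraMap_eq fun _ => rfl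
  obtain ⟨g₁, hg₁⟩ := exists_frame_of_equiv eL
  have hgL := ((hg₁.push (GrothLib.Hopf.cancelBaseChange R k L C)).push (congrBase L ε₁.symm)).push
    (GrothLib.Hopf.cancelBaseChange K R L C₁)
  letI : Algebra kS L := ((algebraMap k L).comp (IsLocalRing.ResidueField.map (algebraMap S R))).toAlgebra
  letI : Algebra kS k₀ :=
    (Ideal.Quotient.lift mS ((Ideal.Quotient.mk m₀).comp (algebraMap S A₀)) fun a ha => by
      rw [RingHom.comp_apply, Ideal.Quotient.eq_zero_iff_mem]
      exact (IsLocalRing.mem_maximalIdeal _).mpr fun hu =>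
        (IsLocalRing.mem_maximalIdeal _).mp ha (isUnit_of_map_unit (algebraMap S A₀) a hu)).toAlgebra
  let W := k₀ ⊗[kS] L
  let ι : L →ₐ[K] W :=
    { ((Algebra.TensorProduct.includeRight : L →ₐ[kS] W) : L →+* W) with
      commutes' := fun r => by
        change (Algebra.TensorProduct.includeRight : L →ₐ[kS] W) (algebraMap K L r) = algebraMap K W r
        rw [show algebraMap K L r = algebraMap kS L (IsLocalRing.residue S (algebraMap K S r)) from
          congrArg (fun x => algebraMap k L (IsLocalRing.residue R x)) (IsScalarTower.algebraMap_apply K S R r),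
          AlgHom.commutes]
        change (Ideal.Quotient.mk m₀ (algebraMap S A₀ (algebraMap K S r))) ⊗ₜ[kS] (1 : L) =
          algebraMap K k₀ r ⊗ₜ[kS] (1 : L)
        rw [← IsScalarTower.algebraMap_apply K S A₀]
        rfl }
  have hgW := (hgL.map ι).push (GrothLib.Hopf.cancelBaseChange K k₀ W C₁).symm
  have hgW' := hgW.push (congrBase W (GrothLib.Hopf.cancelBaseChange K A₀ k₀ C₁).symm)
  haveI : Module.FaithfullyFlat k₀ W := inferInstance
  have hm₀ : SGA3b.IsMultType k₀ (k₀ ⊗[A₀] C₀) := by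
    refine ⟨{1}, Ideal.span_singleton_one, fun f _ => ?_⟩
    let Sf := Localization.Away f
    let T := Sf ⊗[k₀] W
    exact ⟨T, inferInstance, inferInstance, inferInstance, M₀, inferInstance,
      ⟨((hgW'.map (Algebra.TensorProduct.includeRight : W →ₐ[k₀] T)).push
        (GrothLib.Hopf.cancelBaseChange k₀ Sf T (k₀ ⊗[A₀] C₀)).symm).equiv.symm⟩⟩
  have hiso : SGA3b.IsIsotrivial k₀ (k₀ ⊗[A₀] C₀) := by
    obtain ⟨k', _, _, hfin, hsep, N, _, -, hd⟩ :=
      Groth.Agent.S2969.result k₀ (k₀ ⊗[A₀] C₀) inferInstance hm₀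
    haveI := hfin
    haveI := hsep
    haveI : Algebra.FormallyEtale k₀ k' := Algebra.FormallyEtale.of_isSeparable k₀ k'
    haveI : Algebra.FinitePresentation k₀ k' := Algebra.FinitePresentation.of_finiteType.mp inferInstance
    haveI : Algebra.Etale k₀ k' := ⟨inferInstance, inferInstance⟩
    exact ⟨k', inferInstance, inferInstance, inferInstance, inferInstance, inferInstance, N, inferInstance, hd⟩
  obtain ⟨e₀, he₀, he₀m, hK, hG⟩ := Groth.Agent.S5285.result A₀ m₀ C₀ inferInstance hfl₀ hiso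
  obtain ⟨E, _, _, -, -, hEff, M, _, ⟨ηE⟩⟩ := hG
  haveI := hEff
  -- the faithfully flat local extension
  let W' := R ⊗[S] A₀
  let k' := k ⊗[kS] k₀
  haveI : Nontrivial k' := inferInstance
  obtain ⟨P, hP⟩ := Ideal.exists_maximal k'
  haveI := hP.isPrime
  let χ : W' →+* k' := (Algebra.TensorProduct.lift
    (A := R) (B := A₀) (R := S) (S := S)
    ({ (Algebra.TensorProduct.includeLeftRingHom : k →+* k').comp (IsLocalRing.residue R) with
        commutes' := fun x => by
          change (IsLocalRing.residue R (algebraMap S R x)) ⊗ₜ[kS] (1 : k₀) = algebraMap S k' x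
          rfl } : R →ₐ[S] k')
    ({ ((Algebra.TensorProduct.includeRight : k₀ →ₐ[kS] k') : k₀ →+* k').comp (Ideal.Quotient.mk m₀) with
        commutes' := fun x => by
          change (Algebra.TensorProduct.includeRight : k₀ →ₐ[kS] k') (algebraMap kS k₀ (IsLocalRing.residue S x)) =
            algebraMap S k' x
          rw [AlgHom.commutes]
          rfl } : A₀ →ₐ[S] k')
    fun _ _ => Commute.all _ _).toRingHom
  let P' : Ideal W' := P.comap χ
  haveI : P'.IsPrime := Ideal.IsPrime.comap χ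
  let R' := Localization.AtPrime P'
  letI : Algebra A₀ W' := Algebra.TensorProduct.rightAlgebra
  haveI : Module.Flat R R' := Module.Flat.trans R W' R'
  have hPR : ∀ x ∈ IsLocalRing.maximalIdeal R, algebraMap R W' x ∈ P' := by
    intro x hx
    change χ (x ⊗ₜ[S] (1 : A₀)) ∈ P
    change (Algebra.TensorProduct.includeLeftRingHom : k →+* k') (IsLocalRing.residue R x) * _ ∈ P
    rw [show IsLocalRing.residue R x = 0 from Ideal.Quotient.eq_zero_iff_mem.mpr hx, map_zero, zero_mul]
    exact P.zero_mem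
  haveI : IsLocalHom (algebraMap R R') := ⟨fun x hx => by
    by_contra hnu
    rw [IsScalarTower.algebraMap_apply R W' R'] at hx
    exact (IsLocalization.AtPrime.isUnit_to_map_iff R' P' _).mp hx (hPR x ((IsLocalRing.mem_maximalIdeal _).mpr hnu))⟩
  haveI : Module.FaithfullyFlat R R' := Module.FaithfullyFlat.of_flat_of_isLocalHom
  have hP0 : ∀ x ∈ m₀, algebraMap A₀ W' x ∈ P' := by
    intro x hx
    change χ ((1 : R) ⊗ₜ[S] x) ∈ P
    change _ * (Algebra.TensorProduct.includeRight : k₀ →ₐ[kS] k') (Ideal.Quotient.mk m₀ x) ∈ P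
    rw [Ideal.Quotient.eq_zero_iff_mem.mpr hx, map_zero, mul_zero]
    exact P.zero_mem
  haveI : IsScalarTower K A₀ W' := IsScalarTower.of_algebraMap_eq fun r => by
    change algebraMap K R r ⊗ₜ[S] (1 : A₀) = (1 : R) ⊗ₜ[S] algebraMap K A₀ r
    rw [IsScalarTower.algebraMap_apply K S A₀, Algebra.algebraMap_eq_smul_one (A := A₀), ← smul_tmul,
      ← Algebra.algebraMap_eq_smul_one, ← IsScalarTower.algebraMap_apply]
  haveI : IsScalarTower K A₀ R' := inferInstance
  haveI : IsScalarTower K R R' := inferInstance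
  -- transport
  let θ : R' ⊗[A₀] C₀ ≃ₐc[R'] R' ⊗[R] C :=
    (GrothLib.Hopf.cancelBaseChange K A₀ R' C₁).trans
      ((GrothLib.Hopf.cancelBaseChange K R R' C₁).symm.trans (congrBase R' ε₁))
  let e : R' ⊗[R] C := θ ((1 : R') ⊗ₜ[A₀] e₀)
  have he' : IsIdempotentElem ((1 : R') ⊗ₜ[A₀] e₀) := by
    change _ * _ = _
    rw [Algebra.TensorProduct.tmul_mul_tmul, _root_.mul_one, he₀.eq]
  have hem : e ∈ (IsLocalRing.maximalIdeal R').map (algebraMap R' (R' ⊗[R] C)) := by
    let j : C₀ →+* R' ⊗[R] C := (θ.toAlgEquiv : R' ⊗[A₀] C₀ →+* R' ⊗[R] C).comp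
      (Algebra.TensorProduct.includeRight : C₀ →ₐ[A₀] R' ⊗[A₀] C₀).toRingHom
    have h1 : e ∈ (m₀.map (algebraMap A₀ C₀)).map j := Ideal.mem_map_of_mem j he₀m
    have h2 : j.comp (algebraMap A₀ C₀) = (algebraMap R' (R' ⊗[R] C)).comp (algebraMap A₀ R') :=
      RingHom.ext fun x => by
        change θ ((Algebra.TensorProduct.includeRight : C₀ →ₐ[A₀] R' ⊗[A₀] C₀) (algebraMap A₀ C₀ x)) = _
        rw [AlgHom.commutes, IsScalarTower.algebraMap_apply A₀ R' (R' ⊗[A₀] C₀)]
        exact θ.toAlgEquiv.commutes _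
    rw [Ideal.map_map, h2, ← Ideal.map_map] at h1
    refine Ideal.map_mono ?_ h1
    rw [Ideal.map_le_iff_le_comap]
    intro x hx
    change algebraMap W' R' (algebraMap A₀ W' x) ∈ IsLocalRing.maximalIdeal R'
    rw [IsLocalization.AtPrime.to_map_mem_maximal_iff R' P']
    exact hP0 x hx
  obtain ⟨g, hg⟩ := exists_frame_of_equiv ηE
  let π := Bialgebra.Quotient.mkBialgHom (R := A₀) (Ideal.span {e₀})
  let p₀ : E ⊗[A₀] C₀ →ₐc[E] MonoidAlgebra E M :=
    (hg.equiv.symm : E ⊗[A₀] (C₀ ⧸ Ideal.span {e₀}) →ₐc[E] MonoidAlgebra E M).comp (projT π E)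
  have hp₀ : Function.Surjective p₀ := by
    refine (EquivLike.surjective hg.equiv.symm).comp fun y => ?_
    induction y using TensorProduct.induction_on with
    | zero => exact ⟨0, map_zero _⟩
    | add u v hu hv =>
      obtain ⟨a, rfl⟩ := hu
      obtain ⟨b, rfl⟩ := hv
      exact ⟨a + b, map_add _ _ _⟩
    | tmul t c =>
      obtain ⟨c, rfl⟩ := Ideal.Quotient.mk_surjective c
      exact ⟨t ⊗ₜ c, rfl⟩
  have hk₀ : ∀ z, p₀ z = 0 ↔ z ∈ Ideal.span {(1 : E) ⊗ₜ[A₀] e₀} := by
    intro z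
    have h1 : p₀ z = 0 ↔ projT π E z = 0 := map_eq_zero_iff _ (EquivLike.injective hg.equiv.symm)
    have h2 := Algebra.TensorProduct.lTensor_ker (A := E) (Ideal.Quotient.mkₐ A₀ (Ideal.span {e₀}))
      (Ideal.Quotient.mkₐ_surjective A₀ _)
    rw [h1]
    change Algebra.TensorProduct.map (AlgHom.id A₀ E) (Ideal.Quotient.mkₐ A₀ (Ideal.span {e₀})) z = 0 ↔ _
    rw [← RingHom.mem_ker, h2, show RingHom.ker (Ideal.Quotient.mkₐ A₀ (Ideal.span {e₀})) = Ideal.span {e₀} from
      Ideal.mk_ker, Ideal.map_span, Set.image_singleton]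
    rfl
  let E' := R' ⊗[A₀] E
  obtain ⟨p₁, hp₁, hk₁, -⟩ :=
    exists_clopen_bc he₀ (Algebra.TensorProduct.includeRight : E →ₐ[A₀] E') p₀ hp₀ hk₀
  let τ : E' ⊗[R'] (R' ⊗[R] C) ≃ₐc[E'] E' ⊗[A₀] C₀ :=
    (congrBase E' θ.symm).trans (GrothLib.Hopf.cancelBaseChange A₀ R' E' C₀)
  have hτ : τ ((1 : E') ⊗ₜ[R'] e) = (1 : E') ⊗ₜ[A₀] e₀ := by
    change GrothLib.Hopf.cancelBaseChange A₀ R' E' C₀ (congrBase E' θ.symm ((1 : E') ⊗ₜ[R'] e)) = _
    rw [congrBase_tmul, show θ.symm e = (1 : R') ⊗ₜ[A₀] e₀ from θ.symm_apply_apply _,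
      GrothLib.Hopf.cancelBaseChange_tmul, one_smul]
  refine ⟨R', inferInstance, inferInstance, inferInstance, inferInstance, e, E', inferInstance, inferInstance,
    inferInstance, M, inferInstance, p₁.comp (τ : E' ⊗[R'] (R' ⊗[R] C) →ₐc[E'] E' ⊗[A₀] C₀), he'.map θ, hem,
    hp₁.comp (EquivLike.surjective τ), fun z => ?_⟩
  change p₁ (τ z) = 0 ↔ _
  rw [hk₁, Ideal.mem_span_singleton, Ideal.mem_span_singleton, ← hτ]
  exact map_dvd_iff τ

end GrothLib.MultLocal
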