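import Groth.Agent.Lib.MultLocal.SpreadFP
import Groth.Agent.Lib.OT.Rank
import Groth.Agent.S5298
import Groth.Agent.S5299
import Mathlib.RingTheory.Flat.Stability

/-!
Local criteria for multiplicative type, base changed to the local rings.
-/

universe u

set_option linter.style.haveILetI false

open TensorProduct MonoidAlgebra

namespace GrothLib.MultLocal

variable {R : Type u} [CommRing R]

theorem isMultType_congr {A A' : Type u} [CommRing A] [HopfAlgebra R A] [CommRing A'] [HopfAlgebra R A']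
    (e : A ≃ₐc[R] A') (h : SGA3b.IsMultType R A) : SGA3b.IsMultType R A' := by
  obtain ⟨s, hs, hloc⟩ := h
  refine ⟨s, hs, fun f hf => ?_⟩
  obtain ⟨R', _, _, hff, M, _, ⟨d⟩⟩ := hloc f hf
  exact ⟨R', inferInstance, inferInstance, hff, M, inferInstance,
    ⟨(GrothLib.Hopf.congrBaseChange (R := Localization.Away f) (T := R')
      (GrothLib.Hopf.congrBaseChange (R := R) (T := Localization.Away f) e)).symm.trans d⟩⟩

variable {C : Type u} [CommRing C] [HopfAlgebra R C]

theorem finite_torsion_baseChange (T : Type u) [CommRing T] [Algebra R T] (n : ℕ)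
    [Module.Finite R (C ⧸ SGA3b.torsionIdeal R C n)] :
    Module.Finite T ((T ⊗[R] C) ⧸ SGA3b.torsionIdeal T (T ⊗[R] C) n) := by
  let J' := SGA3b.torsionIdeal T (T ⊗[R] C) n
  have hJ : SGA3b.torsionIdeal R C n ≤
      RingHom.ker ((Ideal.Quotient.mkₐ R J').comp (Algebra.TensorProduct.includeRight : C →ₐ[R] T ⊗[R] C)) := by
    refine Ideal.map_le_iff_le_comap.mpr fun a ha => ?_
    change Ideal.Quotient.mk J' ((1 : T) ⊗ₜ[R] SGA3b.powConv R C n a) = 0
    rw [Ideal.Quotient.eq_zero_iff_mem, ← GrothLib.OT.powConv_baseChange]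
    refine Ideal.mem_map_of_mem _ (RingHom.mem_ker.mpr ?_)
    change Coalgebra.counit (R := T) ((1 : T) ⊗ₜ[R] a) = 0
    rw [TensorProduct.counit_tmul, show Coalgebra.counit (R := R) a = 0 from (RingHom.mem_ker.mp ha :), zero_smul]
  let ν : C ⧸ SGA3b.torsionIdeal R C n →ₐ[R] (T ⊗[R] C) ⧸ J' :=
    Ideal.Quotient.liftₐ _ _ fun a ha => RingHom.mem_ker.mp (hJ ha)
  let Φ : T ⊗[R] (C ⧸ SGA3b.torsionIdeal R C n) →ₐ[T] (T ⊗[R] C) ⧸ J' :=
    Algebra.TensorProduct.lift (Algebra.ofId T _) ν fun _ _ => Commute.all _ _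
  refine Module.Finite.of_surjective Φ.toLinearMap fun y => ?_
  obtain ⟨y, rfl⟩ := Ideal.Quotient.mk_surjective y
  induction y using TensorProduct.induction_on with
  | zero => exact ⟨0, by simp⟩
  | add a b ha hb =>
    obtain ⟨a', ha'⟩ := ha
    obtain ⟨b', hb'⟩ := hb
    exact ⟨a' + b', by rw [map_add, ha', hb', map_add]⟩
  | tmul t c =>
    refine ⟨t ⊗ₜ Ideal.Quotient.mk _ c, ?_⟩
    change Φ (t ⊗ₜ Ideal.Quotient.mk _ c) = _
    rw [Algebra.TensorProduct.lift_tmul]
    change Ideal.Quotient.mk J' (t ⊗ₜ[R] (1 : C)) * Ideal.Quotient.mk J' ((1 : T) ⊗ₜ[R] c) = _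
    rw [← map_mul, Algebra.TensorProduct.tmul_mul_tmul, _root_.mul_one, _root_.one_mul]

variable (C) in
/-- The hypotheses of the local criteria hold over the local rings of the base. -/
theorem fibre_hyps [Module.Flat R C] (p : Ideal R) [p.IsPrime]
    (h : SGA3b.IsMultType p.ResidueField (p.ResidueField ⊗[R] C)) :
    (∀ (q : Ideal (Localization.AtPrime p ⊗[R] C)) [q.IsPrime],
      Ideal.map (algebraMap (Localization.AtPrime p) (Localization.AtPrime p ⊗[R] C))
        (IsLocalRing.maximalIdeal (Localization.AtPrime p)) ≤ q →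
        Module.Flat (Localization.AtPrime p) (Localization.AtPrime q)) ∧
    SGA3b.IsMultType (IsLocalRing.ResidueField (Localization.AtPrime p))
      (IsLocalRing.ResidueField (Localization.AtPrime p) ⊗[Localization.AtPrime p]
        (Localization.AtPrime p ⊗[R] C)) := by
  refine ⟨fun q _ _ => Module.Flat.trans (Localization.AtPrime p) (Localization.AtPrime p ⊗[R] C) _, ?_⟩
  exact isMultType_congr (GrothLib.Hopf.cancelBaseChange R (Localization.AtPrime p)
    (IsLocalRing.ResidueField (Localization.AtPrime p)) C).symm h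

end GrothLib.MultLocal
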