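import Groth.Agent.Lib.MultLocal.Glue
import Groth.Agent.Lib.Hopf.Descent
import Mathlib.RingTheory.Ideal.Quotient.Operations
import Mathlib.RingTheory.TensorProduct.Pi
import Mathlib.RingTheory.Flat.FaithfullyFlat.Algebra

/-!
Frames of groups of multiplicative type lift along nilpotent thickenings.
-/

universe u

set_option linter.style.haveILetI false
set_option maxSynthPendingDepth 3

open TensorProduct MonoidAlgebra

namespace GrothLib.MultLocal

variable {R : Type u} [CommRing R] {A : Type u} [CommRing A] [HopfAlgebra R A]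

/-- The trivialising product of a group of multiplicative type. -/
theorem exists_cover (h : SGA3b.IsMultType R A) :
    ∃ (ι : Type u) (_ : Fintype ι) (T : ι → Type u) (_ : ∀ i, CommRing (T i)) (_ : ∀ i, Algebra R (T i))
      (M : ι → Type u) (_ : ∀ i, CommGroup (M i)), Module.FaithfullyFlat R (∀ i, T i) ∧
      ∀ i, ∃ g : M i →* GroupLike (T i) (T i ⊗[R] A), IsFrame g := by
  obtain ⟨s, hs, hloc⟩ := h
  obtain ⟨t, hts, ht⟩ := (Ideal.span_eq_top_iff_finite s).mp hs
  choose R' iR iA hff M iM hM using fun i : t => hloc i.1 (hts i.2)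
  letI : ∀ i, Algebra R (R' i) := fun i => Algebra.compHom (R' i) (algebraMap R (Localization.Away i.1))
  haveI : ∀ i, IsScalarTower R (Localization.Away i.1) (R' i) := fun i => IsScalarTower.of_algebraMap_eq fun _ => rfl
  refine ⟨t, inferInstance, R', iR, inferInstance, M, iM, ?_, fun i => ?_⟩
  · haveI : ∀ i, Module.Flat R (R' i) := fun i => by
      haveI := hff i
      exact Module.Flat.trans R (Localization.Away i.1) (R' i)
    haveI : Module.Flat R (∀ i, R' i) := Module.Flat.of_linearEquiv (DFinsupp.linearEquivFunOnFintype (R := R)).symm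
    refine Module.FaithfullyFlat.of_comap_surjective fun p => ?_
    obtain ⟨r, hr, hrp⟩ : ∃ r ∈ t, r ∉ p.asIdeal := by
      by_contra! hc
      exact p.isPrime.ne_top (top_le_iff.mp (ht ▸ Ideal.span_le.mpr hc))
    obtain ⟨i, hi⟩ : ∃ i : t, i.1 = r := ⟨⟨r, hr⟩, rfl⟩
    subst hi
    haveI := hff i
    obtain ⟨x, hx⟩ : p ∈ Set.range (PrimeSpectrum.comap (algebraMap R (Localization.Away i.1))) := by
      rw [PrimeSpectrum.localization_away_comap_range (Localization.Away i.1) i.1]
      exact hrp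
    obtain ⟨y, hy⟩ := PrimeSpectrum.comap_surjective_of_faithfullyFlat (B := R' i) x
    refine ⟨PrimeSpectrum.comap (Pi.evalRingHom R' i) y, ?_⟩
    rw [← hx, ← hy, ← PrimeSpectrum.comap_comp_apply, ← PrimeSpectrum.comap_comp_apply]
    exact congrArg (fun φ => PrimeSpectrum.comap φ y) (RingHom.ext fun _ => rfl)
  · obtain ⟨e⟩ := hM i
    exact exists_frame_of_equiv (GrothLib.Hopf.trivOfAway (Localization.Away i.1) (R' i) e)

/-- Frames lift modulo nilpotents for groups of multiplicative type. -/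
theorem exists_frame_of_nil (h : SGA3b.IsMultType R A) {E E₀ : Type u} [CommRing E] [CommRing E₀] [Algebra R E]
    [Algebra R E₀] (π : E →ₐ[R] E₀) (hπ : Function.Surjective π)
    (hnil : ∀ a ∈ RingHom.ker (π : E →+* E₀), IsNilpotent a) {M₀ : Type u} [CommGroup M₀]
    {h₀ : M₀ →* GroupLike E₀ (E₀ ⊗[R] A)} (hh₀ : IsFrame h₀) :
    ∃ g : M₀ →* GroupLike E (E ⊗[R] A), IsFrame g := by
  classical
  obtain ⟨ι, _, T, _, _, M, _, hff, hT⟩ := exists_cover h
  haveI := hff
  choose g hg using hT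
  -- liftings on the factors
  have hfac : ∀ i, ∃ gi : M₀ →* GroupLike (E ⊗[R] T i) ((E ⊗[R] T i) ⊗[R] A), IsFrame gi := fun i => by
    let π' : E ⊗[R] T i →ₐ[R] E₀ ⊗[R] T i := Algebra.TensorProduct.map π (AlgHom.id R _)
    have hs : Function.Surjective π' := TensorProduct.map_surjective hπ Function.surjective_id
    have hn : ∀ a ∈ RingHom.ker (π' : E ⊗[R] T i →+* E₀ ⊗[R] T i), IsNilpotent a := fun a ha => by
      have hker : RingHom.ker π' = (RingHom.ker π).map (Algebra.TensorProduct.includeLeft : E →ₐ[R] E ⊗[R] T i) :=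
        Algebra.TensorProduct.rTensor_ker π hπ
      have : (RingHom.ker π).map (Algebra.TensorProduct.includeLeft : E →ₐ[R] E ⊗[R] T i) ≤ nilradical (E ⊗[R] T i) := by
        rw [Ideal.map_le_iff_le_comap]
        intro x hx
        exact Ideal.mem_comap.mpr (mem_nilradical.mpr ((hnil x hx).map _))
      exact mem_nilradical.mp (this (hker ▸ ha))
    obtain ⟨gi, hgi, -⟩ := exists_frame_lift π' hs hn
      ((hg i).map (Algebra.TensorProduct.includeRight : T i →ₐ[R] E ⊗[R] T i))
      (hh₀.map (Algebra.TensorProduct.includeLeft : E₀ →ₐ[R] E₀ ⊗[R] T i))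
    exact ⟨gi, hgi⟩
  choose gi hgi using hfac
  obtain ⟨gP, hgP, -⟩ := exists_frame_pi gi hgi
  let W := E ⊗[R] (∀ i, T i)
  have hgW := hgP.map (T' := W) (Algebra.TensorProduct.piRight R R E T).symm.toAlgHom
  let I : Ideal W := (RingHom.ker π).map (algebraMap E W)
  let j' : (E ⧸ RingHom.ker π) →ₐ[R] W ⧸ I :=
    Ideal.Quotient.liftₐ (RingHom.ker π) ((Ideal.Quotient.mkₐ R I).comp (IsScalarTower.toAlgHom R E W))
      fun a ha => Ideal.Quotient.eq_zero_iff_mem.mpr (Ideal.mem_map_of_mem _ ha)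
  let j₀ : E₀ →ₐ[R] W ⧸ I := j'.comp (Ideal.quotientKerAlgEquivOfSurjective hπ).symm.toAlgHom
  have hj₀ : j₀.comp π = (Ideal.Quotient.mkₐ R I).comp (IsScalarTower.toAlgHom R E W) := AlgHom.ext fun a => by
    have : (Ideal.quotientKerAlgEquivOfSurjective hπ).symm (π a) = Ideal.Quotient.mk _ a := by
      rw [AlgEquiv.symm_apply_eq]; rfl
    exact (congrArg j' this).trans rfl
  have hI : ∀ a ∈ RingHom.ker ((Ideal.Quotient.mkₐ R I : W →ₐ[R] W ⧸ I) : W →+* W ⧸ I), IsNilpotent a := fun a ha => by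
    have : I ≤ nilradical W := Ideal.map_le_iff_le_comap.mpr fun x hx =>
      Ideal.mem_comap.mpr (mem_nilradical.mpr ((hnil x hx).map _))
    exact mem_nilradical.mp (this (Ideal.Quotient.eq_zero_iff_mem.mp ha))
  obtain ⟨gW, hgW', hred⟩ := exists_frame_lift (Ideal.Quotient.mkₐ R I) (Ideal.Quotient.mkₐ_surjective R I) hI hgW
    (hh₀.map j₀)
  let W2 := W ⊗[E] W
  let I2 : Ideal W2 := (RingHom.ker π).map (algebraMap E W2)
  have hI2 : ∀ a ∈ RingHom.ker ((Ideal.Quotient.mkₐ R I2 : W2 →ₐ[R] W2 ⧸ I2) : W2 →+* W2 ⧸ I2), IsNilpotent a :=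
    fun a ha => by
      have : I2 ≤ nilradical W2 := Ideal.map_le_iff_le_comap.mpr fun x hx =>
        Ideal.mem_comap.mpr (mem_nilradical.mpr ((hnil x hx).map _))
      exact mem_nilradical.mp (this (Ideal.Quotient.eq_zero_iff_mem.mp ha))
  let i₁ : W →ₐ[R] W2 := (Algebra.TensorProduct.includeLeft : W →ₐ[E] W2).restrictScalars R
  let i₂ : W →ₐ[R] W2 := (Algebra.TensorProduct.includeRight : W →ₐ[E] W2).restrictScalars R
  let q : (W →ₐ[E] W2) → ((W ⧸ I) →ₐ[R] W2 ⧸ I2) := fun f =>
    Ideal.Quotient.liftₐ I ((Ideal.Quotient.mkₐ R I2).comp (f.restrictScalars R)) fun a ha => by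
      have : I ≤ I2.comap f := Ideal.map_le_iff_le_comap.mpr fun x hx => by
        rw [Ideal.mem_comap, Ideal.mem_comap, f.commutes]
        exact Ideal.mem_map_of_mem _ hx
      exact Ideal.Quotient.eq_zero_iff_mem.mpr (this ha)
  have hq : ∀ f : W →ₐ[E] W2, (q f).comp (Ideal.Quotient.mkₐ R I) =
      (Ideal.Quotient.mkₐ R I2).comp (f.restrictScalars R) := fun f => AlgHom.ext fun a => rfl
  have hqj : (q Algebra.TensorProduct.includeLeft).comp j₀ = (q Algebra.TensorProduct.includeRight).comp j₀ := by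
    refine AlgHom.ext fun x => ?_
    obtain ⟨a, rfl⟩ := hπ x
    change q _ (j₀ (π a)) = q _ (j₀ (π a))
    rw [show j₀ (π a) = Ideal.Quotient.mk I (algebraMap E W a) from DFunLike.congr_fun hj₀ a]
    change Ideal.Quotient.mk I2 ((Algebra.TensorProduct.includeLeft : W →ₐ[E] W2) (algebraMap E W a)) =
      Ideal.Quotient.mk I2 ((Algebra.TensorProduct.includeRight : W →ₐ[E] W2) (algebraMap E W a))
    rw [AlgHom.commutes, AlgHom.commutes]
  obtain ⟨g₀, hg₀, -⟩ := exists_frame_of_descent_tower E hgW' fun m => by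
    change (glMap A i₁ (gW m)).val = (glMap A i₂ (gW m)).val
    refine congrArg GroupLike.val ((hgW'.map i₁).ext_of_nil (Ideal.Quotient.mkₐ R I2) hI2 ?_)
    rw [glMap_glMap, glMap_glMap, ← hq, ← hq, ← glMap_glMap, ← glMap_glMap, hred, MonoidHom.comp_apply, glMap_glMap,
      glMap_glMap, hqj]
  exact ⟨g₀, hg₀⟩

end GrothLib.MultLocal
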