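import Groth.Agent.Lib.MultLocal.NilHom
import Groth.Agent.Lib.MultLocal.NilLift
import Groth.Agent.Lib.MultLocal.LevelFlat
import Groth.Agent.Lib.AdicLim.Finite
import Groth.Agent.Lib.Hopf.Descent
import Groth.Agent.S2987
import Mathlib.RingTheory.TensorProduct.Quotient

/-!
Homomorphisms to diagonalisable groups over the thickenings of a group which is quasi-isotrivial on the closed part.
-/

universe u

set_option linter.style.haveILetI false
set_option maxSynthPendingDepth 3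

open TensorProduct MonoidAlgebra

namespace GrothLib.MultLocal

theorem isMultType_of_qit {R : Type u} [CommRing R] {A : Type u} [CommRing A] [HopfAlgebra R A]
    (h : SGA3b.IsQuasiIsotrivial R A) : SGA3b.IsMultType R A := by
  obtain ⟨s, hs, hloc⟩ := h
  refine ⟨s, hs, fun f hf => ?_⟩
  obtain ⟨R', _, _, -, hff, d⟩ := hloc f hf
  exact ⟨R', inferInstance, inferInstance, hff, d⟩

theorem qit_baseChange {A : Type u} [CommRing A] {C : Type u} [CommRing C] [HopfAlgebra A C]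
    {R₁ R₂ : Type u} [CommRing R₁] [CommRing R₂] [Algebra A R₁] [Algebra A R₂] (q : R₁ →ₐ[A] R₂)
    (h : SGA3b.IsQuasiIsotrivial R₁ (R₁ ⊗[A] C)) {C' : Type u} [CommRing C'] [HopfAlgebra R₂ C']
    (e : R₂ ⊗[A] C ≃ₐc[R₂] C') : SGA3b.IsQuasiIsotrivial R₂ C' := by
  obtain ⟨s, hs, hloc⟩ := h
  refine ⟨q '' s, ?_, ?_⟩
  · rw [← Ideal.map_span, hs, Ideal.map_top]
  rintro _ ⟨f, hf, rfl⟩
  obtain ⟨E₁, _, _, hE, hff, M, _, ⟨d⟩⟩ := hloc f hf
  haveI := hE
  haveI := hff
  let S₁ := Localization.Away f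
  let S₂ := Localization.Away (q f)
  haveI : IsLocalization.Away ((q : R₁ →+* R₂) f) S₂ := inferInstanceAs (IsLocalization.Away (q f) S₂)
  let φ : S₁ →+* S₂ := IsLocalization.Away.map S₁ S₂ (q : R₁ →+* R₂) f
  letI : Algebra S₁ S₂ := φ.toAlgebra
  have hφ₀ : ∀ r, φ (algebraMap R₁ S₁ r) = algebraMap R₂ S₂ ((q : R₁ →+* R₂) r) := fun r =>
    IsLocalization.map_eq _ r
  have hφ : ∀ r, algebraMap S₁ S₂ (algebraMap R₁ S₁ r) = algebraMap R₂ S₂ (q r) := hφ₀
  letI : Algebra R₁ E₁ := Algebra.compHom E₁ (algebraMap R₁ S₁)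
  haveI : IsScalarTower R₁ S₁ E₁ := IsScalarTower.of_algebraMap_eq fun _ => rfl
  letI : Algebra A E₁ := Algebra.compHom E₁ (algebraMap A R₁)
  haveI : IsScalarTower A R₁ E₁ := IsScalarTower.of_algebraMap_eq fun _ => rfl
  let T := S₂ ⊗[S₁] E₁
  let ι : E₁ →ₐ[A] T :=
    { (Algebra.TensorProduct.includeRight : E₁ →ₐ[S₁] T).toRingHom with
      commutes' := fun a => by
        change (Algebra.TensorProduct.includeRight : E₁ →ₐ[S₁] T)
          (algebraMap S₁ E₁ (algebraMap R₁ S₁ (algebraMap A R₁ a))) =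
            algebraMap S₂ T (algebraMap R₂ S₂ (algebraMap A R₂ a))
        rw [(Algebra.TensorProduct.includeRight : E₁ →ₐ[S₁] T).commutes,
          IsScalarTower.algebraMap_apply S₁ S₂ T, hφ, q.commutes] }
  obtain ⟨h₀, hh₀⟩ := exists_frame_of_equiv (GrothLib.Hopf.trivOfAway S₁ E₁ d)
  have h1 := ((hh₀.push (GrothLib.Hopf.cancelBaseChange A R₁ E₁ C)).map ι).push
    (GrothLib.Hopf.cancelBaseChange A R₂ T C).symm
  let eT : T ⊗[R₂] (R₂ ⊗[A] C) ≃ₐc[T] T ⊗[R₂] C' :=
    BialgEquiv.ofBialgHom (Bialgebra.TensorProduct.map (BialgHom.id T T) (e : R₂ ⊗[A] C →ₐc[R₂] C'))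
      (Bialgebra.TensorProduct.map (BialgHom.id T T) (e.symm : C' →ₐc[R₂] R₂ ⊗[A] C))
      (BialgHom.ext fun z => by
        induction z using TensorProduct.induction_on with
        | zero => simp
        | add x y hx hy => simp only [map_add, hx, hy]
        | tmul t c => exact congrArg (t ⊗ₜ[R₂] ·) (e.apply_symm_apply c))
      (BialgHom.ext fun z => by
        induction z using TensorProduct.induction_on with
        | zero => simp
        | add x y hx hy => simp only [map_add, hx, hy]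
        | tmul t c => exact congrArg (t ⊗ₜ[R₂] ·) (e.symm_apply_apply c))
  have h2 := (h1.push eT).push (GrothLib.Hopf.cancelBaseChange R₂ S₂ T C').symm
  exact ⟨T, inferInstance, inferInstance, inferInstance, inferInstance, M, inferInstance, ⟨h2.equiv.symm⟩⟩

section Hom

variable {A : Type u} [CommRing A] {C : Type u} [CommRing C] [Bialgebra A C]

/-- Base change of a homomorphism. -/
theorem exists_bc_hom {B : Type u} [CommRing B] [Bialgebra A B] {T T' : Type u} [CommRing T] [CommRing T']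
    [Algebra A T] [Algebra A T'] (f : T →ₐ[A] T') (φ : T ⊗[A] C →ₐc[T] T ⊗[A] B) :
    ∃ φ' : T' ⊗[A] C →ₐc[T'] T' ⊗[A] B, ∀ z, φ' (coefMap C f z) = coefMap B f (φ z) := by
  letI : Algebra T T' := f.toRingHom.toAlgebra
  haveI : IsScalarTower A T T' := IsScalarTower.of_algebraMap_eq fun r => (f.commutes r).symm
  let cC := GrothLib.Hopf.cancelBaseChange A T T' C
  let cB := GrothLib.Hopf.cancelBaseChange A T T' B
  refine ⟨(cB : T' ⊗[T] (T ⊗[A] B) →ₐc[T'] T' ⊗[A] B).comp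
    ((Bialgebra.TensorProduct.map (BialgHom.id T' T') φ).comp
      (cC.symm : T' ⊗[A] C →ₐc[T'] T' ⊗[T] (T ⊗[A] C))), fun z => ?_⟩
  have hz : coefMap C f z = cC ((1 : T') ⊗ₜ[T] z) := by
    induction z using TensorProduct.induction_on with
    | zero => simp
    | add x y hx hy => simp only [tmul_add, map_add, hx, hy]
    | tmul t a =>
      rw [GrothLib.Hopf.cancelBaseChange_tmul, coefMap_tmul, Algebra.smul_def, _root_.mul_one]
      rfl
  change cB ((Bialgebra.TensorProduct.map (BialgHom.id T' T') φ) (cC.symm (coefMap C f z))) = _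
  rw [hz, BialgEquiv.symm_apply_apply]
  change cB ((1 : T') ⊗ₜ[T] φ z) = _
  generalize φ z = w
  induction w using TensorProduct.induction_on with
  | zero => simp
  | add x y hx hy => simp only [tmul_add, map_add, hx, hy]
  | tmul t b =>
    rw [GrothLib.Hopf.cancelBaseChange_tmul, coefMap_tmul, Algebra.smul_def, _root_.mul_one]
    rfl

theorem bialgHom_ext_one_tmul {T : Type u} [CommRing T] [Algebra A T] {X : Type u} [CommRing X] [Bialgebra T X]
    {u v : T ⊗[A] C →ₐc[T] X} (h : ∀ c, u ((1 : T) ⊗ₜ c) = v ((1 : T) ⊗ₜ c)) : u = v := by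
  refine BialgHom.ext fun z => ?_
  induction z using TensorProduct.induction_on with
  | zero => simp
  | add x y hx hy => simp only [map_add, hx, hy]
  | tmul t c =>
    rw [show t ⊗ₜ[A] c = t • ((1 : T) ⊗ₜ[A] c) by rw [smul_tmul', smul_eq_mul, _root_.mul_one], map_smul, map_smul, h]

theorem mapRingHom_comp_apply {S S' S'' : Type u} [CommRing S] [CommRing S'] [CommRing S''] {M : Type u}
    [CommGroup M] (f : S →+* S') (g : S' →+* S'') (x : MonoidAlgebra S M) :
    mapRingHom M g (mapRingHom M f x) = mapRingHom M (g.comp f) x :=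
  MonoidAlgebra.ext (Finsupp.ext fun m => by simp)

theorem mapRingHom_smul {S S' : Type u} [CommRing S] [CommRing S'] {M : Type u}
    [CommGroup M] (f : S →+* S') (r : S) (x : MonoidAlgebra S M) :
    mapRingHom M f (r • x) = f r • mapRingHom M f x :=
  MonoidAlgebra.ext (Finsupp.ext fun m => by simp)

end Hom

section Surj

variable {A : Type u} [CommRing A] {C : Type u} [CommRing C] [HopfAlgebra A C]
  {R : Type u} [CommRing R] [Algebra A R]
  {S S₀ : Type u} [CommRing S] [CommRing S₀] [Algebra A S] [Algebra A S₀] [Algebra R S] [IsScalarTower A R S]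
  {M : Type u} [CommGroup M]

/-- The frames on a faithfully flat family over `S`. -/
theorem exists_cover_over (h : SGA3b.IsMultType R (R ⊗[A] C)) :
    ∃ (ι : Type u) (_ : Fintype ι) (T : ι → Type u) (_ : ∀ i, CommRing (T i)) (_ : ∀ i, Algebra S (T i))
      (N : ι → Type u) (_ : ∀ i, CommGroup (N i)), Module.FaithfullyFlat S (∀ i, T i) ∧
      ∀ i, ∃ g : N i →* GroupLike (T i) (T i ⊗[S] (S ⊗[A] C)), IsFrame g := by
  classical
  obtain ⟨ι, _, T, _, _, N, _, hff, hT⟩ := exists_cover h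
  haveI := hff
  refine ⟨ι, inferInstance, fun i => S ⊗[R] T i, inferInstance, inferInstance, N, inferInstance, ?_, fun i => ?_⟩
  · exact Module.FaithfullyFlat.of_linearEquiv S (S ⊗[R] (∀ i, T i))
      (Algebra.TensorProduct.piRight R S S T).toLinearEquiv.symm
  · obtain ⟨g, hg⟩ := hT i
    letI : Algebra A (T i) := Algebra.compHom (T i) (algebraMap A R)
    haveI : IsScalarTower A R (T i) := IsScalarTower.of_algebraMap_eq fun _ => rfl
    let ι' : T i →ₐ[A] S ⊗[R] T i :=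
      (Algebra.TensorProduct.includeRight : T i →ₐ[R] S ⊗[R] T i).restrictScalars A
    exact ⟨_, ((hg.push (GrothLib.Hopf.cancelBaseChange A R (T i) C)).map ι').push
      (GrothLib.Hopf.cancelBaseChange A S (S ⊗[R] T i) C).symm⟩

/-- Homomorphisms which agree along a surjection with nil kernel agree. -/
theorem eq_of_surj_nil (h : SGA3b.IsMultType R (R ⊗[A] C)) (π : S →ₐ[A] S₀)
    (hnil : ∀ a ∈ RingHom.ker (π : S →+* S₀), IsNilpotent a) (u v : S ⊗[A] C →ₐc[S] MonoidAlgebra S M)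
    (huv : ∀ c, mapRingHom M (π : S →+* S₀) (u ((1 : S) ⊗ₜ c)) = mapRingHom M (π : S →+* S₀) (v ((1 : S) ⊗ₜ c))) :
    u = v := by
  obtain ⟨ι, _, T, _, _, N, _, hff, hT⟩ := exists_cover_over (S := S) h
  haveI := hff
  choose g hg using hT
  refine bialgHom_eq_of_nil hg hnil u v fun y => ?_
  induction y using TensorProduct.induction_on with
  | zero => simp
  | add x y hx hy => simp only [map_add, hx, hy]
  | tmul t c =>
    rw [show t ⊗ₜ[A] c = t • ((1 : S) ⊗ₜ[A] c) by rw [smul_tmul', smul_eq_mul, _root_.mul_one], map_smul u, map_smul v,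
      mapRingHom_smul, mapRingHom_smul]
    congr 1
    refine MonoidAlgebra.ext (Finsupp.ext fun m => ?_)
    have := coeff_eq_of_mapRingHom_eq _ _ (huv c) m
    rw [coeff_compat, coeff_compat, Ideal.Quotient.eq, RingHom.mem_ker, map_sub]
    exact sub_eq_zero.mpr this

/-- Homomorphisms lift along a surjection with nil kernel. -/
theorem exists_lift_surj (h : SGA3b.IsMultType R (R ⊗[A] C)) (π : S →ₐ[A] S₀) (hπ : Function.Surjective π)
    (hnil : ∀ a ∈ RingHom.ker (π : S →+* S₀), IsNilpotent a) (χ : S₀ ⊗[A] C →ₐc[S₀] MonoidAlgebra S₀ M) :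
    ∃ ψ : S ⊗[A] C →ₐc[S] MonoidAlgebra S M, ∀ c,
      mapRingHom M (π : S →+* S₀) (ψ ((1 : S) ⊗ₜ c)) = χ ((1 : S₀) ⊗ₜ c) := by
  obtain ⟨ι, _, T, _, _, N, _, hff, hT⟩ := exists_cover_over (S := S) h
  haveI := hff
  choose g hg using hT
  let K := RingHom.ker (π : S →+* S₀)
  let ε : (S ⧸ K) ≃ₐ[A] S₀ := Ideal.quotientKerAlgEquivOfSurjective hπ
  obtain ⟨β, hβ⟩ := exists_bc (ε.symm : S₀ →ₐ[A] S ⧸ K) χ
  obtain ⟨ψ, hψ⟩ := exists_bialgHom_lift hg hnil
    (β.comp (GrothLib.Hopf.cancelBaseChange A S (S ⧸ K) C : (S ⧸ K) ⊗[S] (S ⊗[A] C) →ₐc[S ⧸ K] (S ⧸ K) ⊗[A] C))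
  refine ⟨ψ, fun c => ?_⟩
  have h1 := hψ ((1 : S) ⊗ₜ c)
  have h2 := hβ ((1 : S₀) ⊗ₜ c)
  rw [coefMap_tmul, map_one] at h2
  change _ = β (GrothLib.Hopf.cancelBaseChange A S (S ⧸ K) C ((1 : S ⧸ K) ⊗ₜ[S] ((1 : S) ⊗ₜ[A] c))) at h1
  rw [GrothLib.Hopf.cancelBaseChange_tmul, one_smul, h2] at h1
  have h3 := congrArg (mapRingHom M (ε : (S ⧸ K) →+* S₀)) h1
  rw [mapRingHom_comp_apply, mapRingHom_comp_apply] at h3
  refine (Eq.trans ?_ h3).trans ?_
  · refine MonoidAlgebra.ext (Finsupp.ext fun m => ?_)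
    simp only [coeff_mapRingHom, Finsupp.mapRange_apply]
    rfl
  · refine MonoidAlgebra.ext (Finsupp.ext fun m => ?_)
    simp only [coeff_mapRingHom, Finsupp.mapRange_apply]
    exact ε.apply_symm_apply _

end Surj

section Adic

variable {A : Type u} [CommRing A] (I : Ideal A) {C : Type u} [CommRing C] [HopfAlgebra A C]
  {M : Type u} [CommGroup M]

theorem isMultType_level
    (hfl : ∀ (q : Ideal C) [q.IsPrime], Ideal.map (algebraMap A C) I ≤ q → Module.Flat A (Localization.AtPrime q))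
    (h0 : SGA3b.IsQuasiIsotrivial (A ⧸ I) ((A ⧸ I) ⊗[A] C)) (n : ℕ) :
    SGA3b.IsMultType (A ⧸ I ^ (n + 1)) ((A ⧸ I ^ (n + 1)) ⊗[A] C) := by
  let R := A ⧸ I ^ (n + 1)
  let K : Ideal R := I.map (Ideal.Quotient.mk (I ^ (n + 1)))
  haveI : Module.Flat R (R ⊗[A] C) := flat_tensor_of_flat_at I hfl R fun a ha => ⟨n + 1, by
    rw [← map_pow, Ideal.Quotient.algebraMap_eq, Ideal.Quotient.eq_zero_iff_mem]
    exact Ideal.pow_mem_pow ha _⟩
  have hK : IsNilpotent K := ⟨n + 1, by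
    rw [← Ideal.map_pow, Ideal.map_quotient_self]; rfl⟩
  let q : (A ⧸ I) →ₐ[A] R ⧸ K := Ideal.Quotient.liftₐ I (Algebra.ofId A _) fun a ha => by
    change algebraMap A (R ⧸ K) a = 0
    rw [IsScalarTower.algebraMap_apply A R (R ⧸ K), Ideal.Quotient.algebraMap_eq, Ideal.Quotient.eq_zero_iff_mem]
    exact Ideal.mem_map_of_mem _ ha
  exact isMultType_of_qit (Groth.Agent.S2987.result R (R ⊗[A] C) K hK
    (qit_baseChange q h0 (GrothLib.Hopf.cancelBaseChange A R (R ⧸ K) C).symm))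

variable (hfl : ∀ (q : Ideal C) [q.IsPrime], Ideal.map (algebraMap A C) I ≤ q → Module.Flat A (Localization.AtPrime q))
  (h0 : SGA3b.IsQuasiIsotrivial (A ⧸ I) ((A ⧸ I) ⊗[A] C))
  {W : Type u} [CommRing W] [Algebra A W]

include hfl h0

theorem eq_of_level (n : ℕ) {S₀ : Type u} [CommRing S₀] [Algebra A S₀]
    (π : W ⧸ (I.map (algebraMap A W)) ^ (n + 1) →ₐ[A] S₀)
    (hnil : ∀ a ∈ RingHom.ker (π : W ⧸ (I.map (algebraMap A W)) ^ (n + 1) →+* S₀), IsNilpotent a)
    (u v : (W ⧸ (I.map (algebraMap A W)) ^ (n + 1)) ⊗[A] C →ₐc[W ⧸ (I.map (algebraMap A W)) ^ (n + 1)] MonoidAlgebra (W ⧸ (I.map (algebraMap A W)) ^ (n + 1)) M)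
    (huv : ∀ c, mapRingHom M (π : W ⧸ (I.map (algebraMap A W)) ^ (n + 1) →+* S₀) (u (1 ⊗ₜ c)) =
      mapRingHom M (π : W ⧸ (I.map (algebraMap A W)) ^ (n + 1) →+* S₀) (v (1 ⊗ₜ c))) : u = v := by
  let S := W ⧸ (I.map (algebraMap A W)) ^ (n + 1)
  let q : (A ⧸ I ^ (n + 1)) →ₐ[A] S := Ideal.Quotient.liftₐ _ (Algebra.ofId A S) fun a ha => by
    change algebraMap A S a = 0
    rw [IsScalarTower.algebraMap_apply A W S, Ideal.Quotient.algebraMap_eq, Ideal.Quotient.eq_zero_iff_mem,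
      ← Ideal.map_pow]
    exact Ideal.mem_map_of_mem _ ha
  letI : Algebra (A ⧸ I ^ (n + 1)) S := q.toRingHom.toAlgebra
  haveI : IsScalarTower A (A ⧸ I ^ (n + 1)) S := IsScalarTower.of_algebraMap_eq fun a => (q.commutes a).symm
  exact eq_of_surj_nil (isMultType_level I hfl h0 n) π hnil u v huv

theorem exists_lift_level (n : ℕ) {S₀ : Type u} [CommRing S₀] [Algebra A S₀]
    (π : W ⧸ (I.map (algebraMap A W)) ^ (n + 1) →ₐ[A] S₀) (hπ : Function.Surjective π)
    (hnil : ∀ a ∈ RingHom.ker (π : W ⧸ (I.map (algebraMap A W)) ^ (n + 1) →+* S₀), IsNilpotent a)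
    (χ : S₀ ⊗[A] C →ₐc[S₀] MonoidAlgebra S₀ M) :
    ∃ ψ : (W ⧸ (I.map (algebraMap A W)) ^ (n + 1)) ⊗[A] C →ₐc[W ⧸ (I.map (algebraMap A W)) ^ (n + 1)]
      MonoidAlgebra (W ⧸ (I.map (algebraMap A W)) ^ (n + 1)) M,
      ∀ c, mapRingHom M (π : W ⧸ (I.map (algebraMap A W)) ^ (n + 1) →+* S₀) (ψ (1 ⊗ₜ c)) = χ (1 ⊗ₜ c) := by
  let S := W ⧸ (I.map (algebraMap A W)) ^ (n + 1)
  let q : (A ⧸ I ^ (n + 1)) →ₐ[A] S := Ideal.Quotient.liftₐ _ (Algebra.ofId A S) fun a ha => by
    change algebraMap A S a = 0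
    rw [IsScalarTower.algebraMap_apply A W S, Ideal.Quotient.algebraMap_eq, Ideal.Quotient.eq_zero_iff_mem,
      ← Ideal.map_pow]
    exact Ideal.mem_map_of_mem _ ha
  letI : Algebra (A ⧸ I ^ (n + 1)) S := q.toRingHom.toAlgebra
  haveI : IsScalarTower A (A ⧸ I ^ (n + 1)) S := IsScalarTower.of_algebraMap_eq fun a => (q.commutes a).symm
  exact exists_lift_surj (isMultType_level I hfl h0 n) π hπ hnil χ

omit hfl h0 in
/-- The reduction of the exponent. -/
theorem level_nil (n : ℕ) (a : W ⧸ (I.map (algebraMap A W)) ^ (n + 1))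
    (ha : a ∈ RingHom.ker ((Ideal.Quotient.factorₐ A (Ideal.pow_le_self (Nat.succ_ne_zero n)) :
      W ⧸ (I.map (algebraMap A W)) ^ (n + 1) →ₐ[A] W ⧸ I.map (algebraMap A W)) :
      W ⧸ (I.map (algebraMap A W)) ^ (n + 1) →+* W ⧸ I.map (algebraMap A W))) : IsNilpotent a := by
  obtain ⟨x, rfl⟩ := Ideal.Quotient.mk_surjective a
  refine ⟨n + 1, ?_⟩
  rw [← map_pow, Ideal.Quotient.eq_zero_iff_mem]
  exact Ideal.pow_mem_pow (Ideal.Quotient.eq_zero_iff_mem.mp (RingHom.mem_ker.mp ha)) _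

/-- Homomorphisms over a finite algebra which agree on the closed part agree. -/
theorem eq_of_mod_adic [IsNoetherianRing A] [IsAdicComplete I A] [Module.Finite A W]
    (u v : W ⊗[A] C →ₐc[W] MonoidAlgebra W M)
    (huv : ∀ c, mapRingHom M (Ideal.Quotient.mk (I.map (algebraMap A W))) (u ((1 : W) ⊗ₜ c)) =
      mapRingHom M (Ideal.Quotient.mk (I.map (algebraMap A W))) (v ((1 : W) ⊗ₜ c))) : u = v := by
  let J := I.map (algebraMap A W)
  haveI : IsAdicComplete J W :=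
    (IsAdicComplete.map_algebraMap_iff I W (S := W)).mpr (GrothLib.AdicLim.isAdicComplete_of_finite I W)
  haveI : IsHausdorff J W := IsAdicComplete.toIsHausdorff
  refine bialgHom_ext_one_tmul fun c => ext_of_forall_mapRingHom J fun n => ?_
  let mk : W →ₐ[A] W ⧸ J ^ (n + 1) := Ideal.Quotient.mkₐ A _
  obtain ⟨a, ha⟩ := exists_bc mk u
  obtain ⟨b, hb⟩ := exists_bc mk v
  have hab : a = b := eq_of_level I hfl h0 n (Ideal.Quotient.factorₐ A (Ideal.pow_le_self (Nat.succ_ne_zero n)))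
    (level_nil I n) a b fun c => by
      have h1 := ha ((1 : W) ⊗ₜ c)
      have h2 := hb ((1 : W) ⊗ₜ c)
      rw [coefMap_tmul, map_one] at h1 h2
      rw [h1, h2, mapRingHom_comp_apply, mapRingHom_comp_apply]
      exact huv c
  have h1 := ha ((1 : W) ⊗ₜ c)
  have h2 := hb ((1 : W) ⊗ₜ c)
  rw [hab] at h1
  exact h1.symm.trans h2

/-- A homomorphism on the closed part of a finite algebra lifts. -/
theorem exists_lift_adic [IsNoetherianRing A] [IsAdicComplete I A] [Module.Finite A W]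
    (χ : (W ⧸ I.map (algebraMap A W)) ⊗[A] C →ₐc[W ⧸ I.map (algebraMap A W)]
      MonoidAlgebra (W ⧸ I.map (algebraMap A W)) M) :
    ∃ f : W ⊗[A] C →ₐc[W] MonoidAlgebra W M, ∀ c,
      mapRingHom M (Ideal.Quotient.mk (I.map (algebraMap A W))) (f ((1 : W) ⊗ₜ c)) = χ (1 ⊗ₜ c) := by
  let J := I.map (algebraMap A W)
  haveI : IsAdicComplete J W :=
    (IsAdicComplete.map_algebraMap_iff I W (S := W)).mpr (GrothLib.AdicLim.isAdicComplete_of_finite I W)
  haveI : IsNoetherianRing W := IsNoetherianRing.of_finite A W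
  let π : ∀ n : ℕ, W ⧸ J ^ (n + 1) →ₐ[A] W ⧸ J := fun n => Ideal.Quotient.factorₐ A (Ideal.pow_le_self (Nat.succ_ne_zero n))
  have hπ : ∀ n, Function.Surjective (π n) := fun n =>
    Ideal.Quotient.factor_surjective (Ideal.pow_le_self (Nat.succ_ne_zero n))
  choose ψ hψ using fun n => exists_lift_level I hfl h0 n (π n) (hπ n) (level_nil I n) χ
  let c : ∀ n : ℕ, (W ⧸ (I.map (algebraMap A W)) ^ (n + 1)) ⊗[W] (W ⊗[A] C) →ₐc[W ⧸ (I.map (algebraMap A W)) ^ (n + 1)]
      (W ⧸ (I.map (algebraMap A W)) ^ (n + 1)) ⊗[A] C :=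
    fun n => GrothLib.Hopf.cancelBaseChange A W (W ⧸ (I.map (algebraMap A W)) ^ (n + 1)) C
  have hc : ∀ n t x, c n ((1 : W ⧸ (I.map (algebraMap A W)) ^ (n + 1)) ⊗ₜ[W] (t ⊗ₜ[A] x)) =
      Ideal.Quotient.mk ((I.map (algebraMap A W)) ^ (n + 1)) t •
        ((1 : W ⧸ (I.map (algebraMap A W)) ^ (n + 1)) ⊗ₜ[A] x) := fun n t x => by
    refine (GrothLib.Hopf.cancelBaseChange_tmul _ _ _ _ _ _ _).trans ?_
    rw [smul_tmul', Algebra.smul_def, smul_eq_mul]
    rfl
  obtain ⟨f, hf⟩ := exists_bialgHom_of_compatible J (fun n => (ψ n).comp (c n)) fun m n hmn y => by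
    change mapRingHom M _ (ψ n (c n _)) = ψ m (c m _)
    induction y using TensorProduct.induction_on with
    | zero => simp
    | add x y hx hy => simp only [tmul_add, map_add, hx, hy]
    | tmul t x =>
      rw [hc, hc, map_smul (ψ n), map_smul (ψ m), mapRingHom_smul, Ideal.Quotient.factor_mk]
      congr 1
      let r : W ⧸ J ^ (n + 1) →ₐ[A] W ⧸ J ^ (m + 1) :=
        Ideal.Quotient.factorₐ A (Ideal.pow_le_pow_right (Nat.succ_le_succ hmn))
      obtain ⟨a, ha⟩ := exists_bc r (ψ n)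
      have hab : a = ψ m := eq_of_level I hfl h0 m (π m) (level_nil I m) a (ψ m) fun z => by
        have h1 := ha (1 ⊗ₜ z)
        rw [coefMap_tmul, map_one] at h1
        rw [h1, hψ, mapRingHom_comp_apply, ← hψ n]
        refine congrArg (fun g => mapRingHom M g _) (RingHom.ext fun w => ?_)
        obtain ⟨w, rfl⟩ := Ideal.Quotient.mk_surjective w
        rfl
      have h1 := ha (1 ⊗ₜ x)
      rw [coefMap_tmul, map_one, hab] at h1
      exact h1.symm
  refine ⟨f, fun x => ?_⟩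
  rw [← hψ 0 x]
  have h1 := hf 0 ((1 : W) ⊗ₜ x)
  change _ = ψ 0 (c 0 _) at h1
  rw [hc, map_one, one_smul] at h1
  rw [← h1, mapRingHom_comp_apply]
  rfl

end Adic

end GrothLib.MultLocal
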