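import Groth.Agent.Lib.MultLocal.TorsionDense
import Groth.Agent.Lib.MultLocal.NilHom
import Groth.Agent.Lib.Hopf.Descent
import Groth.Agent.Lib.MultLocal.ConnGeom
import Mathlib.RingTheory.Bialgebra.TensorProduct

/-!
Open subgroups of multiplicative type, given by a map to a diagonalisable group, under base change.
-/

universe u

set_option linter.style.haveILetI false
set_option maxSynthPendingDepth 3

open TensorProduct MonoidAlgebra

namespace GrothLib.MultLocal

/-- Base change of a bialgebra isomorphism. -/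
noncomputable def congrBase {R : Type u} [CommRing R] {A A' : Type u} [CommRing A] [CommRing A'] [Bialgebra R A]
    [Bialgebra R A'] (T : Type u) [CommRing T] [Algebra R T] (σ : A ≃ₐc[R] A') : T ⊗[R] A ≃ₐc[T] T ⊗[R] A' :=
  BialgEquiv.ofBialgHom (Bialgebra.TensorProduct.map (BialgHom.id T T) (σ : A →ₐc[R] A'))
    (Bialgebra.TensorProduct.map (BialgHom.id T T) (σ.symm : A' →ₐc[R] A))
    (BialgHom.ext fun z => by
      induction z using TensorProduct.induction_on with
      | zero => simp
      | add x y hx hy => simp only [map_add, hx, hy]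
      | tmul t c => exact congrArg (t ⊗ₜ[R] ·) (σ.apply_symm_apply c))
    (BialgHom.ext fun z => by
      induction z using TensorProduct.induction_on with
      | zero => simp
      | add x y hx hy => simp only [map_add, hx, hy]
      | tmul t c => exact congrArg (t ⊗ₜ[R] ·) (σ.symm_apply_apply c))

theorem congrBase_tmul {R : Type u} [CommRing R] {A A' : Type u} [CommRing A] [CommRing A'] [Bialgebra R A]
    [Bialgebra R A'] (T : Type u) [CommRing T] [Algebra R T] (σ : A ≃ₐc[R] A') (t : T) (a : A) :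
    congrBase T σ (t ⊗ₜ a) = t ⊗ₜ σ a := rfl

section BC

variable {A : Type u} [CommRing A] {C : Type u} [CommRing C] [Bialgebra A C] {M : Type u} [CommGroup M]
  {T T' : Type u} [CommRing T] [CommRing T'] [Algebra A T] [Algebra A T'] {e : C}

/-- Base change of a clopen part mapped isomorphically to a diagonalisable group. -/
theorem exists_clopen_bc (he : IsIdempotentElem e) (f : T →ₐ[A] T') (p : T ⊗[A] C →ₐc[T] MonoidAlgebra T M)
    (hp : Function.Surjective p) (hk : ∀ z, p z = 0 ↔ z ∈ Ideal.span {(1 : T) ⊗ₜ[A] e}) :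
    ∃ p' : T' ⊗[A] C →ₐc[T'] MonoidAlgebra T' M, Function.Surjective p' ∧
      (∀ z, p' z = 0 ↔ z ∈ Ideal.span {(1 : T') ⊗ₜ[A] e}) ∧
      ∀ z, p' (coefMap C f z) = mapRingHom M (f : T →+* T') (p z) := by
  classical
  obtain ⟨p', hp'⟩ := exists_bc f p
  let ê : T ⊗[A] C := (1 : T) ⊗ₜ[A] e
  let ê' : T' ⊗[A] C := (1 : T') ⊗ₜ[A] e
  have hê : IsIdempotentElem ê := by
    change _ * _ = _
    rw [Algebra.TensorProduct.tmul_mul_tmul, _root_.mul_one, he.eq]
  have hpe : p ê = 0 := (hk _).mpr (Ideal.subset_span rfl)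
  have hwd : ∀ w w', p w = p w' → (1 - ê) * w = (1 - ê) * w' := fun w w' h => by
    obtain ⟨d, hd⟩ := Ideal.mem_span_singleton'.mp ((hk (w - w')).mp (by rw [map_sub, h, sub_self]))
    rw [← sub_eq_zero, ← mul_sub, ← hd, mul_comm d, ← mul_assoc, sub_mul, _root_.one_mul, hê.eq, sub_self, zero_mul]
  choose pre hpre using hp
  let v : M → T' ⊗[A] C := fun m => coefMap C f ((1 - ê) * pre (single m 1))
  let s' : MonoidAlgebra T' M →ₗ[T'] T' ⊗[A] C := (MonoidAlgebra.basis M T').constr T' v
  have hs' : ∀ w, s' (mapRingHom M (f : T →+* T') (p w)) = coefMap C f ((1 - ê) * w) := by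
    suffices h : ∀ y, s' (mapRingHom M (f : T →+* T') y) = coefMap C f ((1 - ê) * pre y) by
      intro w
      rw [h]
      exact congrArg _ (hwd _ _ (hpre _))
    intro y
    induction y using MonoidAlgebra.induction_linear with
    | zero =>
      rw [map_zero, map_zero]
      rw [show (1 - ê) * pre 0 = (1 - ê) * 0 from hwd _ _ (by rw [hpre, map_zero]), mul_zero, map_zero]
    | add x y hx hy =>
      rw [map_add, map_add, hx, hy, ← map_add, ← mul_add]
      exact congrArg _ (hwd _ _ (by rw [map_add, hpre, hpre, hpre]))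
    | single m r =>
      rw [mapRingHom_single, show (single m ((f : T →+* T') r) : MonoidAlgebra T' M) = f r • MonoidAlgebra.basis M T' m by simp,
        map_smul, Module.Basis.constr_basis, ← coefMap_smul, ← mul_smul_comm]
      exact congrArg _ (hwd _ _ (by rw [map_smul, hpre, hpre]; simp))
  have hpe' : p' ê' = 0 := by
    have := hp' ê
    rwa [hpe, map_zero, coefMap_tmul, map_one] at this
  have hone : coefMap C f (1 - ê) = 1 - ê' := by
    rw [map_sub, map_one, coefMap_tmul, map_one]
  have hsec : ∀ z, s' (p' z) = (1 - ê') * z := by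
    intro z
    induction z using TensorProduct.induction_on with
    | zero => simp
    | add x y hx hy => simp only [mul_add, map_add, hx, hy]
    | tmul t c =>
      rw [show t ⊗ₜ[A] c = t • ((1 : T') ⊗ₜ[A] c) by rw [smul_tmul', smul_eq_mul, _root_.mul_one], map_smul,
        map_smul, mul_smul_comm]
      have h1 : (1 : T') ⊗ₜ[A] c = coefMap C f ((1 : T) ⊗ₜ[A] c) := by rw [coefMap_tmul, map_one]
      rw [h1, hp', hs', map_mul, hone]
  refine ⟨p', fun y => ?_, fun z => ⟨fun hz => ?_, fun hz => ?_⟩, hp'⟩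
  · induction y using MonoidAlgebra.induction_linear with
    | zero => exact ⟨0, map_zero _⟩
    | add x y hx hy =>
      obtain ⟨a, rfl⟩ := hx
      obtain ⟨b, rfl⟩ := hy
      exact ⟨a + b, map_add _ _ _⟩
    | single m r =>
      refine ⟨r • coefMap C f (pre (single m 1)), ?_⟩
      rw [map_smul, hp', hpre, mapRingHom_single, map_one]
      simp
  · have h1 := hsec z
    rw [hz, map_zero] at h1
    rw [show z = z * ê' by linear_combination -h1]
    exact Ideal.mul_mem_left _ _ (Ideal.subset_span rfl)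
  · obtain ⟨d, rfl⟩ := Ideal.mem_span_singleton'.mp hz
    rw [map_mul, show (1 : T') ⊗ₜ[A] e = ê' from rfl, hpe', mul_zero]

end BC

section Vanish

variable {R : Type u} [CommRing R] {C : Type u} [CommRing C] [HopfAlgebra R C] {e : C} {M : Type u} [CommGroup M]
  {E : Type u} [CommRing E] [Algebra R E] [Module.FaithfullyFlat R E]

/-- A clopen part containing the unit and killed by the torsion vanishes. -/
theorem eq_zero_of_torsion_clopen [Coalgebra.IsCocomm R C] [Algebra.FiniteType R C] (he : IsIdempotentElem e)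
    (p : E ⊗[R] C →ₐc[E] MonoidAlgebra E M) (hp : Function.Surjective p)
    (hk : ∀ z, p z = 0 ↔ z ∈ Ideal.span {(1 : E) ⊗ₜ[R] e})
    (htor : ∀ n, 0 < n → e ∈ SGA3b.torsionIdeal R C n) : e = 0 := by
  refine he.eq_zero_of_isNilpotent ?_
  rw [nilpotent_iff_mem_prime]
  intro q hq
  let F := q.ResidueField
  let ρ : C →ₐ[R] F := IsScalarTower.toAlgHom R C F
  haveI : Nontrivial (F ⊗[R] E) := by
    obtain ⟨P, -⟩ := PrimeSpectrum.comap_surjective_of_faithfullyFlat (B := F ⊗[R] E) (⊥ : PrimeSpectrum F)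
    exact ⟨0, 1, fun h => P.isPrime.ne_top ((Ideal.eq_top_iff_one _).mpr (h ▸ P.asIdeal.zero_mem))⟩
  obtain ⟨P, hP⟩ := Ideal.exists_maximal (F ⊗[R] E)
  letI := Ideal.Quotient.field P
  let K := AlgebraicClosure ((F ⊗[R] E) ⧸ P)
  let χ : F ⊗[R] E →ₐ[R] K := (IsScalarTower.toAlgHom R ((F ⊗[R] E) ⧸ P) K).comp (Ideal.Quotient.mkₐ R P)
  obtain ⟨pK, hpK, hkK, -⟩ := exists_clopen_bc he
    (χ.comp (Algebra.TensorProduct.includeRight : E →ₐ[R] F ⊗[R] E)) p hp hk
  haveI : Group.FG M := by
    haveI : Algebra.FiniteType K (MonoidAlgebra K M) :=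
      Algebra.FiniteType.of_surjective (pK : K ⊗[R] C →ₐ[K] MonoidAlgebra K M) hpK
    exact (MonoidAlgebra.finiteType_iff_group_fg (R := K)).mp inferInstance
  have htor' : ∀ n, 0 < n → (1 : K) ⊗ₜ[R] e ∈ SGA3b.torsionIdeal K (K ⊗[R] C) n := fun n hn => by
    have hle : (SGA3b.torsionIdeal R C n).map (Algebra.TensorProduct.includeRight : C →ₐ[R] K ⊗[R] C) ≤
        SGA3b.torsionIdeal K (K ⊗[R] C) n := by
      rw [SGA3b.torsionIdeal, Ideal.map_le_iff_le_comap, Ideal.map_le_iff_le_comap]
      intro a ha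
      change (1 : K) ⊗ₜ[R] SGA3b.powConv R C n a ∈ SGA3b.torsionIdeal K (K ⊗[R] C) n
      rw [← GrothLib.OT.powConv_baseChange]
      refine Ideal.mem_map_of_mem _ (RingHom.mem_ker.mpr ?_)
      change Coalgebra.counit (R := K) ((1 : K) ⊗ₜ[R] a) = 0
      rw [TensorProduct.counit_tmul, show Coalgebra.counit (R := R) a = 0 from (RingHom.mem_ker.mp ha :), zero_smul]
    exact hle (Ideal.mem_map_of_mem _ (htor n hn))
  have he' : IsIdempotentElem ((1 : K) ⊗ₜ[R] e) := by
    change _ * _ = _
    rw [Algebra.TensorProduct.tmul_mul_tmul, _root_.mul_one, he.eq]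
  have h0 := eq_zero_of_torsion_points he' pK hpK hkK htor'
  let v : C →ₐ[R] K := ((χ.comp (Algebra.TensorProduct.includeLeft : F →ₐ[R] F ⊗[R] E))).comp ρ
  have h3 := congrArg (Algebra.TensorProduct.lift (AlgHom.id R K) v fun _ _ => Commute.all _ _) h0
  rw [Algebra.TensorProduct.lift_tmul, map_zero, map_one, _root_.one_mul] at h3
  have h4 : ρ e = 0 := (map_eq_zero_iff (χ.comp (Algebra.TensorProduct.includeLeft : F →ₐ[R] F ⊗[R] E)).toRingHom
    (RingHom.injective _)).mp h3
  exact Ideal.algebraMap_residueField_eq_zero.mp h4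

/-- The idempotent of a clopen part mapped to a diagonalisable group vanishes on the unit section. -/
theorem counit_eq_zero_of_clopen (p : E ⊗[R] C →ₐc[E] MonoidAlgebra E M)
    (hk : ∀ z, p z = 0 ↔ z ∈ Ideal.span {(1 : E) ⊗ₜ[R] e}) : Coalgebra.counit (R := R) e = 0 := by
  refine FaithfulSMul.algebraMap_injective R E ?_
  have h := CoalgHomClass.counit_comp_apply p ((1 : E) ⊗ₜ[R] e)
  rw [(hk _).mpr (Ideal.subset_span rfl), map_zero, TensorProduct.counit_tmul, CommSemiring.counit_apply,
    ← Algebra.algebraMap_eq_smul_one] at h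
  rw [map_zero]
  exact h.symm

/-- With vanishing idempotent the group is of multiplicative type. -/
theorem isMultType_of_clopen (p : E ⊗[R] C →ₐc[E] MonoidAlgebra E M) (hp : Function.Surjective p)
    (hk : ∀ z, p z = 0 ↔ z ∈ Ideal.span {(1 : E) ⊗ₜ[R] e}) (he0 : e = 0) : SGA3b.IsMultType R C := by
  have hinj : Function.Injective p := (injective_iff_map_eq_zero p).mpr fun z hz => by
    obtain ⟨d, rfl⟩ := Ideal.mem_span_singleton'.mp ((hk z).mp hz)
    rw [he0, tmul_zero, mul_zero]
  obtain ⟨g, hg⟩ := exists_frame_of_equiv (BialgEquiv.ofBijective p ⟨hinj, hp⟩)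
  refine ⟨{1}, Ideal.span_singleton_one, fun f _ => ?_⟩
  let S := Localization.Away f
  let T := S ⊗[R] E
  exact ⟨T, inferInstance, inferInstance, inferInstance, M, inferInstance,
    ⟨(((hg.map (Algebra.TensorProduct.includeRight : E →ₐ[R] T))).push
      (GrothLib.Hopf.cancelBaseChange R S T C).symm).equiv.symm⟩⟩

/-- Multiplicative type descends along faithfully flat maps for a local base. -/
theorem isMultType_of_ff [IsLocalRing R] (R' : Type u) [CommRing R'] [IsLocalRing R'] [Algebra R R']
    [Module.FaithfullyFlat R R'] (h : SGA3b.IsMultType R' (R' ⊗[R] C)) : SGA3b.IsMultType R C := by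
  obtain ⟨E', _, _, _, N, _, hff, -, ⟨η⟩⟩ := GrothLib.Hopf.exists_local_chart h
  letI : Algebra R E' := Algebra.compHom E' (algebraMap R R')
  haveI : IsScalarTower R R' E' := IsScalarTower.of_algebraMap_eq fun _ => rfl
  haveI := hff
  haveI : Module.FaithfullyFlat R E' := Module.FaithfullyFlat.trans R R' E'
  obtain ⟨g, hg⟩ := exists_frame_of_equiv η
  have hg' := hg.push (GrothLib.Hopf.cancelBaseChange R R' E' C)
  refine ⟨{1}, Ideal.span_singleton_one, fun f _ => ?_⟩
  let S := Localization.Away f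
  let T := S ⊗[R] E'
  exact ⟨T, inferInstance, inferInstance, inferInstance, N, inferInstance,
    ⟨(((hg'.map (Algebra.TensorProduct.includeRight : E' →ₐ[R] T))).push
      (GrothLib.Hopf.cancelBaseChange R S T C).symm).equiv.symm⟩⟩

end Vanish

end GrothLib.MultLocal
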