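import Groth.Agent.Lib.MultLocal.Torsion
import Groth.Agent.Lib.MultLocal.Descent
import Groth.Agent.Lib.MultLocal.Glue
import Mathlib.RingTheory.HopfAlgebra.Quotient
import Mathlib.RingTheory.HopfAlgebra.TensorProduct

/-!
Idempotent subgroups descend along faithfully flat algebras.
-/

universe u

set_option linter.style.haveILetI false
set_option maxSynthPendingDepth 3

open TensorProduct MonoidAlgebra

namespace GrothLib.MultLocal

/-- An idempotent of a group algebra lying in the Jacobson radical of the base vanishes. -/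
theorem eq_zero_of_idem_mem {E : Type u} [CommRing E] {M : Type u} [CommGroup M] {J : Ideal E}
    (hJ : J ≤ (⊥ : Ideal E).jacobson) {x : MonoidAlgebra E M} (hx : IsIdempotentElem x)
    (hmem : ∀ m, x.coeff m ∈ J) : x = 0 := by
  classical
  let 𝔞 : Ideal E := Ideal.span (x.coeff.support.image x.coeff : Finset E)
  have hm : ∀ m, x.coeff m ∈ 𝔞 := fun m => by
    by_cases h : m ∈ x.coeff.support
    · exact Ideal.subset_span (Finset.mem_image_of_mem _ h)
    · rw [Finsupp.notMem_support_iff.mp h]; exact zero_mem _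
  have hle : 𝔞 ≤ 𝔞 • 𝔞 := by
    refine Ideal.span_le.mpr fun r hr => ?_
    obtain ⟨m, -, rfl⟩ := Finset.mem_image.mp hr
    have hxx : (x * x).coeff m = x.coeff m := by rw [hx.eq]
    rw [SetLike.mem_coe, ← hxx, MonoidAlgebra.coeff_mul]
    simp only [Finsupp.sum, Finsupp.coe_finset_sum, Finset.sum_apply]
    refine Submodule.sum_mem _ fun a _ => Submodule.sum_mem _ fun b _ => ?_
    split_ifs
    · exact Submodule.smul_mem_smul (hm a) (hm b)
    · exact zero_mem _
  have h𝔞J : 𝔞 ≤ J := Ideal.span_le.mpr fun r hr => by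
    obtain ⟨m, -, rfl⟩ := Finset.mem_image.mp hr
    exact hmem m
  have h0 : 𝔞 = ⊥ := Submodule.eq_bot_of_le_smul_of_le_jacobson_bot 𝔞 𝔞 (Submodule.fg_span (Finset.finite_toSet _)) hle
    (h𝔞J.trans hJ)
  exact MonoidAlgebra.ext (Finsupp.ext fun m => Ideal.mem_bot.mp (h0 ▸ hm m))

variable {A : Type u} [CommRing A] {C : Type u} [CommRing C] [HopfAlgebra A C] {B : Type u} [CommRing B] [Algebra A B]
  [Module.FaithfullyFlat A B] {M : Type u} [CommGroup M]

/-- A subgroup cut out by an idempotent which becomes diagonalisable after a faithfully flat extension. -/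
theorem exists_hopfIdeal_of_idem (e₀ : C) (f : B ⊗[A] C →ₐc[B] MonoidAlgebra B M) (hf : Function.Surjective f)
    (hfe : f ((1 : B) ⊗ₜ e₀) = 0) (hker : ∀ k, f k = 0 → ((1 : B) ⊗ₜ e₀) * k = k) :
    ∃ _ : (Ideal.span {e₀}).IsHopfIdeal A,
      Nonempty (B ⊗[A] (C ⧸ Ideal.span {e₀}) ≃ₐc[B] MonoidAlgebra B M) := by
  let K := Ideal.span {e₀}
  let q : C →ₐ[A] C ⧸ K := Ideal.Quotient.mkₐ A K
  let qB : B ⊗[A] C →ₐ[B] B ⊗[A] (C ⧸ K) := Algebra.TensorProduct.map (AlgHom.id B B) q
  have hqe : qB ((1 : B) ⊗ₜ e₀) = 0 := by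
    rw [Algebra.TensorProduct.map_tmul, show q e₀ = 0 from
      Ideal.Quotient.eq_zero_iff_mem.mpr (Ideal.mem_span_singleton_self e₀), tmul_zero]
  have hle : RingHom.ker (f : B ⊗[A] C →ₐ[B] MonoidAlgebra B M).toRingHom ≤ RingHom.ker qB.toRingHom := fun k hk => by
    rw [RingHom.mem_ker]
    change qB k = 0
    rw [← hker k hk, map_mul, hqe, zero_mul]
  let ρr : MonoidAlgebra B M →+* B ⊗[A] (C ⧸ K) :=
    RingHom.liftOfSurjective (f : B ⊗[A] C →ₐ[B] MonoidAlgebra B M).toRingHom hf ⟨qB.toRingHom, hle⟩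
  have hρ : ∀ s, ρr (f s) = qB s :=
    RingHom.liftOfRightInverse_comp_apply _ _ (Function.rightInverse_surjInv hf) ⟨qB.toRingHom, hle⟩
  let ρ : MonoidAlgebra B M →ₐ[B] B ⊗[A] (C ⧸ K) :=
    ⟨ρr, fun b => by
      have h : f (algebraMap B (B ⊗[A] C) b) = algebraMap B _ b := (f : B ⊗[A] C →ₐ[B] MonoidAlgebra B M).commutes b
      change ρr (algebraMap B (MonoidAlgebra B M) b) = _
      rw [← h, hρ, qB.commutes]⟩
  have hρ' : ∀ s, ρ (f s) = qB s := hρ
  have hzero : ∀ z : C, (∀ s, s = (1 : B) ⊗ₜ[A] z → f s = 0) → z ∈ K := by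
    intro z hz
    have h := hρ' ((1 : B) ⊗ₜ z)
    rw [hz _ rfl, map_zero, Algebra.TensorProduct.map_tmul, map_one] at h
    exact Ideal.Quotient.eq_zero_iff_mem.mp (Module.FaithfullyFlat.tensorProduct_mk_injective (A := A) (B := B) _
      (h.symm.trans (tmul_zero _ _).symm))
  have hK : ∀ x ∈ K, f ((1 : B) ⊗ₜ x) = 0 := by
    intro x hx
    obtain ⟨c, rfl⟩ := Ideal.mem_span_singleton'.mp hx
    rw [show (1 : B) ⊗ₜ[A] (c * e₀) = ((1 : B) ⊗ₜ[A] c) * ((1 : B) ⊗ₜ[A] e₀) by
      rw [Algebra.TensorProduct.tmul_mul_tmul, _root_.one_mul], map_mul, hfe, mul_zero]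
  have h1 : ∀ x ∈ K, Coalgebra.counit (R := A) x = 0 := by
    intro x hx
    apply FaithfulSMul.algebraMap_injective A B
    have h := CoalgHomClass.counit_comp_apply f ((1 : B) ⊗ₜ[A] x)
    rw [hK x hx, map_zero, TensorProduct.counit_tmul, CommSemiring.counit_apply] at h
    rw [map_zero, h, Algebra.algebraMap_eq_smul_one]
  have h2 : ∀ x ∈ K, Algebra.TensorProduct.map q q (Coalgebra.comul x) = 0 := by
    intro x hx
    refine Module.FaithfullyFlat.tensorProduct_mk_injective (A := A) (B := B) ((C ⧸ K) ⊗[A] (C ⧸ K)) ?_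
    have h := CoalgHomClass.map_comp_comul_apply f ((1 : B) ⊗ₜ[A] x)
    rw [hK x hx, map_zero, comul_one_tmul] at h
    let χ : (B ⊗[A] (C ⧸ K)) ⊗[B] (B ⊗[A] (C ⧸ K)) →ₐ[B] B ⊗[A] ((C ⧸ K) ⊗[A] (C ⧸ K)) :=
      Algebra.TensorProduct.lift (Algebra.TensorProduct.map (AlgHom.id B B) Algebra.TensorProduct.includeLeft)
        (Algebra.TensorProduct.map (AlgHom.id B B) Algebra.TensorProduct.includeRight) fun _ _ => Commute.all _ _
    have key : ∀ z : C ⊗[A] C, (1 : B) ⊗ₜ[A] Algebra.TensorProduct.map q q z =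
        χ (TensorProduct.map ρ.toLinearMap ρ.toLinearMap
          (TensorProduct.map (f : B ⊗[A] C →ₗ[B] MonoidAlgebra B M)
            (f : B ⊗[A] C →ₗ[B] MonoidAlgebra B M) (sqMap A C B z))) := by
      intro z
      induction z using TensorProduct.induction_on with
      | zero => simp [sqMap]
      | add u v hu hv => simp only [sqMap, tmul_add, map_add] at hu hv ⊢; rw [hu, hv]
      | tmul u v =>
        rw [sqMap_tmul, TensorProduct.map_tmul, TensorProduct.map_tmul, Algebra.TensorProduct.map_tmul]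
        change _ = χ (ρ (f ((1 : B) ⊗ₜ u)) ⊗ₜ ρ (f ((1 : B) ⊗ₜ v)))
        rw [hρ', hρ', Algebra.TensorProduct.map_tmul, Algebra.TensorProduct.map_tmul, Algebra.TensorProduct.lift_tmul]
        simp
    simp only [TensorProduct.mk_apply, tmul_zero]
    exact (key _).trans (by rw [h, map_zero, map_zero])
  have h3 : ∀ x ∈ K, HopfAlgebraStruct.antipode A x ∈ K := by
    intro x hx
    refine hzero _ fun s hs => ?_
    subst hs
    have h := LinearMap.congr_fun (antipode_bialgHom f) ((1 : B) ⊗ₜ[A] x)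
    simp only [LinearMap.comp_apply] at h
    have hS : HopfAlgebraStruct.antipode B ((1 : B) ⊗ₜ[A] x) = (1 : B) ⊗ₜ[A] HopfAlgebraStruct.antipode A x := by
      simp
    rw [← hS]
    refine Eq.trans h.symm ?_
    change HopfAlgebraStruct.antipode B (f ((1 : B) ⊗ₜ[A] x)) = 0
    rw [hK x hx, map_zero]
  have hco : (K.restrictScalars A).IsCoideal := ⟨fun x hx => h1 x hx, fun x hx => h2 x hx⟩
  have hI : K.IsHopfIdeal A := { toIsCoideal := hco, antipode_mem := fun x hx => h3 x hx }
  refine ⟨hI, ?_⟩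
  have hρs : Function.Surjective ρ := fun z => by
    have hsq : Function.Surjective q.toLinearMap := Ideal.Quotient.mk_surjective
    obtain ⟨s, hs⟩ := LinearMap.lTensor_surjective B hsq z
    refine ⟨f s, (hρ' s).trans (Eq.trans ?_ hs)⟩
    clear hs
    induction s using TensorProduct.induction_on with
    | zero => simp
    | add u v hu hv => simp only [map_add, hu, hv]
    | tmul u v => rfl
  have hρi : Function.Injective ρ := (injective_iff_map_eq_zero ρ).mpr fun z hz => by
    obtain ⟨s, rfl⟩ := hf z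
    rw [hρ'] at hz
    have hk : RingHom.ker (Algebra.TensorProduct.map (AlgHom.id A B) q) =
        (RingHom.ker q).map (Algebra.TensorProduct.includeRight : C →ₐ[A] B ⊗[A] C) :=
      Algebra.TensorProduct.lTensor_ker q Ideal.Quotient.mk_surjective
    have hs : s ∈ RingHom.ker (Algebra.TensorProduct.map (AlgHom.id A B) q) := hz
    rw [hk, show RingHom.ker q = K from Ideal.mk_ker, Ideal.map_span, Set.image_singleton,
      Ideal.mem_span_singleton'] at hs
    obtain ⟨c, rfl⟩ := hs
    rw [map_mul]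
    exact (congrArg (f c * ·) hfe).trans (mul_zero _)
  let qbi : B ⊗[A] C →ₐc[B] B ⊗[A] (C ⧸ K) :=
    Bialgebra.TensorProduct.map (BialgHom.id B B) (BialgHom.ofAlgHom q
      (AlgHom.ext fun x => rfl) (AlgHom.ext fun x => rfl))
  have hqbi : ∀ s, qbi s = qB s := fun s => by
    induction s using TensorProduct.induction_on with
    | zero => simp
    | add u v hu hv => simp only [map_add, hu, hv]
    | tmul u v => rfl
  refine ⟨(BialgEquiv.ofBijective (BialgHom.ofAlgHom ρ (AlgHom.ext fun z => ?_) (AlgHom.ext fun z => ?_))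
    ⟨hρi, hρs⟩).symm⟩
  · obtain ⟨s, rfl⟩ := hf z
    change Coalgebra.counit (R := B) (ρ (f s)) = Coalgebra.counit (R := B) (f s)
    rw [hρ', ← hqbi, CoalgHomClass.counit_comp_apply qbi, CoalgHomClass.counit_comp_apply f]
  · obtain ⟨s, rfl⟩ := hf z
    change TensorProduct.map ρ.toLinearMap ρ.toLinearMap (Coalgebra.comul (f s)) = Coalgebra.comul (ρ (f s))
    rw [hρ', ← hqbi, ← CoalgHomClass.map_comp_comul_apply qbi, ← CoalgHomClass.map_comp_comul_apply f,
      TensorProduct.map_map]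
    congr 1
    refine congrArg₂ TensorProduct.map ?_ ?_ <;> exact LinearMap.ext fun y => (hρ' y).trans (hqbi y).symm

end GrothLib.MultLocal
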