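import Groth.Agent.Lib.MultLocal.Torsion
import Groth.Agent.Lib.MultLocal.Main
import Groth.Agent.Lib.Hopf.Translate
import Groth.Agent.Lib.Hopf.PointLift
import Mathlib.Algebra.Category.Grp.Injective
import Mathlib.GroupTheory.FiniteAbelian.Basic
import Mathlib.FieldTheory.IsAlgClosed.AlgebraicClosure
import Mathlib.RingTheory.IntegralClosure.IsIntegralClosure.Basic
import Mathlib.RingTheory.TensorProduct.Quotient

/-!
The torsion points are dense in a commutative group with an open subgroup of multiplicative type.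
-/

universe u

set_option linter.style.haveILetI false
set_option maxSynthPendingDepth 3

open TensorProduct WithConv MonoidAlgebra

namespace GrothLib.MultLocal

section Points

variable {K : Type u} [Field K] {M : Type u} [CommGroup M]

/-- A homomorphism on a subgroup extends to an algebraically closed field. -/
theorem exists_extend_character [IsAlgClosed K] (P : Subgroup M) (χ : P →* Kˣ) :
    ∃ ψ : M →* Kˣ, ∀ x : P, ψ x = χ x := by
  haveI : DivisibleBy (Additive Kˣ) ℕ := divisibleByOfSMulRightSurj _ _ fun {n} hn a => by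
    obtain ⟨z, hz⟩ := IsAlgClosed.exists_pow_nat_eq ((Additive.toMul a : Kˣ) : K) (Nat.pos_of_ne_zero hn)
    have hz0 : z ≠ 0 := fun h => (Additive.toMul a : Kˣ).ne_zero (by rw [← hz, h, zero_pow hn])
    exact ⟨Additive.ofMul (Units.mk0 z hz0), congrArg Additive.ofMul
      (Units.ext (by simpa using hz) : Units.mk0 z hz0 ^ n = Additive.toMul a)⟩
  haveI : DivisibleBy (Additive Kˣ) ℤ := AddGroup.divisibleByIntOfDivisibleByNat _
  obtain ⟨h, hh⟩ := (Module.Baer.of_divisible (Additive Kˣ)).extension_property_addMonoidHom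
    (P.subtype.toAdditive) (fun a b hab => Additive.toMul.injective (Subtype.ext (congrArg Additive.toMul hab)))
    χ.toAdditive
  exact ⟨MonoidHom.toAdditive.symm h, fun x => congrArg Additive.toMul (DFunLike.congr_fun hh (Additive.ofMul x))⟩

variable {C : Type u} [CommRing C] [HopfAlgebra K C] [Coalgebra.IsCocomm K C]

/-- A point of a subgroup given by a homomorphism to a diagonalisable group. -/
noncomputable def charPt (p : C →ₐc[K] MonoidAlgebra K M) :
    (M →* K) →* WithConv (C →ₐ[K] K) where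
  toFun ψ := toConv ((MonoidAlgebra.lift K K M ψ).comp (p : C →ₐ[K] MonoidAlgebra K M))
  map_one' := by
    have h : MonoidAlgebra.lift K K M (1 : M →* K) = (1 : WithConv (MonoidAlgebra K M →ₐ[K] K)).ofConv :=
      MonoidAlgebra.algHom_ext (fun m => by simp) (Subsingleton.elim _ _)
    rw [h, GrothLib.Hopf.convOne_comp_bialgHom]
  map_mul' ψ ψ' := by
    have h : MonoidAlgebra.lift K K M (ψ * ψ') = (toConv (MonoidAlgebra.lift K K M ψ) *
        toConv (MonoidAlgebra.lift K K M ψ')).ofConv :=
      MonoidAlgebra.algHom_ext (fun m => by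
        rw [AlgHom.convMul_apply, (isGroupLikeElem_single_one (R := K) (A := K) m).comul_eq_tmul_self]
        simp) (Subsingleton.elim _ _)
    rw [h, GrothLib.Hopf.convMul_comp_bialgHom]

theorem convPow_apply_torsion (h : WithConv (C →ₐ[K] K)) (n : ℕ) (a : C) :
    h.ofConv (SGA3b.powConv K C n a) = (h ^ n).ofConv a := by
  suffices hs : toConv (h.ofConv.comp ((toConv (AlgHom.id K C)) ^ n).ofConv) = h ^ n from
    DFunLike.congr_fun (congrArg WithConv.ofConv hs) a
  induction n with
  | zero => rw [pow_zero, pow_zero, GrothLib.Hopf.comp_convOne, toConv_ofConv]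
  | succ n ih => rw [pow_succ, pow_succ, GrothLib.Hopf.comp_convMul, ih, ofConv_toConv, AlgHom.comp_id, toConv_ofConv]

/-- Points killing an open subgroup's idempotent and the torsion: the idempotent vanishes. -/
theorem eq_zero_of_torsion_points [IsAlgClosed K] [Algebra.FiniteType K C] [Group.FG M] {e : C} (he : IsIdempotentElem e)
    (p : C →ₐc[K] MonoidAlgebra K M) (hp : Function.Surjective p) (hker : ∀ c, p c = 0 ↔ c ∈ Ideal.span {e})
    (htor : ∀ n, 0 < n → e ∈ SGA3b.torsionIdeal K C n) : e = 0 := by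
  classical
  refine he.eq_zero_of_isNilpotent (GrothLib.Hopf.isNilpotent_of_forall_point (K := K) fun x => ?_)
  have hzo : ∀ (y : C →ₐ[K] K), y e = 0 ∨ y e = 1 := fun y => IsIdempotentElem.iff_eq_zero_or_one.mp (he.map y)
  refine (hzo x).resolve_right fun hx => ?_
  let G : WithConv (C →ₐ[K] K) → Prop := fun y => ∃ ψ : M →* Kˣ, charPt p ((Units.coeHom K).comp ψ) = y
  have hG : ∀ y : WithConv (C →ₐ[K] K), y.ofConv e = 0 ↔ G y := by
    intro y
    constructor
    · intro hy
      have hle : RingHom.ker (p : C →ₐ[K] MonoidAlgebra K M) ≤ RingHom.ker y.ofConv := fun c hc => by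
        obtain ⟨d, rfl⟩ := Ideal.mem_span_singleton'.mp ((hker c).mp hc)
        rw [RingHom.mem_ker, map_mul, hy, mul_zero]
      let u : MonoidAlgebra K M →ₐ[K] K := (Ideal.Quotient.liftₐ _ y.ofConv fun a ha => hle ha).comp
        (Ideal.quotientKerAlgEquivOfSurjective (f := (p : C →ₐ[K] MonoidAlgebra K M)) hp).symm.toAlgHom
      have hu : u.comp (p : C →ₐ[K] MonoidAlgebra K M) = y.ofConv := AlgHom.ext fun c => by
        have : (Ideal.quotientKerAlgEquivOfSurjective (f := (p : C →ₐ[K] MonoidAlgebra K M)) hp).symm (p c) =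
            Ideal.Quotient.mk _ c := by
          apply (Ideal.quotientKerAlgEquivOfSurjective (f := (p : C →ₐ[K] MonoidAlgebra K M)) hp).injective
          rw [AlgEquiv.apply_symm_apply]
          rfl
        change Ideal.Quotient.liftₐ _ y.ofConv (fun a ha => hle ha) ((Ideal.quotientKerAlgEquivOfSurjective
          (f := (p : C →ₐ[K] MonoidAlgebra K M)) hp).symm (p c)) = y.ofConv c
        rw [this]
        rfl
      refine ⟨(((MonoidAlgebra.lift K K M).symm u)).toHomUnits, ?_⟩
      have hc : (Units.coeHom K).comp ((MonoidAlgebra.lift K K M).symm u).toHomUnits =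
          (MonoidAlgebra.lift K K M).symm u := MonoidHom.ext fun m => rfl
      rw [hc]
      change toConv ((MonoidAlgebra.lift K K M ((MonoidAlgebra.lift K K M).symm u)).comp _) = y
      rw [Equiv.apply_symm_apply, hu, toConv_ofConv]
    · rintro ⟨ψ, rfl⟩
      change MonoidAlgebra.lift K K M _ (p e) = 0
      rw [(hker e).mpr (Ideal.subset_span rfl), map_zero]
  have hGmul : ∀ y z, G y → G z → G (y * z) := by
    rintro _ _ ⟨ψ, rfl⟩ ⟨ψ', rfl⟩
    exact ⟨ψ * ψ', by rw [← map_mul (charPt p), MonoidHom.comp_mul]⟩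
  have hGcancel : ∀ y z, G z → G (y * z) → G y := by
    rintro y _ ⟨ψ, rfl⟩ h
    have h2 := hGmul _ _ h ⟨ψ⁻¹, rfl⟩
    rwa [mul_assoc, ← map_mul (charPt p), ← MonoidHom.comp_mul, mul_inv_cancel, MonoidHom.comp_one, map_one,
      _root_.mul_one] at h2
  set h : WithConv (C →ₐ[K] K) := toConv x
  let hi := GrothLib.Hopf.pinv h
  -- a power of the point lies in the subgroup
  obtain ⟨N, hN, hNG⟩ : ∃ N, 0 < N ∧ G (h ^ N) := by
    by_contra! hcon
    let f : ℕ → C := fun i => GrothLib.Hopf.shift (hi ^ i) (1 - e)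
    have hval : ∀ (y : C →ₐ[K] K) i, y (f i) = 1 - (hi ^ i * toConv y).ofConv e := fun y i => by
      have := DFunLike.congr_fun (congrArg WithConv.ofConv (GrothLib.Hopf.point_comp_shift (hi ^ i) (toConv y))) (1 - e)
      simp only [map_sub, map_one] at this
      simp only [f, map_sub, map_one]
      exact this
    have horth : ∀ i j, i < j → f i * f j = 0 := by
      intro i j hij
      refine IsIdempotentElem.eq_zero_of_isNilpotent (((he.one_sub.map _).mul (he.one_sub.map _)))
        (GrothLib.Hopf.isNilpotent_of_forall_point (K := K) fun y => ?_)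
      by_contra hne
      rw [map_mul] at hne
      obtain ⟨h1, h2⟩ := mul_ne_zero_iff.mp hne
      rw [hval] at h1 h2
      have g1 : G (hi ^ i * toConv y) := (hG _).mp ((hzo _).resolve_right fun hh => h1 (by rw [hh, sub_self]))
      have g2 : G (hi ^ j * toConv y) := (hG _).mp ((hzo _).resolve_right fun hh => h2 (by rw [hh, sub_self]))
      refine hcon (j - i) (Nat.sub_pos_of_lt hij) (hGcancel _ _ g2 ?_)
      have hp1 : h ^ (j - i) * hi ^ (j - i) = 1 := by rw [← mul_pow, GrothLib.Hopf.mul_pinv, one_pow]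
      have he2 : h ^ (j - i) * (hi ^ j * toConv y) = hi ^ i * toConv y := by
        rw [show hi ^ j = hi ^ (j - i) * hi ^ i by rw [← pow_add, Nat.sub_add_cancel hij.le],
          mul_assoc (hi ^ (j - i)), ← mul_assoc, hp1, _root_.one_mul]
      rw [he2]
      exact g1
    haveI : IsNoetherianRing C := Algebra.FiniteType.isNoetherianRing K C
    let chain : ℕ →o Ideal C :=
      ⟨fun n => Ideal.span (f '' Set.Iio n), fun a b hab => Ideal.span_mono (Set.image_mono (Set.Iio_subset_Iio hab))⟩
    obtain ⟨n, hn⟩ := (monotone_stabilizes_iff_noetherian (R := C) (M := C)).mpr inferInstance chain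
    have hmem : f n ∈ Ideal.span (f '' Set.Iio n) := by
      have := hn (n + 1) n.le_succ
      change f n ∈ chain n
      rw [this]
      exact Ideal.subset_span ⟨n, Nat.lt_succ_self n, rfl⟩
    have hzero : ∀ z ∈ Ideal.span (f '' Set.Iio n), z * f n = 0 := by
      intro z hz
      induction hz using Submodule.span_induction with
      | mem z hz => obtain ⟨i, hi', rfl⟩ := hz; exact horth i n hi'
      | zero => exact zero_mul _
      | add a b _ _ ha hb => rw [add_mul, ha, hb, add_zero]
      | smul r a _ ha => rw [smul_eq_mul, mul_assoc, ha, mul_zero]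
    have hfn : f n = 0 := by
      have hid : IsIdempotentElem (f n) := he.one_sub.map _
      rw [← hid.eq]
      exact hzero _ hmem
    have h1 := hval ((h ^ n).ofConv) n
    rw [hfn, map_zero, toConv_ofConv, ← mul_pow, GrothLib.Hopf.pinv_mul, one_pow] at h1
    change (0 : K) = 1 - algebraMap K K (Coalgebra.counit e) at h1
    have h0 : Coalgebra.counit (R := K) e = 0 := by
      rw [← CoalgHomClass.counit_comp_apply p, (hker e).mpr (Ideal.subset_span rfl), map_zero]
    rw [h0, map_zero, sub_zero] at h1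
    exact zero_ne_one h1
  obtain ⟨χ, hχ⟩ := hNG
  -- correct the torsion
  haveI : Finite (CommGroup.torsion M) := by
    haveI : Group.FG (CommGroup.torsion M) := by
      haveI : AddGroup.FG (Additive M) := GroupFG.iff_add_fg.mp inferInstance
      haveI : Module.Finite ℤ (Additive M) := Module.Finite.iff_addGroup_fg.mpr inferInstance
      refine (Subgroup.fg_iff_add_fg _).mpr ?_ |> (Group.fg_iff_subgroup_fg _).mpr
      have h' := (Submodule.fg_iff_addSubgroup_fg (AddSubgroup.toIntSubmodule (CommGroup.torsion M).toAddSubgroup)).mp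
        (IsNoetherian.noetherian _)
      exact h'
    refine CommGroup.finite_of_fg_isMulTorsion _ fun g => ?_
    obtain ⟨n, hn, h'⟩ := isOfFinOrder_iff_pow_eq_one.mp g.2
    exact isOfFinOrder_iff_pow_eq_one.mpr ⟨n, hn, Subtype.ext h'⟩
  let d := Monoid.exponent (CommGroup.torsion M)
  have hd : 0 < d := Nat.pos_of_ne_zero Monoid.exponent_ne_zero_of_finite
  let P : Subgroup M := powSub M (N * d)
  have hND : 0 < N * d := Nat.mul_pos hN hd
  have hwd : ∀ a b : M, a ^ (N * d) = b ^ (N * d) → χ a ^ d = χ b ^ d := by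
    intro a b hab
    have ht : a / b ∈ CommGroup.torsion M := by
      refine isOfFinOrder_iff_pow_eq_one.mpr ⟨N * d, hND, ?_⟩
      rw [div_pow, hab, div_self']
    have h1 : (a / b) ^ d = 1 := congrArg Subtype.val (Monoid.pow_exponent_eq_one (⟨a / b, ht⟩ : CommGroup.torsion M))
    have h2 : (χ (a / b)) ^ d = 1 := by rw [← map_pow, h1, map_one]
    rwa [map_div, div_pow, div_eq_one] at h2
  choose r hr using fun y : P => mem_powSub.mp y.2
  let χP : P →* Kˣ :=
    { toFun := fun y => χ (r y) ^ d
      map_one' := by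
        rw [hwd (r 1) 1 (by rw [hr, one_pow]; rfl), map_one, one_pow]
      map_mul' := fun y z => by
        rw [hwd (r (y * z)) (r y * r z) (by rw [hr, mul_pow, hr, hr]; rfl), map_mul, mul_pow] }
  obtain ⟨ψ, hψ⟩ := exists_extend_character P χP
  have hψpow : ψ ^ (N * d) = χ ^ d := MonoidHom.ext fun m => by
    have := hψ ⟨m ^ (N * d), mem_powSub.mpr ⟨m, rfl⟩⟩
    change (ψ m) ^ (N * d) = χ m ^ d
    rw [← map_pow, this]
    exact hwd _ _ (hr ⟨m ^ (N * d), mem_powSub.mpr ⟨m, rfl⟩⟩)
  let g₁ := charPt p ((Units.coeHom K).comp ψ)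
  let g₂ := charPt p ((Units.coeHom K).comp ψ⁻¹)
  have hg : g₁ * g₂ = 1 := by
    rw [← map_mul (charPt p), ← MonoidHom.comp_mul, mul_inv_cancel, MonoidHom.comp_one, map_one]
  have hg₁ : g₁ ^ (N * d) = h ^ (N * d) := by
    rw [pow_mul h, ← hχ, ← map_pow (charPt p), ← map_pow (charPt p)]
    refine congrArg (charPt p) (MonoidHom.ext fun m => ?_)
    have := congrArg Units.val (DFunLike.congr_fun hψpow m)
    simpa using this
  have hpow : (h * g₂) ^ (N * d) = 1 := by
    rw [mul_pow, ← hg₁, ← mul_pow, hg, one_pow]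
  have hkill : (h * g₂).ofConv e = 0 := by
    suffices hall : ∀ z ∈ SGA3b.torsionIdeal K C (N * d), (h * g₂).ofConv z = 0 from hall e (htor _ hND)
    intro z hz
    induction hz using Submodule.span_induction with
    | mem z hz =>
      obtain ⟨a, ha, rfl⟩ := hz
      rw [convPow_apply_torsion, hpow]
      change algebraMap K K (Coalgebra.counit a) = 0
      rw [show Coalgebra.counit (R := K) a = 0 from (RingHom.mem_ker.mp ha :), map_zero]
    | zero => exact map_zero _
    | add a b _ _ ha hb => rw [map_add, ha, hb, add_zero]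
    | smul c a _ ha => rw [smul_eq_mul, map_mul, ha, mul_zero]
  have hGx : G h := hGcancel h g₂ ⟨ψ⁻¹, rfl⟩ ((hG _).mp hkill)
  have := (hG h).mpr hGx
  change x e = 0 at this
  exact zero_ne_one (this.symm.trans hx)

end Points

/-- An idempotent cutting out an open subgroup of multiplicative type, contained in all torsion ideals, vanishes. -/
theorem eq_zero_of_torsion {R : Type u} [CommRing R] {C : Type u} [CommRing C] [HopfAlgebra R C]
    [Coalgebra.IsCocomm R C] [Algebra.FiniteType R C] {e : C} (he : IsIdempotentElem e) [(Ideal.span {e}).IsHopfIdeal R]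
    (E : Type u) [CommRing E] [Algebra R E] [Module.FaithfullyFlat R E] {M : Type u} [CommGroup M]
    {g : M →* GroupLike E (E ⊗[R] (C ⧸ Ideal.span {e}))} (hg : IsFrame g)
    (htor : ∀ n, 0 < n → e ∈ SGA3b.torsionIdeal R C n) : e = 0 := by
  refine he.eq_zero_of_isNilpotent ?_
  rw [nilpotent_iff_mem_prime]
  intro q hq
  let F := q.ResidueField
  let ρ : C →ₐ[R] F := IsScalarTower.toAlgHom R C F
  haveI : Nontrivial (F ⊗[R] E) := by
    obtain ⟨P, -⟩ := PrimeSpectrum.comap_surjective_of_faithfullyFlat (B := F ⊗[R] E) (⊥ : PrimeSpectrum F)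
    exact ⟨0, 1, fun h => P.isPrime.ne_top ((Ideal.eq_top_iff_one _).mpr (h ▸ P.asIdeal.zero_mem))⟩
  obtain ⟨P, hP⟩ := Ideal.exists_maximal (F ⊗[R] E)
  letI := Ideal.Quotient.field P
  let K := AlgebraicClosure ((F ⊗[R] E) ⧸ P)
  let χ : F ⊗[R] E →ₐ[R] K := (IsScalarTower.toAlgHom R ((F ⊗[R] E) ⧸ P) K).comp (Ideal.Quotient.mkₐ R P)
  have hK := hg.map (χ.comp (Algebra.TensorProduct.includeRight : E →ₐ[R] F ⊗[R] E))
  haveI : Group.FG M := fg_of_frame hK
  let π := Bialgebra.Quotient.mkBialgHom (R := R) (Ideal.span {e})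
  let p : K ⊗[R] C →ₐc[K] MonoidAlgebra K M :=
    (hK.equiv.symm : K ⊗[R] (C ⧸ Ideal.span {e}) →ₐc[K] MonoidAlgebra K M).comp (projT π K)
  have hps : Function.Surjective (projT π K) := by
    intro y
    induction y using TensorProduct.induction_on with
    | zero => exact ⟨0, map_zero _⟩
    | add u v hu hv =>
      obtain ⟨a, rfl⟩ := hu
      obtain ⟨b, rfl⟩ := hv
      exact ⟨a + b, map_add _ _ _⟩
    | tmul t c =>
      obtain ⟨c, rfl⟩ := Ideal.Quotient.mk_surjective c
      exact ⟨t ⊗ₜ c, rfl⟩
  have hker : ∀ z, p z = 0 ↔ z ∈ Ideal.span {(1 : K) ⊗ₜ[R] e} := by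
    intro z
    have h1 : p z = 0 ↔ projT π K z = 0 :=
      (map_eq_zero_iff _ (EquivLike.injective hK.equiv.symm))
    have h2 := Algebra.TensorProduct.lTensor_ker (A := K) (Ideal.Quotient.mkₐ R (Ideal.span {e}))
      (Ideal.Quotient.mkₐ_surjective R _)
    rw [h1]
    change Algebra.TensorProduct.map (AlgHom.id R K) (Ideal.Quotient.mkₐ R (Ideal.span {e})) z = 0 ↔ _
    rw [← RingHom.mem_ker, h2, show RingHom.ker (Ideal.Quotient.mkₐ R (Ideal.span {e})) = Ideal.span {e} from
      Ideal.mk_ker, Ideal.map_span, Set.image_singleton]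
    rfl
  have he' : IsIdempotentElem ((1 : K) ⊗ₜ[R] e) := by
    change _ * _ = _
    rw [Algebra.TensorProduct.tmul_mul_tmul, _root_.mul_one, he.eq]
  have htor' : ∀ n, 0 < n → (1 : K) ⊗ₜ[R] e ∈ SGA3b.torsionIdeal K (K ⊗[R] C) n := fun n hn => by
    have hle : (SGA3b.torsionIdeal R C n).map (Algebra.TensorProduct.includeRight : C →ₐ[R] K ⊗[R] C) ≤
        SGA3b.torsionIdeal K (K ⊗[R] C) n := by
      rw [SGA3b.torsionIdeal, Ideal.map_le_iff_le_comap, Ideal.map_le_iff_le_comap]
      intro a ha
      change (1 : K) ⊗ₜ[R] SGA3b.powConv R C n a ∈ SGA3b.torsionIdeal K (K ⊗[R] C) n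
      rw [← GrothLib.OT.powConv_baseChange]
      refine Ideal.mem_map_of_mem _ (RingHom.mem_ker.mpr ?_)
      change Coalgebra.counit (R := K) ((1 : K) ⊗ₜ[R] a) = 0
      rw [TensorProduct.counit_tmul, show Coalgebra.counit (R := R) a = 0 from (RingHom.mem_ker.mp ha :), zero_smul]
    exact hle (Ideal.mem_map_of_mem _ (htor n hn))
  have h0 := eq_zero_of_torsion_points he' p ((EquivLike.surjective hK.equiv.symm).comp hps) hker htor'
  let v : C →ₐ[R] K := ((χ.comp (Algebra.TensorProduct.includeLeft : F →ₐ[R] F ⊗[R] E))).comp ρ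
  have h3 := congrArg (Algebra.TensorProduct.lift (AlgHom.id R K) v fun _ _ => Commute.all _ _) h0
  rw [Algebra.TensorProduct.lift_tmul, map_zero, map_one, _root_.one_mul] at h3
  have h4 : ρ e = 0 := (map_eq_zero_iff (χ.comp (Algebra.TensorProduct.includeLeft : F →ₐ[R] F ⊗[R] E)).toRingHom
    (RingHom.injective _)).mp h3
  exact Ideal.algebraMap_residueField_eq_zero.mp h4

/-- An idempotent in the radical part lies in every ideal with finite quotient. -/
theorem mem_of_finite_quot {R : Type u} [CommRing R] {C : Type u} [CommRing C] [Algebra R C] {I : Ideal R}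
    (hI : I ≤ Ring.jacobson R) (T : Ideal C) [Module.Finite R (C ⧸ T)] {e : C} (he : IsIdempotentElem e)
    (heI : e ∈ I.map (algebraMap R C)) : e ∈ T := by
  let D := C ⧸ T
  have h1 : Ideal.Quotient.mk T e ∈ (⊥ : Ideal D).jacobson := by
    rw [Ideal.jacobson, Submodule.mem_sInf]
    rintro (m : Ideal D) ⟨-, hm⟩
    haveI := hm
    haveI : Algebra.IsIntegral R D := Algebra.IsIntegral.of_finite R D
    have hc : (m.comap (algebraMap R D)).IsMaximal := Ideal.isMaximal_comap_of_isIntegral_of_isMaximal m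
    have h2 : I ≤ m.comap (algebraMap R D) := hI.trans (Ring.jacobson_le_of_isMaximal _)
    have h3 : (I.map (algebraMap R C)).map (Ideal.Quotient.mk T) ≤ m := by
      rw [Ideal.map_map, Ideal.map_le_iff_le_comap]
      exact h2
    exact h3 (Ideal.mem_map_of_mem _ heI)
  have hu : IsUnit (1 - Ideal.Quotient.mk T e) := by
    have := (Ideal.mem_jacobson_bot.mp h1) (-1)
    rwa [mul_neg_one, neg_add_eq_sub] at this
  have hid := he.map (Ideal.Quotient.mk T)
  have h5 : Ideal.Quotient.mk T e * (1 - Ideal.Quotient.mk T e) = 0 := by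
    rw [mul_sub, _root_.mul_one, hid.eq, sub_self]
  exact Ideal.Quotient.eq_zero_iff_mem.mp ((hu.mul_left_eq_zero).mp h5)

end GrothLib.MultLocal
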