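import Groth.Agent.Lib.MultLocal.Main
import Groth.Agent.Lib.MultLocal.Quot
import Groth.Agent.Lib.Hopf.Descent
import Groth.Agent.Lib.Hopf.FiniteGroupPow
import Groth.Agent.Lib.OT.Rank
import Mathlib.RingTheory.Nakayama
import Mathlib.RingTheory.IntegralClosure.IsIntegralClosure.Basic

/-!
Subgroups of groups of multiplicative type with trivial closed fibre.
-/

universe u

set_option linter.style.haveILetI false
set_option maxSynthPendingDepth 3

open TensorProduct MonoidAlgebra WithConv

namespace GrothLib.MultLocal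

section Basic

variable {R : Type u} [CommRing R] {A : Type u} [CommRing A] [HopfAlgebra R A]

theorem counit_powConv (n : ℕ) (a : A) :
    Coalgebra.counit (R := R) (SGA3b.powConv R A n a) = Coalgebra.counit (R := R) a := by
  have h := GrothLib.Hopf.FiniteRank.comp_convPow (Bialgebra.counitAlgHom R A) (toConv (AlgHom.id R A)) n
  have h1 : toConv ((Bialgebra.counitAlgHom R A).comp (AlgHom.id R A)) = (1 : WithConv (A →ₐ[R] R)) := by
    refine WithConv.ext (AlgHom.ext fun x => ?_)
    simp
  rw [ofConv_toConv, h1, one_pow] at h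
  exact (DFunLike.congr_fun (congrArg ofConv h) a).trans (by simp)

theorem counit_eq_zero_of_mem_torsionIdeal (n : ℕ) {x : A} (hx : x ∈ SGA3b.torsionIdeal R A n) :
    Coalgebra.counit (R := R) x = 0 := by
  have : SGA3b.torsionIdeal R A n ≤ RingHom.ker (Bialgebra.counitAlgHom R A) :=
    Ideal.map_le_iff_le_comap.mpr fun a ha => by
      rw [Ideal.mem_comap, RingHom.mem_ker]
      exact (counit_powConv n a).trans (RingHom.mem_ker.mp ha :)
  exact (this hx :)

/-- Nakayama for the augmentation ideal of a finite algebra with a section. -/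
theorem eq_algebraMap_of_ker_le [IsLocalRing R] {F : Type u} [CommRing F] [Algebra R F] [Module.Finite R F]
    (ε : F →ₐ[R] R) (h : RingHom.ker ε ≤ (IsLocalRing.maximalIdeal R).map (algebraMap R F)) (x : F) :
    x = algebraMap R F (ε x) := by
  let P : F →ₗ[R] F := LinearMap.id - (Algebra.linearMap R F).comp ε.toLinearMap
  have hP : ∀ y, P y = y - algebraMap R F (ε y) := fun y => rfl
  have hεP : ∀ y, ε (P y) = 0 := fun y => by
    rw [hP, map_sub, AlgHom.commutes]; exact sub_self _
  suffices LinearMap.range P ≤ ⊥ from sub_eq_zero.mp ((Submodule.mem_bot R).mp (this ⟨x, rfl⟩))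
  refine Submodule.le_of_le_smul_of_le_jacobson_bot (I := IsLocalRing.maximalIdeal R)
    (LinearMap.range_eq_map P ▸ Module.Finite.fg_top.map P) (IsLocalRing.maximalIdeal_le_jacobson ⊥) ?_
  rw [bot_sup_eq]
  rintro _ ⟨y, rfl⟩
  have h1 : P y ∈ (IsLocalRing.maximalIdeal R) • (⊤ : Submodule R F) := by
    rw [Ideal.smul_top_eq_map]
    exact h (RingHom.mem_ker.mpr (hεP y))
  have h2 := Submodule.mem_map_of_mem (f := P) h1
  rw [Submodule.map_smul'', Submodule.map_top] at h2
  rwa [show P (P y) = P y by rw [hP (P y), hεP, map_zero, sub_zero]] at h2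

/-- A finitely generated group which is infinitely divisible is trivial. -/
theorem eq_one_of_forall_powSub {M : Type u} [CommGroup M] [Group.FG M] {x : M}
    (h : ∀ n, 0 < n → x ∈ powSub M n) : x = 1 := by
  by_contra hx
  obtain ⟨n, hn, hnx⟩ := exists_notMem_powSub hx
  exact hnx (h n hn)

/-- The torsion of a framed group of finite type is finite. -/
theorem finite_torsion_of_frame {R' : Type u} [CommRing R'] [Algebra R R'] [Module.FaithfullyFlat R R']
    {M : Type u} [CommGroup M] [Group.FG M] {g : M →* GroupLike R' (R' ⊗[R] A)} (hg : IsFrame g) {n : ℕ}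
    (hn : 0 < n) : Module.Finite R (A ⧸ SGA3b.torsionIdeal R A n) := by
  haveI := isCocomm_of_frame (T := R') hg
  haveI hJ : (SGA3b.torsionIdeal R A n).IsHopfIdeal R := isHopfIdeal_torsionIdeal n
  let π := Bialgebra.Quotient.mkBialgHom (R := R) (SGA3b.torsionIdeal R A n)
  have hπ : IsKerPow π n := ⟨Ideal.Quotient.mk_surjective, by
    ext x
    rw [RingHom.mem_ker]
    exact Ideal.Quotient.eq_zero_iff_mem⟩
  obtain ⟨gQ, hgQ, -⟩ := exists_frame_kernel π hπ hg
  haveI := finite_quot_powSub (M := M) hn
  haveI : Module.Finite R' (R' ⊗[R] (A ⧸ SGA3b.torsionIdeal R A n)) :=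
    Module.Finite.of_basis ((MonoidAlgebra.basis _ R').map hgQ.equiv.toLinearEquiv)
  exact .of_finite_tensorProduct_of_faithfullyFlat R'

end Basic

section Field

variable {K : Type u} [Field K]

/-- A quotient of a split group over a field without torsion is trivial. -/
theorem trivial_of_torsion_field {B : Type u} [CommRing B] [HopfAlgebra K B] {M : Type u} [CommGroup M] [Group.FG M]
    (g : M →* GroupLike K B) (hs : Function.Surjective (glHom g))
    (h : ∀ n, 0 < n → RingHom.ker (Bialgebra.counitAlgHom K B) ≤ SGA3b.torsionIdeal K B n) (b : B) :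
    b = algebraMap K B (Coalgebra.counit b) := by
  obtain ⟨gN, hgN⟩ := exists_frame_of_surjective_field g hs
  haveI : Group.FG g.range := Group.fg_range g
  have htriv : ∀ u : g.range, u = 1 := fun u => eq_one_of_forall_powSub fun n hn => by
    let χ : B →ₐ[K] MonoidAlgebra K (g.range ⧸ powSub g.range n) :=
      (mapDomainAlgHom K K (QuotientGroup.mk' (powSub g.range n))).comp hgN.equiv.symm.toAlgEquiv.toAlgHom
    have hχ : ∀ v, χ (gN v).val = single (v : g.range ⧸ powSub g.range n) 1 := fun v => by
      have h : hgN.equiv.symm (gN v).val = single v 1 := by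
        rw [← one_smul K (gN v).val, ← glHom_single gN v 1, ← hgN.equiv_apply, BialgEquiv.symm_apply_apply]
      change mapDomainAlgHom K K (QuotientGroup.mk' (powSub g.range n)) (hgN.equiv.symm (gN v).val) = _
      rw [h]
      simp
    have hpow : ∀ y, χ (SGA3b.powConv K B n y) = algebraMap K _ (Coalgebra.counit y) := by
      intro y
      obtain ⟨z, rfl⟩ := hgN.2 y
      induction z using MonoidAlgebra.induction_linear with
      | zero => simp
      | add x y hx hy => simp only [map_add, hx, hy]
      | single m r =>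
        rw [glHom_single, map_smul, map_smul, powConv_groupLike n (gN m).isGroupLikeElem_val, map_pow, hχ,
          map_smul, (gN m).isGroupLikeElem_val.counit_eq_one, single_pow, ← QuotientGroup.mk_pow,
          (QuotientGroup.eq_one_iff _).mpr (mem_powSub.mpr ⟨m, rfl⟩)]
        simp [Algebra.algebraMap_eq_smul_one, MonoidAlgebra.one_def]
    have hle : SGA3b.torsionIdeal K B n ≤ RingHom.ker χ := Ideal.map_le_iff_le_comap.mpr fun a ha => by
      rw [Ideal.mem_comap, RingHom.mem_ker, hpow, show Coalgebra.counit (R := K) a = 0 from (RingHom.mem_ker.mp ha :),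
        map_zero]
    have h1 : χ ((gN u).val - 1) = 0 := hle (h n hn (by
      rw [RingHom.mem_ker, map_sub, map_one, sub_eq_zero]
      exact (gN u).isGroupLikeElem_val.counit_eq_one))
    rw [map_sub, map_one, sub_eq_zero, hχ, MonoidAlgebra.one_def] at h1
    exact (QuotientGroup.eq_one_iff u).mp (single_one_injective h1)
  obtain ⟨z, rfl⟩ := hgN.2 b
  induction z using MonoidAlgebra.induction_linear with
  | zero => simp
  | add x y hx hy => rw [map_add, map_add, map_add, ← hx, ← hy]
  | single m r =>
    rw [glHom_single, map_smul, (gN m).isGroupLikeElem_val.counit_eq_one, htriv m, map_one, GroupLike.val_one,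
      smul_eq_mul, _root_.mul_one, Algebra.algebraMap_eq_smul_one]

end Field

section Local

variable {R : Type u} [CommRing R] {A : Type u} [CommRing A] [HopfAlgebra R A]

/-- A closed subgroup of a group of multiplicative type with trivial closed fibre is trivial. -/
theorem eq_counitKer_of_fibre [IsLocalRing R] [Algebra.FiniteType R A] (hH : SGA3b.IsMultType R A) (J : Ideal A)
    [J.IsHopfIdeal R]
    (hs : RingHom.ker (Bialgebra.counitAlgHom R A) ≤ J ⊔ (IsLocalRing.maximalIdeal R).map (algebraMap R A)) :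
    J = RingHom.ker (Bialgebra.counitAlgHom R A) := by
  classical
  let π : A →ₐc[R] A ⧸ J := Bialgebra.Quotient.mkBialgHom J
  let εB : A ⧸ J →ₐ[R] R := Bialgebra.counitAlgHom R (A ⧸ J)
  have hε : ∀ a, εB (π a) = Coalgebra.counit (R := R) a := fun a => CoalgHomClass.counit_comp_apply π a
  have hJ : J ≤ RingHom.ker (Bialgebra.counitAlgHom R A) := fun a ha => by
    rw [RingHom.mem_ker]
    change Coalgebra.counit (R := R) a = 0
    rw [← hε, show π a = 0 from Ideal.Quotient.eq_zero_iff_mem.mpr ha, map_zero]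
  obtain ⟨R', _, _, _, M, _, hff, -, ⟨e⟩⟩ := GrothLib.Hopf.exists_local_chart hH
  haveI := hff
  obtain ⟨g, hg⟩ := exists_frame_of_equiv e
  haveI : Nontrivial R' := inferInstance
  haveI := fg_of_frame hg
  -- the subgroup meets the torsion trivially
  have step1 : ∀ n, 0 < n → RingHom.ker (Bialgebra.counitAlgHom R A) ≤ J ⊔ SGA3b.torsionIdeal R A n := by
    intro n hn a ha
    haveI := finite_torsion_of_frame hg hn
    let J₂ := J ⊔ SGA3b.torsionIdeal R A n
    haveI : Module.Finite R (A ⧸ J₂) := Module.Finite.of_surjective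
      (Ideal.Quotient.factorₐ R (show SGA3b.torsionIdeal R A n ≤ J ⊔ SGA3b.torsionIdeal R A n from le_sup_right)).toLinearMap
      (Ideal.Quotient.factor_surjective (show SGA3b.torsionIdeal R A n ≤ J ⊔ SGA3b.torsionIdeal R A n from le_sup_right))
    have hJ₂ : J₂ ≤ RingHom.ker (Bialgebra.counitAlgHom R A) :=
      sup_le hJ fun x hx => RingHom.mem_ker.mpr (counit_eq_zero_of_mem_torsionIdeal n hx)
    let ε₂ : A ⧸ J₂ →ₐ[R] R := Ideal.Quotient.liftₐ J₂ (Bialgebra.counitAlgHom R A) fun x hx => hJ₂ hx
    have h2 := eq_algebraMap_of_ker_le ε₂ (fun y hy => by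
      obtain ⟨y, rfl⟩ := Ideal.Quotient.mk_surjective y
      obtain ⟨u, hu, v, hv, rfl⟩ := Submodule.mem_sup.mp (hs (hy : y ∈ RingHom.ker (Bialgebra.counitAlgHom R A)))
      rw [map_add, Ideal.Quotient.eq_zero_iff_mem.mpr (le_sup_left (α := Ideal A) hu), zero_add,
        show algebraMap R (A ⧸ J₂) = (Ideal.Quotient.mk J₂).comp (algebraMap R A) from rfl, ← Ideal.map_map]
      exact Ideal.mem_map_of_mem _ hv) (Ideal.Quotient.mk J₂ a)
    rw [show ε₂ (Ideal.Quotient.mk J₂ a) = 0 from (RingHom.mem_ker.mp ha :), map_zero] at h2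
    exact Ideal.Quotient.eq_zero_iff_mem.mp h2
  -- the augmentation ideal is nil
  have step2 : ∀ (q : Ideal (A ⧸ J)) [q.IsPrime] (a : A), a ∈ RingHom.ker (Bialgebra.counitAlgHom R A) → π a ∈ q := by
    intro q _ a ha
    let W := R' ⊗[R] (A ⧸ J)
    obtain ⟨Q, hQ⟩ := PrimeSpectrum.comap_surjective_of_faithfullyFlat (B := (A ⧸ J) ⊗[R] R') ⟨q, inferInstance⟩
    let K := Q.asIdeal.ResidueField
    let a₁ : R' →ₐ[R] K :=
      (IsScalarTower.toAlgHom R ((A ⧸ J) ⊗[R] R') K).comp Algebra.TensorProduct.includeRight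
    let b₁ : A ⧸ J →ₐ[R] K :=
      (IsScalarTower.toAlgHom R ((A ⧸ J) ⊗[R] R') K).comp Algebra.TensorProduct.includeLeft
    let gK := (glMap A a₁).comp g
    have hgK : IsFrame gK := hg.map a₁
    have hsurj : Function.Surjective (glHom ((glProj π K).comp gK)) := by
      have hcomp : ∀ z, glHom ((glProj π K).comp gK) z = projT π K (glHom gK z) := fun z => by
        induction z using MonoidAlgebra.induction_linear with
        | zero => simp
        | add x y hx hy => simp only [map_add, hx, hy]
        | single m r => rw [glHom_single, glHom_single, map_smul]; rfl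
      have hproj : Function.Surjective (projT π K) :=
        Algebra.TensorProduct.map_surjective (f := AlgHom.id K K) (g := (π : A →ₐ[R] A ⧸ J))
          Function.surjective_id Ideal.Quotient.mk_surjective
      intro y
      obtain ⟨y, rfl⟩ := hproj y
      obtain ⟨z, rfl⟩ := hgK.2 y
      exact ⟨z, hcomp z⟩
    have htor : ∀ n, 0 < n → RingHom.ker (Bialgebra.counitAlgHom K (K ⊗[R] (A ⧸ J))) ≤
        SGA3b.torsionIdeal K (K ⊗[R] (A ⧸ J)) n := by
      intro n hn y hy
      have hgen : ∀ c : A, (1 : K) ⊗ₜ[R] π c - algebraMap K (K ⊗[R] (A ⧸ J)) (algebraMap R K (Coalgebra.counit c)) ∈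
          SGA3b.torsionIdeal K (K ⊗[R] (A ⧸ J)) n := by
        intro c
        let c₀ := c - algebraMap R A (Coalgebra.counit c)
        have hc₀ : c₀ ∈ RingHom.ker (Bialgebra.counitAlgHom R A) := by simp [c₀]
        have hle : J ⊔ SGA3b.torsionIdeal R A n ≤ Ideal.comap
            ((Algebra.TensorProduct.includeRight : A ⧸ J →ₐ[R] K ⊗[R] (A ⧸ J)).comp (π : A →ₐ[R] A ⧸ J))
            (SGA3b.torsionIdeal K (K ⊗[R] (A ⧸ J)) n) := by
          refine sup_le (fun x hx => ?_) (Ideal.map_le_iff_le_comap.mpr fun x hx => ?_)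
          · change (1 : K) ⊗ₜ[R] π x ∈ SGA3b.torsionIdeal K (K ⊗[R] (A ⧸ J)) n
            rw [show π x = 0 from Ideal.Quotient.eq_zero_iff_mem.mpr hx, tmul_zero]
            exact zero_mem _
          · change (1 : K) ⊗ₜ[R] π (SGA3b.powConv R A n x) ∈ SGA3b.torsionIdeal K (K ⊗[R] (A ⧸ J)) n
            rw [show π (SGA3b.powConv R A n x) = SGA3b.powConv R (A ⧸ J) n (π x) from ?_,
              ← GrothLib.OT.powConv_baseChange]
            · refine Ideal.mem_map_of_mem _ (RingHom.mem_ker.mpr ?_)
              change Coalgebra.counit (R := K) ((1 : K) ⊗ₜ[R] π x) = 0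
              rw [TensorProduct.counit_tmul, show Coalgebra.counit (R := R) (π x) = 0 from
                (hε x).trans (RingHom.mem_ker.mp hx :), zero_smul]
            · have h1 := GrothLib.Hopf.FiniteRank.comp_convPow (π : A →ₐ[R] A ⧸ J) (toConv (AlgHom.id R A)) n
              have h2 := GrothLib.Hopf.FiniteRank.convPow_comp_bialgHom π (toConv (AlgHom.id R (A ⧸ J))) n
              exact (DFunLike.congr_fun (congrArg ofConv h1) x).trans
                (DFunLike.congr_fun (congrArg ofConv h2) x).symm
        have := hle (step1 n hn hc₀)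
        change (1 : K) ⊗ₜ[R] π c₀ ∈ SGA3b.torsionIdeal K (K ⊗[R] (A ⧸ J)) n at this
        rwa [map_sub, tmul_sub, show π (algebraMap R A (Coalgebra.counit c)) = algebraMap R (A ⧸ J) (Coalgebra.counit c)
            from AlgHomClass.commutes π _, ← Algebra.TensorProduct.includeRight_apply (A := K) (algebraMap R (A ⧸ J) _),
          AlgHom.commutes, IsScalarTower.algebraMap_apply R K (K ⊗[R] (A ⧸ J))] at this
      have hall : ∀ w, w - algebraMap K (K ⊗[R] (A ⧸ J)) (Coalgebra.counit w) ∈
          SGA3b.torsionIdeal K (K ⊗[R] (A ⧸ J)) n := by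
        intro w
        induction w using TensorProduct.induction_on with
        | zero => simp
        | add u v hu hv =>
          rw [map_add, map_add, add_sub_add_comm]
          exact add_mem hu hv
        | tmul t b =>
          obtain ⟨c, rfl⟩ := Ideal.Quotient.mk_surjective b
          have := Ideal.mul_mem_left _ (algebraMap K (K ⊗[R] (A ⧸ J)) t) (hgen c)
          rw [mul_sub, ← map_mul, ← Algebra.smul_def, smul_tmul', smul_eq_mul, _root_.mul_one] at this
          rwa [TensorProduct.counit_tmul, CommSemiring.counit_apply, Algebra.smul_def,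
            show Coalgebra.counit (R := R) (Ideal.Quotient.mk J c) = Coalgebra.counit (R := R) c from hε c,
            mul_comm]
      simpa [show Coalgebra.counit (R := K) y = 0 from (RingHom.mem_ker.mp hy :)] using hall y
    have h3 := trivial_of_torsion_field _ hsurj htor ((1 : K) ⊗ₜ[R] π a)
    have h4 := congrArg (Algebra.TensorProduct.lift (AlgHom.id R K) b₁ fun _ _ => Commute.all _ _) h3
    rw [Algebra.TensorProduct.lift_tmul, map_one, _root_.one_mul, TensorProduct.counit_tmul,
      show Coalgebra.counit (R := R) (π a) = 0 from (hε a).trans (RingHom.mem_ker.mp ha :), zero_smul, map_zero,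
      map_zero] at h4
    have h5 : ((π a) ⊗ₜ[R] (1 : R') : (A ⧸ J) ⊗[R] R') ∈ Q.asIdeal := Ideal.algebraMap_residueField_eq_zero.mp h4
    exact (congrArg PrimeSpectrum.asIdeal hQ).le (Ideal.mem_comap.mpr h5)
  -- hence the subgroup is finite
  have hnil : ∀ a, a ∈ RingHom.ker (Bialgebra.counitAlgHom R A) → IsNilpotent (π a) := fun a ha => by
    rw [nilpotent_iff_mem_prime]
    exact fun q hq => @step2 q hq a ha
  haveI : Algebra.IsIntegral R (A ⧸ J) := ⟨fun b => by
    obtain ⟨a, rfl⟩ := Ideal.Quotient.mk_surjective b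
    have h1 : IsIntegral R (π (a - algebraMap R A (Coalgebra.counit a))) := by
      obtain ⟨k, hk⟩ := hnil (a - algebraMap R A (Coalgebra.counit a)) (by simp)
      exact ⟨Polynomial.X ^ (k + 1), Polynomial.monic_X_pow _, by
        rw [Polynomial.eval₂_X_pow, pow_succ, hk, MulZeroClass.zero_mul]⟩
    have h2 := h1.add (isIntegral_algebraMap (R := R) (A := A ⧸ J) (x := Coalgebra.counit a))
    rwa [map_sub, show π (algebraMap R A (Coalgebra.counit a)) = algebraMap R (A ⧸ J) (Coalgebra.counit a)
      from AlgHomClass.commutes π _, sub_add_cancel] at h2⟩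
  haveI : Module.Finite R (A ⧸ J) := Algebra.IsIntegral.finite
  refine le_antisymm hJ fun a ha => ?_
  have h2 := eq_algebraMap_of_ker_le εB (fun y hy => by
    obtain ⟨y, rfl⟩ := Ideal.Quotient.mk_surjective y
    obtain ⟨u, hu, v, hv, rfl⟩ := Submodule.mem_sup.mp (hs (RingHom.mem_ker.mpr ((hε y).symm.trans (RingHom.mem_ker.mp hy :))))
    rw [map_add, Ideal.Quotient.eq_zero_iff_mem.mpr hu, zero_add,
      show algebraMap R (A ⧸ J) = (Ideal.Quotient.mk J).comp (algebraMap R A) from rfl, ← Ideal.map_map]
    exact Ideal.mem_map_of_mem _ hv) (π a)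
  rw [hε, show Coalgebra.counit (R := R) a = 0 from (RingHom.mem_ker.mp ha :), map_zero] at h2
  exact Ideal.Quotient.eq_zero_iff_mem.mp h2

end Local

end GrothLib.MultLocal
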