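import Groth.Agent.Lib.MultLocal.Mono
import Groth.Agent.Lib.MultLocal.NilLift

/-!
Homomorphisms of groups of multiplicative type which are isomorphisms on closed fibres.
-/

universe u

set_option linter.style.haveILetI false
set_option maxSynthPendingDepth 3

open TensorProduct MonoidAlgebra

namespace GrothLib.MultLocal

variable {E : Type u} [CommRing E]

theorem eq_zero_of_flat_covers {N : Type u} [AddCommGroup N] [Module E N] {x : N}
    (h : ∀ m : Ideal E, m.IsMaximal → ∃ (L : Type u) (_ : CommRing L) (_ : Algebra E L),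
      Module.Flat E L ∧ m.map (algebraMap E L) ≠ ⊤ ∧ (1 : L) ⊗ₜ[E] x = 0) : x = 0 := by
  by_contra hx
  let K : Ideal E := LinearMap.ker (LinearMap.toSpanSingleton E N x)
  have hK : K ≠ ⊤ := fun hK => hx (by
    have h1 : (1 : E) ∈ K := hK ▸ Submodule.mem_top
    simpa [K] using h1)
  obtain ⟨m, hm, hKm⟩ := Ideal.exists_le_maximal K hK
  obtain ⟨L, _, _, hL, hmL, h0⟩ := h m hm
  haveI := hL
  let φ : (E ⧸ K) →ₗ[E] N := Submodule.liftQ K (LinearMap.toSpanSingleton E N x) le_rfl
  have hφ : Function.Injective φ := LinearMap.ker_eq_bot.mp (Submodule.ker_liftQ_eq_bot _ _ _ le_rfl)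
  have h1 : (1 : L) ⊗ₜ[E] (Ideal.Quotient.mk K 1) = 0 :=
    Module.Flat.lTensor_preserves_injective_linearMap (M := L) φ hφ (by
      rw [LinearMap.lTensor_tmul, map_zero]
      change (1 : L) ⊗ₜ[E] φ (Submodule.Quotient.mk 1) = 0
      rw [Submodule.liftQ_apply]
      simpa using h0)
  let ev : L ⊗[E] (E ⧸ K) →ₐ[E] L ⧸ K.map (algebraMap E L) :=
    Algebra.TensorProduct.lift (Ideal.Quotient.mkₐ E _) (Ideal.Quotient.liftₐ K (Algebra.ofId E _) fun a ha => by
      change algebraMap E (L ⧸ _) a = 0
      rw [IsScalarTower.algebraMap_apply E L (L ⧸ K.map (algebraMap E L)), Ideal.Quotient.algebraMap_eq,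
        Ideal.Quotient.eq_zero_iff_mem]
      exact Ideal.mem_map_of_mem _ ha) fun _ _ => Commute.all _ _
  have h2 := congrArg ev h1
  rw [Algebra.TensorProduct.lift_tmul, map_zero ev, map_one (Ideal.Quotient.mk K), map_one, map_one,
    _root_.mul_one] at h2
  refine hmL (eq_top_iff.mpr fun z _ => ?_)
  have h3 : (1 : L) ∈ K.map (algebraMap E L) := by
    rw [← Ideal.Quotient.eq_zero_iff_mem, map_one]
    exact h2
  have := Ideal.mul_mem_left (m.map (algebraMap E L)) z (Ideal.map_mono hKm h3)
  rwa [_root_.mul_one] at this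

theorem bijective_of_flat_covers {N N' : Type u} [AddCommGroup N] [Module E N] [AddCommGroup N'] [Module E N']
    (f : N →ₗ[E] N') (h : ∀ m : Ideal E, m.IsMaximal → ∃ (L : Type u) (_ : CommRing L) (_ : Algebra E L),
      Module.Flat E L ∧ m.map (algebraMap E L) ≠ ⊤ ∧ Function.Bijective (f.lTensor L)) : Function.Bijective f := by
  refine ⟨(injective_iff_map_eq_zero f).mpr fun x hx => eq_zero_of_flat_covers (E := E) fun m hm => ?_, fun y => ?_⟩
  · obtain ⟨L, _, _, hL, hmL, hb⟩ := h m hm
    exact ⟨L, inferInstance, inferInstance, hL, hmL, hb.1 (by rw [LinearMap.lTensor_tmul, hx, tmul_zero, map_zero])⟩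
  · have : (Submodule.Quotient.mk y : N' ⧸ LinearMap.range f) = 0 := eq_zero_of_flat_covers (E := E) fun m hm => by
      obtain ⟨L, _, _, hL, hmL, hb⟩ := h m hm
      refine ⟨L, inferInstance, inferInstance, hL, hmL, ?_⟩
      obtain ⟨w, hw⟩ := hb.2 ((1 : L) ⊗ₜ y)
      rw [show (1 : L) ⊗ₜ[E] (Submodule.Quotient.mk y : N' ⧸ LinearMap.range f) =
        (LinearMap.range f).mkQ.lTensor L ((1 : L) ⊗ₜ y) from rfl, ← hw, ← LinearMap.comp_apply,
        ← LinearMap.lTensor_comp, LinearMap.range_mkQ_comp, LinearMap.lTensor_zero, LinearMap.zero_apply]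
    exact (Submodule.Quotient.mk_eq_zero _).mp this

/-- A bialgebra map between group algebras over a local ring is bijective if it is so over a nonzero algebra. -/
theorem bijective_of_groupAlg {L : Type u} [CommRing L] [IsLocalRing L] {M M' : Type u} [CommGroup M] [CommGroup M']
    (φ : MonoidAlgebra L M' →ₐc[L] MonoidAlgebra L M) {K : Type u} [CommRing K] [Algebra L K] [Nontrivial K]
    (h : Function.Bijective ((φ : MonoidAlgebra L M' →ₐ[L] MonoidAlgebra L M).toLinearMap.lTensor K)) :
    Function.Bijective φ := by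
  classical
  choose w hw using fun m : M' => exists_eq_single ((isGroupLikeElem_single_one (R := L) (A := L) m).map φ)
  have hφ : ∀ m r, φ (single m r) = single (w m) r := fun m r => by
    rw [show (single m r : MonoidAlgebra L M') = r • single m 1 by simp, map_smul, hw, smul_single, smul_eq_mul,
      _root_.mul_one]
  let cK : ∀ (N : Type u) [CommGroup N], K ⊗[L] MonoidAlgebra L N ≃ₐ[K] MonoidAlgebra K N := fun N _ =>
    MonoidAlgebra.scalarTensorEquiv L K
  have key : ∀ z, cK M ((φ : MonoidAlgebra L M' →ₐ[L] MonoidAlgebra L M).toLinearMap.lTensor K z) =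
      MonoidAlgebra.mapDomain w (cK M' z) := by
    intro z
    induction z using TensorProduct.induction_on with
    | zero => simp
    | add x y hx hy => simp only [map_add, hx, hy, MonoidAlgebra.mapDomain_add]
    | tmul t x =>
      induction x using MonoidAlgebra.induction_linear with
      | zero => simp
      | add x y hx hy => simp only [tmul_add, map_add, hx, hy, MonoidAlgebra.mapDomain_add]
      | single m r =>
        rw [LinearMap.lTensor_tmul]
        change cK M (t ⊗ₜ φ (single m r)) = _
        rw [hφ]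
        simp [cK, Algebra.smul_def, mul_comm]
  have hK : Function.Bijective (MonoidAlgebra.mapDomain w : MonoidAlgebra K M' → MonoidAlgebra K M) := by
    have : (MonoidAlgebra.mapDomain w : MonoidAlgebra K M' → MonoidAlgebra K M) =
        (cK M) ∘ ((φ : MonoidAlgebra L M' →ₐ[L] MonoidAlgebra L M).toLinearMap.lTensor K) ∘ (cK M').symm :=
      funext fun z => by
        simp only [Function.comp_apply]
        rw [key, AlgEquiv.apply_symm_apply]
    rw [this]
    exact (cK M).bijective.comp (h.comp (cK M').symm.bijective)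
  have hwb : Function.Bijective w := by
    refine ⟨fun a b hab => ?_, fun m => ?_⟩
    · by_contra hne
      have := hK.1 (show MonoidAlgebra.mapDomain w (single a (1 : K)) = MonoidAlgebra.mapDomain w (single b 1) by
        simp [hab])
      have h2 := congrArg (fun z => z.coeff a) this
      simp [Ne.symm hne] at h2
    · obtain ⟨z, hz⟩ := hK.2 (single m 1)
      by_contra hm
      have : (MonoidAlgebra.mapDomain w z).coeff m = 0 := by
        rw [MonoidAlgebra.coeff_mapDomain]
        exact Finsupp.mapDomain_notin_range _ _ fun ⟨x, hx⟩ => hm ⟨x, hx⟩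
      rw [hz] at this
      simp at this
  have heq : (φ : MonoidAlgebra L M' → MonoidAlgebra L M) = MonoidAlgebra.mapDomain w := funext fun z => by
    induction z using MonoidAlgebra.induction_linear with
    | zero => simp
    | add x y hx hy => simp only [map_add, hx, hy, MonoidAlgebra.mapDomain_add]
    | single m r => rw [hφ, MonoidAlgebra.mapDomain_single]
  rw [show (φ : MonoidAlgebra L M' → MonoidAlgebra L M) = _ from heq]
  let e := Finsupp.domCongr (M := L) (Equiv.ofBijective w hwb)
  refine ⟨fun x y hxy => MonoidAlgebra.coeff_injective (e.injective ?_), fun z => ?_⟩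
  · have := congrArg MonoidAlgebra.coeff hxy
    simpa [e, MonoidAlgebra.coeff_mapDomain, Finsupp.domCongr, Finsupp.equivMapDomain_eq_mapDomain] using this
  · refine ⟨MonoidAlgebra.ofCoeff (e.symm z.coeff), MonoidAlgebra.coeff_injective ?_⟩
    have := e.apply_symm_apply z.coeff
    simpa [e, MonoidAlgebra.coeff_mapDomain, Finsupp.domCongr, Finsupp.equivMapDomain_eq_mapDomain] using this

/-- Criterion for a map to a diagonalisable group to be an isomorphism. -/
theorem bijective_of_local_frames {C : Type u} [CommRing C] [Bialgebra E C] {M : Type u} [CommGroup M]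
    (f : C →ₐc[E] MonoidAlgebra E M) {J : Ideal E} (hJ : J ≤ (⊥ : Ideal E).jacobson)
    (hmod : Function.Bijective ((f : C →ₐ[E] MonoidAlgebra E M).toLinearMap.lTensor (E ⧸ J)))
    (hloc : ∀ m : Ideal E, m.IsMaximal → ∃ (L : Type u) (_ : CommRing L) (_ : IsLocalRing L) (_ : Algebra E L)
      (M' : Type u) (_ : CommGroup M'), Module.Flat E L ∧ m.map (algebraMap E L) ≠ ⊤ ∧
        ∃ g : M' →* GroupLike L (L ⊗[E] C), IsFrame g) : Function.Bijective f := by
  refine bijective_of_flat_covers (f : C →ₐ[E] MonoidAlgebra E M).toLinearMap fun m hm => ?_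
  obtain ⟨L, _, _, _, M', _, hL, hmL, g, hg⟩ := hloc m hm
  refine ⟨L, inferInstance, inferInstance, hL, hmL, ?_⟩
  let fL : L ⊗[E] C →ₐc[L] L ⊗[E] MonoidAlgebra E M :=
    Bialgebra.TensorProduct.map (BialgHom.id L L) f
  have hfL : ∀ z, fL z = (f : C →ₐ[E] MonoidAlgebra E M).toLinearMap.lTensor L z := fun z => by
    induction z using TensorProduct.induction_on with
    | zero => simp
    | add x y hx hy => simp only [map_add, hx, hy]
    | tmul t c => rfl
  let cL := GrothLib.Hopf.groupAlgBaseChange E L M
  let φ : MonoidAlgebra L M' →ₐc[L] MonoidAlgebra L M :=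
    (cL : L ⊗[E] MonoidAlgebra E M →ₐc[L] MonoidAlgebra L M).comp (fL.comp (glHom g))
  let K := IsLocalRing.ResidueField L
  have hJK : ∀ a ∈ J, algebraMap E K a = 0 := by
    intro a ha
    have hle : m.map (algebraMap E L) ≤ IsLocalRing.maximalIdeal L := IsLocalRing.le_maximalIdeal hmL
    have ham : a ∈ m := (hJ.trans (Ideal.jacobson_bot (R := E) ▸ Ring.jacobson_le_of_isMaximal m)) ha
    rw [IsScalarTower.algebraMap_apply E L K, IsLocalRing.ResidueField.algebraMap_eq, IsLocalRing.residue_eq_zero_iff]
    exact hle (Ideal.mem_map_of_mem _ ham)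
  let q : (E ⧸ J) →ₐ[E] K := Ideal.Quotient.liftₐ J (Algebra.ofId E K) hJK
  letI : Algebra (E ⧸ J) K := q.toRingHom.toAlgebra
  haveI : IsScalarTower E (E ⧸ J) K := IsScalarTower.of_algebraMap_eq fun a => (q.commutes a).symm
  have hfK : Function.Bijective ((f : C →ₐ[E] MonoidAlgebra E M).toLinearMap.lTensor K) := by
    let cC := AlgebraTensorModule.cancelBaseChange E (E ⧸ J) K K C
    let cM := AlgebraTensorModule.cancelBaseChange E (E ⧸ J) K K (MonoidAlgebra E M)
    let eJ : (E ⧸ J) ⊗[E] C ≃ₗ[E ⧸ J] (E ⧸ J) ⊗[E] MonoidAlgebra E M :=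
      LinearEquiv.ofBijective (((f : C →ₐ[E] MonoidAlgebra E M).toLinearMap).baseChange (E ⧸ J)) hmod
    let eK := (cC.symm.trans ((AlgebraTensorModule.congr (LinearEquiv.refl K K) eJ).trans cM))
    have : ∀ z, (f : C →ₐ[E] MonoidAlgebra E M).toLinearMap.lTensor K z = eK z := fun z => by
      induction z using TensorProduct.induction_on with
      | zero => simp
      | add x y hx hy => simp only [map_add, hx, hy]
      | tmul t c => simp [eK, cC, cM, eJ]
    rw [show ⇑((f : C →ₐ[E] MonoidAlgebra E M).toLinearMap.lTensor K) = eK from funext this]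
    exact eK.bijective
  have hφ : Function.Bijective ((φ : MonoidAlgebra L M' →ₐ[L] MonoidAlgebra L M).toLinearMap.lTensor K) := by
    let cC := AlgebraTensorModule.cancelBaseChange E L K K C
    let cM := AlgebraTensorModule.cancelBaseChange E L K K (MonoidAlgebra E M)
    let eg := AlgebraTensorModule.congr (LinearEquiv.refl K K) hg.equiv.toLinearEquiv
    let eM := AlgebraTensorModule.congr (LinearEquiv.refl K K) cL.toLinearEquiv
    have : ∀ z, (φ : MonoidAlgebra L M' →ₐ[L] MonoidAlgebra L M).toLinearMap.lTensor K z =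
        eM (cM.symm ((f : C →ₐ[E] MonoidAlgebra E M).toLinearMap.lTensor K (cC (eg z)))) := fun z => by
      induction z using TensorProduct.induction_on with
      | zero => simp
      | add x y hx hy => simp only [map_add, hx, hy]
      | tmul t x =>
        have h1 : ∀ (t : K) (y : L ⊗[E] C), t ⊗ₜ[L] fL y =
            cM.symm ((f : C →ₐ[E] MonoidAlgebra E M).toLinearMap.lTensor K (cC (t ⊗ₜ[L] y))) := by
          intro t y
          induction y using TensorProduct.induction_on with
          | zero => simp
          | add p q hp hq => simp only [map_add, tmul_add, hp, hq]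
          | tmul l c =>
            apply cM.injective
            rw [LinearEquiv.apply_symm_apply, hfL]
            simp [cM, cC]
        change t ⊗ₜ[L] cL (fL (glHom g x)) = _
        rw [AlgebraTensorModule.congr_tmul]
        change _ = eM (cM.symm ((f : C →ₐ[E] MonoidAlgebra E M).toLinearMap.lTensor K (cC (t ⊗ₜ[L] hg.equiv x))))
        rw [← h1, AlgebraTensorModule.congr_tmul, IsFrame.equiv_apply]
        rfl
    rw [show ⇑((φ : MonoidAlgebra L M' →ₐ[L] MonoidAlgebra L M).toLinearMap.lTensor K) = _ from funext this]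
    exact eM.bijective.comp (cM.symm.bijective.comp (hfK.comp (cC.bijective.comp eg.bijective)))
  have hb := bijective_of_groupAlg φ hφ
  have h3 : Function.Bijective fL := by
    have h4 : Function.Bijective (cL ∘ fL) := (Function.Bijective.of_comp_iff _ hg).mp (by exact hb)
    exact (Function.Bijective.of_comp_iff' cL.bijective _).mp h4
  rw [show ⇑((f : C →ₐ[E] MonoidAlgebra E M).toLinearMap.lTensor L) = fL from (funext hfL).symm]
  exact h3

/-- Groups of multiplicative type have local frames after any base change. -/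
theorem exists_local_frame {R : Type u} [CommRing R] {A : Type u} [CommRing A] [HopfAlgebra R A]
    (h : SGA3b.IsMultType R A) [Algebra R E] (m : Ideal E) [m.IsPrime] :
    ∃ (L : Type u) (_ : CommRing L) (_ : IsLocalRing L) (_ : Algebra E L) (M' : Type u) (_ : CommGroup M'),
      Module.Flat E L ∧ m.map (algebraMap E L) ≠ ⊤ ∧ ∃ g : M' →* GroupLike L (L ⊗[E] (E ⊗[R] A)), IsFrame g := by
  obtain ⟨ι, _, T, _, _, M, _, hff, hT⟩ := exists_cover h
  haveI := hff
  let P := ∀ i, E ⊗[R] T i
  haveI : Module.FaithfullyFlat E (E ⊗[R] (∀ i, T i)) := inferInstance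
  classical
  haveI : Module.FaithfullyFlat E P := Module.FaithfullyFlat.of_linearEquiv E (E ⊗[R] (∀ i, T i))
    (Algebra.TensorProduct.piRight R E E T).toLinearEquiv.symm
  obtain ⟨q, hq⟩ := PrimeSpectrum.comap_surjective_of_faithfullyFlat (B := P) ⟨m, ‹_›⟩
  obtain ⟨⟨i, q'⟩, hq'⟩ := (PrimeSpectrum.sigmaToPi_bijective fun i => E ⊗[R] T i).surjective q
  obtain ⟨g, hg⟩ := hT i
  let F := E ⊗[R] T i
  let L := Localization.AtPrime q'.asIdeal
  haveI : Module.Flat E L := by
    haveI : Module.Flat R (T i) := Module.Flat.of_retract (LinearMap.single R T i) (LinearMap.proj i)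
      (LinearMap.ext fun t => by simp)
    exact Module.Flat.trans E F L
  have hg' := (hg.map ((IsScalarTower.toAlgHom R F L).comp
    (Algebra.TensorProduct.includeRight : T i →ₐ[R] F))).push (GrothLib.Hopf.cancelBaseChange R E L A).symm
  refine ⟨L, inferInstance, inferInstance, inferInstance, M i, inferInstance, inferInstance, fun htop => ?_, _, hg'⟩
  have hle : m.map (algebraMap E L) ≤ IsLocalRing.maximalIdeal L := by
    rw [IsScalarTower.algebraMap_eq E F L, ← Ideal.map_map]
    refine (Ideal.map_mono ?_).trans (Localization.AtPrime.map_eq_maximalIdeal).le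
    rw [Ideal.map_le_iff_le_comap]
    have h1 : PrimeSpectrum.comap (algebraMap E F) q' = ⟨m, ‹_›⟩ := by
      rw [← hq, ← hq', PrimeSpectrum.sigmaToPi, ← PrimeSpectrum.comap_comp_apply]
      rfl
    exact (congrArg PrimeSpectrum.asIdeal h1).ge
  exact (IsLocalRing.maximalIdeal.isMaximal L).ne_top (top_le_iff.mp (htop ▸ hle))

end GrothLib.MultLocal
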