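import Groth.Agent.Lib.MultLocal.EffectiveOps
import Mathlib.RingTheory.HopfAlgebra.Basic
import Mathlib.RingTheory.Bialgebra.MonoidAlgebra

/-!
The Hopf algebra of a descent datum of group-like elements.
-/

universe u

set_option linter.style.haveILetI false
set_option maxSynthPendingDepth 3

open TensorProduct MonoidAlgebra

namespace GrothLib.MultLocal

variable {R : Type u} [CommRing R]

section GroupAlg

variable {S : Type u} [CommRing S] {M : Type u} [CommGroup M]

theorem mapDomain_diag {x : MonoidAlgebra S M} (hx : IsGroupLikeElem S x) :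
    mapDomainRingHom S ((MonoidHom.id M).prod (MonoidHom.id M)) x =
      mapDomainRingHom S (MonoidHom.inl M M) x * mapDomainRingHom S (MonoidHom.inr M M) x := by
  let F : MonoidAlgebra S M ⊗[S] MonoidAlgebra S M →ₐ[S] MonoidAlgebra S (M × M) :=
    Algebra.TensorProduct.lift (mapDomainAlgHom S S (MonoidHom.inl M M)) (mapDomainAlgHom S S (MonoidHom.inr M M))
      fun _ _ => Commute.all _ _
  have h : ∀ z : MonoidAlgebra S M,
      mapDomainRingHom S ((MonoidHom.id M).prod (MonoidHom.id M)) z = F (Coalgebra.comul z) := by
    intro z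
    induction z using MonoidAlgebra.induction_linear with
    | zero => simp
    | add x y hx hy => simp only [map_add, hx, hy]
    | single m r =>
      rw [show (single m r : MonoidAlgebra S M) = r • single m 1 by simp, mapDomainRingHom_smul, map_smul, map_smul,
        (isGroupLikeElem_single_one (R := S) (A := S) m).comul_eq_tmul_self, Algebra.TensorProduct.lift_tmul]
      simp [single_mul_single]
  rw [h, hx.comul_eq_tmul_self, Algebra.TensorProduct.lift_tmul]
  rfl

theorem mapDomain_one {x : MonoidAlgebra S M} (hx : IsGroupLikeElem S x) {N : Type u} [CommGroup N] :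
    mapDomainRingHom S (1 : M →* N) x = 1 := by
  have h : ∀ z : MonoidAlgebra S M, mapDomainRingHom S (1 : M →* N) z = single 1 (Coalgebra.counit z) := by
    intro z
    induction z using MonoidAlgebra.induction_linear with
    | zero => simp
    | add x y hx hy => simp only [map_add, hx, hy, single_add]
    | single m r => simp
  rw [h, hx.counit_eq_one, MonoidAlgebra.one_def]

theorem mapDomain_inv {x : MonoidAlgebra S M} (hx : IsGroupLikeElem S x) :
    mapDomainRingHom S (invMonoidHom : M →* M) x * x = 1 := by
  have h : ∀ z : MonoidAlgebra S M, mapDomainRingHom S (invMonoidHom : M →* M) z = HopfAlgebraStruct.antipode S z := by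
    intro z
    induction z using MonoidAlgebra.induction_linear with
    | zero => simp
    | add x y hx hy => simp only [map_add, hx, hy]
    | single m r => simp
  rw [h, hx.antipode_mul_cancel]

end GroupAlg

variable {ι : Type u} {T : ι → Type u} [∀ i, CommRing (T i)] [∀ i, Algebra R (T i)]

namespace Datum

variable (D : Datum R T)

/-- All transition elements are group-like. -/
def IsGL : Prop := ∀ i j m, IsGroupLikeElem (T i ⊗[R] T j) (D.u i j m)

variable {D}

theorem IsGL.diag (hD : D.IsGL) : IsHom D (D.prod D) fun i => (MonoidHom.id (D.M i)).prod (MonoidHom.id (D.M i)) :=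
  fun i j m => by
    simp [← mapDomainRingHom_apply, mapDomain_diag (hD i j m)]

theorem IsGL.toOne (hD : D.IsGL) : IsHom D (one R T) fun i => (1 : D.M i →* PUnit) := fun i j m => by
  rw [mapDomain_one (hD i j m)]
  rfl

theorem IsGL.inv (hD : D.IsGL) : IsHom D D fun i => (invMonoidHom : D.M i →* D.M i) := fun i j m => by
  change _ = D.u i j m⁻¹
  have h1 : D.u i j m⁻¹ * D.u i j m = 1 := by rw [← map_mul, inv_mul_cancel, map_one]
  exact left_inv_eq_right_inv (mapDomain_inv (hD i j m)) (by rw [mul_comm, h1])

variable [Fintype ι] [Module.FaithfullyFlat R (∀ i, T i)]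

/-- The comparison of the product as an isomorphism. -/
noncomputable def mulEquiv (D D' : Datum R T) : D.A ⊗[R] D'.A ≃ₐ[R] (D.prod D').A :=
  AlgEquiv.ofBijective (mulMap D D') (mulMap_bijective D D')

theorem mulMap_mulEquiv_symm (D D' : Datum R T) (x : (D.prod D').A) : mulMap D D' ((mulEquiv D D').symm x) = x :=
  (mulEquiv D D').apply_symm_apply x

/-- Comultiplication. -/
noncomputable def comul (hD : D.IsGL) : D.A →ₐ[R] D.A ⊗[R] D.A :=
  (mulEquiv D D).symm.toAlgHom.comp (map _ hD.diag)

/-- The base ring as descended algebra. -/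
noncomputable def oneEquiv : R ≃ₐ[R] (one R T).A :=
  AlgEquiv.ofBijective (Algebra.ofId R (one R T).A) algebraMap_one_bijective

/-- Counit. -/
noncomputable def counit (hD : D.IsGL) : D.A →ₐ[R] R :=
  (oneEquiv (T := T)).symm.toAlgHom.comp (map _ hD.toOne)

theorem mulMap_comul (hD : D.IsGL) (a : D.A) (i : ι) : (mulMap D D (comul hD a)).1 i =
    mapDomainRingHom (T i) ((MonoidHom.id (D.M i)).prod (MonoidHom.id (D.M i))) (a.1 i) := by
  change (mulMap D D ((mulEquiv D D).symm (map _ hD.diag a))).1 i = _
  rw [mulMap_mulEquiv_symm, map_apply]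

theorem mapDomain_one_apply (hD : D.IsGL) (a : D.A) (i : ι) {N : Type u} [CommGroup N] :
    mapDomainRingHom (T i) (1 : D.M i →* N) (a.1 i) = algebraMap R (MonoidAlgebra (T i) N) (counit hD a) := by
  have h : algebraMap R (one R T).A (counit hD a) = map _ hD.toOne a := (oneEquiv (T := T)).apply_symm_apply _
  have h1 := congrArg (fun z : (one R T).A => mapDomainRingHom (T i) (1 : PUnit →* N) (z.1 i)) h
  simp only [map_apply, mapDomain_mapDomain] at h1
  rw [show ((1 : PUnit →* N).comp (1 : D.M i →* PUnit)) = 1 from MonoidHom.ext fun _ => rfl] at h1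
  rw [← h1]
  exact ((mapDomainAlgHom R (T i) (1 : PUnit →* N)).commutes _)

theorem algebraMap_mul_mapDomain {M N : Type u} [CommGroup M] [CommGroup N] (i : ι) (r : R) (f : M →* N)
    (x : MonoidAlgebra (T i) M) :
    algebraMap R (MonoidAlgebra (T i) N) r * mapDomainRingHom (T i) f x = mapDomainRingHom (T i) f (r • x) := by
  rw [Algebra.smul_def, map_mul]
  exact congrArg (· * _) ((mapDomainAlgHom R (T i) f).commutes r).symm

theorem mulMap_ext {D D' : Datum R T} {x y : D.A ⊗[R] D'.A} (h : ∀ i, (mulMap D D' x).1 i = (mulMap D D' y).1 i) :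
    x = y :=
  (mulMap_bijective D D').1 (Subtype.ext (funext h))

theorem coassoc (hD : D.IsGL) :
    (Algebra.TensorProduct.assoc R R R D.A D.A D.A).toAlgHom.comp
      ((Algebra.TensorProduct.map (comul hD) (AlgHom.id R D.A)).comp (comul hD)) =
      (Algebra.TensorProduct.map (AlgHom.id R D.A) (comul hD)).comp (comul hD) := by
  refine AlgHom.ext fun a => ?_
  let μ3 : D.A ⊗[R] (D.A ⊗[R] D.A) →ₐ[R] (D.prod (D.prod D)).A :=
    (mulMap D (D.prod D)).comp (Algebra.TensorProduct.map (AlgHom.id R D.A) (mulMap D D))
  have hμ3 : Function.Injective μ3 := (mulMap_bijective D (D.prod D)).1.comp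
    (Algebra.TensorProduct.congr AlgEquiv.refl (mulEquiv D D)).injective
  apply hμ3
  refine Subtype.ext (funext fun i => ?_)
  let M := D.M i
  let dg : M →* M × M := (MonoidHom.id M).prod (MonoidHom.id M)
  have h3 : ∀ (x y z : D.A), (μ3 (x ⊗ₜ (y ⊗ₜ z))).1 i =
      mapDomainRingHom (T i) (MonoidHom.inl M (M × M)) (x.1 i) *
        (mapDomainRingHom (T i) ((MonoidHom.inr M (M × M)).comp (MonoidHom.inl M M)) (y.1 i) *
          mapDomainRingHom (T i) ((MonoidHom.inr M (M × M)).comp (MonoidHom.inr M M)) (z.1 i)) := fun x y z => by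
    change (mulMap D (D.prod D) (x ⊗ₜ mulMap D D (y ⊗ₜ z))).1 i = _
    rw [mulMap_tmul, mulMap_tmul, map_mul, mapDomain_mapDomain, mapDomain_mapDomain]
  have hL : ∀ w : D.A ⊗[R] D.A, (μ3 (Algebra.TensorProduct.assoc R R R D.A D.A D.A
      (Algebra.TensorProduct.map (comul hD) (AlgHom.id R D.A) w))).1 i =
      mapDomainRingHom (T i) (((MonoidHom.fst M M).prod ((MonoidHom.fst M M).prod (MonoidHom.snd M M)))) ((mulMap D D w).1 i) := by
    intro w
    induction w using TensorProduct.induction_on with
    | zero => simp
    | add x y hx hy => simp only [map_add, Subalgebra.coe_add, Pi.add_apply, hx, hy]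
    | tmul x y =>
      have hx : ∀ v : D.A ⊗[R] D.A, (μ3 (Algebra.TensorProduct.assoc R R R D.A D.A D.A (v ⊗ₜ y))).1 i =
          mapDomainRingHom (T i) ((MonoidHom.id M).prodMap (MonoidHom.inl M M)) ((mulMap D D v).1 i) *
            mapDomainRingHom (T i) ((MonoidHom.inr M (M × M)).comp (MonoidHom.inr M M)) (y.1 i) := by
        intro v
        induction v using TensorProduct.induction_on with
        | zero => simp
        | add p q hp hq => simp only [add_tmul, map_add, Subalgebra.coe_add, Pi.add_apply, hp, hq, add_mul]
        | tmul p q =>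
          rw [Algebra.TensorProduct.assoc_tmul, h3, mulMap_tmul, map_mul, mapDomain_mapDomain, mapDomain_mapDomain,
            _root_.mul_assoc]
          congr 2
      rw [Algebra.TensorProduct.map_tmul, AlgHom.id_apply, hx, mulMap_comul, mulMap_tmul, map_mul, mapDomain_mapDomain,
        mapDomain_mapDomain, mapDomain_mapDomain]
      congr 2
  have hR : ∀ w : D.A ⊗[R] D.A, (μ3 (Algebra.TensorProduct.map (AlgHom.id R D.A) (comul hD) w)).1 i =
      mapDomainRingHom (T i) ((MonoidHom.id M).prodMap dg) ((mulMap D D w).1 i) := by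
    intro w
    induction w using TensorProduct.induction_on with
    | zero => simp
    | add x y hx hy => simp only [map_add, Subalgebra.coe_add, Pi.add_apply, hx, hy]
    | tmul x y =>
      change (mulMap D (D.prod D) (x ⊗ₜ mulMap D D (comul hD y))).1 i = _
      rw [mulMap_tmul, mulMap_comul, mulMap_tmul, map_mul, mapDomain_mapDomain, mapDomain_mapDomain, mapDomain_mapDomain]
      congr 2
  change (μ3 (Algebra.TensorProduct.assoc R R R D.A D.A D.A
    (Algebra.TensorProduct.map (comul hD) (AlgHom.id R D.A) (comul hD a)))).1 i =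
      (μ3 (Algebra.TensorProduct.map (AlgHom.id R D.A) (comul hD) (comul hD a))).1 i
  rw [hL, hR, mulMap_comul, mapDomain_mapDomain, mapDomain_mapDomain]
  congr 1

theorem rTensor_counit (hD : D.IsGL) : (Algebra.TensorProduct.map (counit hD) (AlgHom.id R D.A)).comp (comul hD) =
    (Algebra.TensorProduct.lid R D.A).symm := by
  refine AlgHom.ext fun a => (Algebra.TensorProduct.lid R D.A).injective ?_
  change Algebra.TensorProduct.lid R D.A (Algebra.TensorProduct.map (counit hD) (AlgHom.id R D.A) (comul hD a)) =
    Algebra.TensorProduct.lid R D.A ((Algebra.TensorProduct.lid R D.A).symm a)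
  rw [AlgEquiv.apply_symm_apply]
  refine Subtype.ext (funext fun i => ?_)
  have h : ∀ w : D.A ⊗[R] D.A, (Algebra.TensorProduct.lid R D.A
      (Algebra.TensorProduct.map (counit hD) (AlgHom.id R D.A) w)).1 i =
      mapDomainRingHom (T i) (MonoidHom.snd (D.M i) (D.M i)) ((mulMap D D w).1 i) := by
    intro w
    induction w using TensorProduct.induction_on with
    | zero => simp
    | add x y hx hy => simp only [map_add, Subalgebra.coe_add, Pi.add_apply, hx, hy]
    | tmul x y =>
      rw [mulMap_tmul, map_mul, mapDomain_mapDomain, mapDomain_mapDomain, MonoidHom.snd_comp_inr, mapDomain_id,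
        MonoidHom.snd_comp_inl, mapDomain_one_apply hD, Algebra.TensorProduct.map_tmul, Algebra.TensorProduct.lid_tmul,
        AlgHom.id_apply, ← Algebra.smul_def]
      rfl
  rw [h, mulMap_comul, mapDomain_mapDomain, show (MonoidHom.snd (D.M i) (D.M i)).comp
    ((MonoidHom.id (D.M i)).prod (MonoidHom.id (D.M i))) = MonoidHom.id _ from MonoidHom.ext fun _ => rfl, mapDomain_id]

theorem lTensor_counit (hD : D.IsGL) : (Algebra.TensorProduct.map (AlgHom.id R D.A) (counit hD)).comp (comul hD) =
    (Algebra.TensorProduct.rid R R D.A).symm := by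
  refine AlgHom.ext fun a => (Algebra.TensorProduct.rid R R D.A).injective ?_
  change Algebra.TensorProduct.rid R R D.A (Algebra.TensorProduct.map (AlgHom.id R D.A) (counit hD) (comul hD a)) =
    Algebra.TensorProduct.rid R R D.A ((Algebra.TensorProduct.rid R R D.A).symm a)
  rw [AlgEquiv.apply_symm_apply]
  refine Subtype.ext (funext fun i => ?_)
  have h : ∀ w : D.A ⊗[R] D.A, (Algebra.TensorProduct.rid R R D.A
      (Algebra.TensorProduct.map (AlgHom.id R D.A) (counit hD) w)).1 i =
      mapDomainRingHom (T i) (MonoidHom.fst (D.M i) (D.M i)) ((mulMap D D w).1 i) := by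
    intro w
    induction w using TensorProduct.induction_on with
    | zero => simp
    | add x y hx hy => simp only [map_add, Subalgebra.coe_add, Pi.add_apply, hx, hy]
    | tmul x y =>
      rw [mulMap_tmul, map_mul, mapDomain_mapDomain, mapDomain_mapDomain, MonoidHom.fst_comp_inl, mapDomain_id,
        MonoidHom.fst_comp_inr, mapDomain_one_apply hD, Algebra.TensorProduct.map_tmul, Algebra.TensorProduct.rid_tmul,
        AlgHom.id_apply, mul_comm, ← Algebra.smul_def]
      rfl
  rw [h, mulMap_comul, mapDomain_mapDomain, show (MonoidHom.fst (D.M i) (D.M i)).comp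
    ((MonoidHom.id (D.M i)).prod (MonoidHom.id (D.M i))) = MonoidHom.id _ from MonoidHom.ext fun _ => rfl, mapDomain_id]

theorem antipode_mul (hD : D.IsGL) (a : D.A) :
    Algebra.TensorProduct.lift (map _ hD.inv) (AlgHom.id R D.A) (fun _ _ => Commute.all _ _) (comul hD a) =
      algebraMap R D.A (counit hD a) := by
  refine Subtype.ext (funext fun i => ?_)
  have h : ∀ w : D.A ⊗[R] D.A,
      (Algebra.TensorProduct.lift (map _ hD.inv) (AlgHom.id R D.A) (fun _ _ => Commute.all _ _) w).1 i =
        mapDomainRingHom (T i) ((invMonoidHom : D.M i →* D.M i).coprod (MonoidHom.id _)) ((mulMap D D w).1 i) := by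
    intro w
    induction w using TensorProduct.induction_on with
    | zero => simp
    | add x y hx hy => simp only [map_add, Subalgebra.coe_add, Pi.add_apply, hx, hy]
    | tmul x y =>
      rw [mulMap_tmul, map_mul, mapDomain_mapDomain, mapDomain_mapDomain, MonoidHom.coprod_comp_inl,
        MonoidHom.coprod_comp_inr, mapDomain_id, Algebra.TensorProduct.lift_tmul]
      rfl
  rw [h, mulMap_comul, mapDomain_mapDomain, show ((invMonoidHom : D.M i →* D.M i).coprod (MonoidHom.id _)).comp
    ((MonoidHom.id (D.M i)).prod (MonoidHom.id (D.M i))) = 1 from MonoidHom.ext fun m => by simp,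
    mapDomain_one_apply hD]
  rfl

theorem mul_antipode (hD : D.IsGL) (a : D.A) :
    Algebra.TensorProduct.lift (AlgHom.id R D.A) (map _ hD.inv) (fun _ _ => Commute.all _ _) (comul hD a) =
      algebraMap R D.A (counit hD a) := by
  refine Subtype.ext (funext fun i => ?_)
  have h : ∀ w : D.A ⊗[R] D.A,
      (Algebra.TensorProduct.lift (AlgHom.id R D.A) (map _ hD.inv) (fun _ _ => Commute.all _ _) w).1 i =
        mapDomainRingHom (T i) ((MonoidHom.id (D.M i)).coprod invMonoidHom) ((mulMap D D w).1 i) := by
    intro w
    induction w using TensorProduct.induction_on with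
    | zero => simp
    | add x y hx hy => simp only [map_add, Subalgebra.coe_add, Pi.add_apply, hx, hy]
    | tmul x y =>
      rw [mulMap_tmul, map_mul, mapDomain_mapDomain, mapDomain_mapDomain, MonoidHom.coprod_comp_inl,
        MonoidHom.coprod_comp_inr, mapDomain_id, Algebra.TensorProduct.lift_tmul]
      rfl
  rw [h, mulMap_comul, mapDomain_mapDomain, show ((MonoidHom.id (D.M i)).coprod invMonoidHom).comp
    ((MonoidHom.id (D.M i)).prod (MonoidHom.id (D.M i))) = 1 from MonoidHom.ext fun m => by simp,
    mapDomain_one_apply hD]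
  rfl

/-- The Hopf algebra of a datum of group-like elements. -/
noncomputable abbrev hopf (hD : D.IsGL) : HopfAlgebra R D.A :=
  letI : Bialgebra R D.A :=
    Bialgebra.ofAlgHom (comul hD) (counit hD) (coassoc hD) (rTensor_counit hD) (lTensor_counit hD)
  HopfAlgebra.ofAlgHom (map _ hD.inv) (AlgHom.ext fun a => antipode_mul hD a)
    (AlgHom.ext fun a => mul_antipode hD a)

/-- The descended Hopf algebra is split by the family. -/
theorem exists_frame (hD : D.IsGL) (k : ι) :
    letI := hopf hD
    ∃ g : D.M k →* GroupLike (T k) (T k ⊗[R] D.A), IsFrame g ∧ ∀ m, D.triv k (g m).val = single m 1 := by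
  letI := hopf hD
  haveI : ∀ i, Module.Flat R (T i) := flat_factor
  let e := AlgEquiv.ofBijective (D.triv k) (D.triv_bijective k)
  have he : ∀ z, D.triv k (e.symm z) = z := e.apply_symm_apply
  have hgl : ∀ m, IsGroupLikeElem (T k) (e.symm (single m 1)) := by
    intro m
    rw [isGroupLikeElem_iff_lTensor]
    refine ⟨?_, ?_⟩
    · have h : ∀ w : T k ⊗[R] D.A, single PUnit.unit (Coalgebra.counit (R := T k) w) =
          mapDomainRingHom (T k) (1 : D.M k →* PUnit) (D.triv k w) := by
        intro w
        induction w using TensorProduct.induction_on with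
        | zero => simp
        | add x y hx hy => simp only [map_add, single_add, hx, hy]
        | tmul t a =>
          rw [triv_tmul, mapDomainRingHom_smul, mapDomain_one_apply hD, TensorProduct.counit_tmul,
            CommSemiring.counit_apply, IsScalarTower.algebraMap_apply R (T k) (MonoidAlgebra (T k) PUnit)]
          change single PUnit.unit (counit hD a • t) = _
          simp [MonoidAlgebra.coe_algebraMap, Algebra.smul_def, mul_comm]
      have h1 := congrArg (fun z => z.coeff PUnit.unit) (h (e.symm (single m 1)))
      rw [he] at h1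
      simpa using h1
    · refine (((D.prod D).triv_bijective k).1.comp (Algebra.TensorProduct.congr (AlgEquiv.refl : T k ≃ₐ[T k] T k)
        (mulEquiv D D)).injective) ?_
      let Φ : T k ⊗[R] (D.A ⊗[R] D.A) →ₐ[T k] MonoidAlgebra (T k) (D.M k × D.M k) :=
        ((D.prod D).triv k).comp (Algebra.TensorProduct.map (AlgHom.id (T k) (T k)) (mulMap D D))
      change Φ _ = Φ _
      have h1 : ∀ w, Φ ((Coalgebra.comul (R := R) (A := D.A)).lTensor (T k) w) =
          mapDomainRingHom (T k) ((MonoidHom.id (D.M k)).prod (MonoidHom.id (D.M k))) (D.triv k w) := by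
        intro w
        induction w using TensorProduct.induction_on with
        | zero => simp
        | add x y hx hy => simp only [map_add, hx, hy]
        | tmul t a =>
          change (D.prod D).triv k (t ⊗ₜ mulMap D D (comul hD a)) = _
          rw [triv_tmul, triv_tmul, mulMap_comul, mapDomainRingHom_smul]
      have h2 : ∀ w, Φ (inl2 R D.A (T k) w) = mapDomainRingHom (T k) (MonoidHom.inl (D.M k) (D.M k)) (D.triv k w) := by
        intro w
        induction w using TensorProduct.induction_on with
        | zero => simp
        | add x y hx hy => simp only [map_add, hx, hy]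
        | tmul t a =>
          change (D.prod D).triv k (t ⊗ₜ mulMap D D (a ⊗ₜ 1)) = _
          rw [triv_tmul, triv_tmul, mulMap_tmul, mapDomainRingHom_smul]
          change t • (_ * mapDomainRingHom (T k) _ 1) = _
          rw [map_one, _root_.mul_one]
      have h3 : ∀ w, Φ (inr2 R D.A (T k) w) = mapDomainRingHom (T k) (MonoidHom.inr (D.M k) (D.M k)) (D.triv k w) := by
        intro w
        induction w using TensorProduct.induction_on with
        | zero => simp
        | add x y hx hy => simp only [map_add, hx, hy]
        | tmul t a =>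
          change (D.prod D).triv k (t ⊗ₜ mulMap D D (1 ⊗ₜ a)) = _
          rw [triv_tmul, triv_tmul, mulMap_tmul, mapDomainRingHom_smul]
          change t • (mapDomainRingHom (T k) _ 1 * _) = _
          rw [map_one, _root_.one_mul]
      rw [h1, map_mul, h2, h3, he]
      simp [single_mul_single]
  let g : D.M k →* GroupLike (T k) (T k ⊗[R] D.A) :=
    { toFun := fun m => ⟨e.symm (single m 1), hgl m⟩
      map_one' := GroupLike.ext (map_one e.symm)
      map_mul' := fun a b => GroupLike.ext (by
        change e.symm (single (a * b) 1) = e.symm (single a 1) * e.symm (single b 1)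
        rw [← map_mul, single_mul_single, _root_.mul_one]) }
  refine ⟨g, ?_, fun m => he _⟩
  have h : ∀ z, glHom g z = e.symm z := by
    intro z
    induction z using MonoidAlgebra.induction_linear with
    | zero => simp
    | add x y hx hy => rw [map_add, map_add, hx, hy]
    | single m r =>
      rw [glHom_single]
      change r • e.symm (single m 1) = _
      rw [← map_smul, smul_single, smul_eq_mul, _root_.mul_one]
  rw [IsFrame, show (glHom g : MonoidAlgebra (T k) (D.M k) → T k ⊗[R] D.A) = e.symm from funext h]
  exact e.symm.bijective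

end Datum

end GrothLib.MultLocal
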