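import Groth.Agent.Lib.MultLocal.TransLift
import Groth.Agent.Lib.MultLocal.EffectiveHopf

/-!
Comparison of a framed Hopf algebra with the algebra of its descent datum, and lifting along nilpotents.
-/

universe u

set_option linter.style.haveILetI false
set_option maxSynthPendingDepth 3

open TensorProduct MonoidAlgebra

namespace GrothLib.MultLocal

variable {R₀ : Type u} [CommRing R₀] {A : Type u} [CommRing A] [Bialgebra R₀ A] {ι : Type u} {E : ι → Type u}
  [∀ i, CommRing (E i)] [∀ i, Algebra R₀ (E i)] {M : ι → Type u} [∀ i, CommGroup (M i)]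
  {g : ∀ i, M i →* GroupLike (E i) (E i ⊗[R₀] A)}

/-- The datum of a family of frames. -/
@[reducible] noncomputable def frameDatum (hg : ∀ i, IsFrame (g i)) : Datum R₀ E where
  M := M
  grp i := inferInstance
  u i j := tr hg Algebra.TensorProduct.includeLeft Algebra.TensorProduct.includeRight
  unit i m := by
    rw [mapRingHom_tr, show (pair (AlgHom.id R₀ (E i)) (AlgHom.id R₀ (E i))).comp Algebra.TensorProduct.includeLeft =
      AlgHom.id R₀ (E i) from AlgHom.ext fun x => by simp,
      show (pair (AlgHom.id R₀ (E i)) (AlgHom.id R₀ (E i))).comp Algebra.TensorProduct.includeRight =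
      AlgHom.id R₀ (E i) from AlgHom.ext fun x => by simp, tr_self]
  cocycle i j k C _ _ a b c m := by
    have h : ∀ {p q : ι} (a : E p →ₐ[R₀] C) (b : E q →ₐ[R₀] C) (n : M p), mapRingHom (M q) (pair a b : E p ⊗[R₀] E q →+* C)
        (tr hg Algebra.TensorProduct.includeLeft Algebra.TensorProduct.includeRight n) = tr hg a b n := fun a b n => by
      rw [mapRingHom_tr, show (pair a b).comp Algebra.TensorProduct.includeLeft = a from AlgHom.ext fun x => by simp,
        show (pair a b).comp Algebra.TensorProduct.includeRight = b from AlgHom.ext fun x => by simp]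
    rw [h a b m, h a c m, push_congr _ _ (tr hg b c) (h b c), tr_trans]

theorem symm_frame_mem (hg : ∀ i, IsFrame (g i)) (x : A) :
    (fun i => (hg i).equiv.symm ((1 : E i) ⊗ₜ[R₀] x)) ∈ (frameDatum hg).sub := by
  refine (frameDatum hg).mem_sub.mpr fun i j => ?_
  let C := E i ⊗[R₀] E j
  let a : E i →ₐ[R₀] C := Algebra.TensorProduct.includeLeft
  let b : E j →ₐ[R₀] C := Algebra.TensorProduct.includeRight
  apply ((hg j).map b).1
  change glHom ((glMap A b).comp (g j)) (push (AlgHom.id R₀ C) (tr hg a b) (mapRingHom (M i) (a : E i →+* C) _)) =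
    glHom ((glMap A b).comp (g j)) (mapRingHom (M j) (b : E j →+* C) _)
  rw [glHom_push_tr, glHom_glMap, glHom_glMap, ← IsFrame.equiv_apply (hg i), ← IsFrame.equiv_apply (hg j)]
  change coefMap A a ((hg i).equiv ((hg i).equiv.symm _)) = coefMap A b ((hg j).equiv ((hg j).equiv.symm _))
  rw [BialgEquiv.apply_symm_apply, BialgEquiv.apply_symm_apply, coefMap_tmul, coefMap_tmul, map_one a, map_one b]

/-- A framed bialgebra maps to the algebra of its datum. -/
noncomputable def toDatum (hg : ∀ i, IsFrame (g i)) : A →ₐ[R₀] (frameDatum hg).A :=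
  (AlgHom.pi fun i => (((hg i).equiv.symm : E i ⊗[R₀] A →ₐc[E i] MonoidAlgebra (E i) (M i)) :
      E i ⊗[R₀] A →ₐ[E i] MonoidAlgebra (E i) (M i)).restrictScalars R₀ |>.comp
      (Algebra.TensorProduct.includeRight : A →ₐ[R₀] E i ⊗[R₀] A)).codRestrict (frameDatum hg).sub
    (symm_frame_mem hg)

theorem toDatum_apply (hg : ∀ i, IsFrame (g i)) (x : A) (i : ι) :
    (toDatum hg x).1 i = (hg i).equiv.symm ((1 : E i) ⊗ₜ[R₀] x) := rfl

theorem toDatum_bijective [Fintype ι] [Module.FaithfullyFlat R₀ (∀ i, E i)] (hg : ∀ i, IsFrame (g i)) :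
    Function.Bijective (toDatum hg) := by
  haveI : ∀ i, Module.Flat R₀ (E i) := Datum.flat_factor
  refine Datum.bijective_of_forall_lTensor (T := E) (toDatum hg).toLinearMap fun k => ?_
  have h : ∀ w : E k ⊗[R₀] A, (frameDatum hg).triv k ((toDatum hg).toLinearMap.lTensor (E k) w) = (hg k).equiv.symm w := by
    intro w
    induction w using TensorProduct.induction_on with
    | zero => simp
    | add x y hx hy => simp only [map_add, hx, hy]
    | tmul t x =>
      rw [LinearMap.lTensor_tmul, Datum.triv_tmul]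
      change t • (hg k).equiv.symm ((1 : E k) ⊗ₜ[R₀] x) = _
      rw [← map_smul, smul_tmul', smul_eq_mul, _root_.mul_one]
  refine (Function.Bijective.of_comp_iff' ((frameDatum hg).triv_bijective k) _).mp ?_
  rw [show ((frameDatum hg).triv k ∘ (toDatum hg).toLinearMap.lTensor (E k)) = (hg k).equiv.symm from funext h]
  exact (hg k).equiv.symm.bijective

/-- An algebra map which is locally an isomorphism of bialgebras is one. -/
theorem nonempty_bialgEquiv_of_locally [Fintype ι] [Module.FaithfullyFlat R₀ (∀ i, E i)] {B : Type u} [CommRing B]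
    [Bialgebra R₀ B] (F : B →ₐ[R₀] A) (G : ∀ k, E k ⊗[R₀] B ≃ₐc[E k] E k ⊗[R₀] A)
    (hG : ∀ k x, G k ((1 : E k) ⊗ₜ x) = (1 : E k) ⊗ₜ F x) : Nonempty (B ≃ₐc[R₀] A) := by
  have hb : Function.Bijective F := Datum.bijective_of_forall_lTensor (T := E) F.toLinearMap fun k => by
    have h : ∀ w, F.toLinearMap.lTensor (E k) w = G k w := fun w => by
      induction w using TensorProduct.induction_on with
      | zero => simp
      | add x y hx hy => simp only [map_add, hx, hy]
      | tmul t x =>
        rw [LinearMap.lTensor_tmul, show t ⊗ₜ[R₀] x = t • ((1 : E k) ⊗ₜ[R₀] x) by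
          rw [smul_tmul', smul_eq_mul, _root_.mul_one], map_smul (G k), hG, smul_tmul', smul_eq_mul, _root_.mul_one]
        rfl
    rw [show ⇑(F.toLinearMap.lTensor (E k)) = G k from funext h]
    exact (G k).bijective
  refine ⟨BialgEquiv.ofAlgEquiv (AlgEquiv.ofBijective F hb) (AlgHom.ext fun x => ?_) (AlgHom.ext fun x => ?_)⟩
  · change Coalgebra.counit (R := R₀) (F x) = Coalgebra.counit (R := R₀) x
    apply FaithfulSMul.algebraMap_injective R₀ (∀ i, E i)
    funext k
    have h := CoalgHomClass.counit_comp_apply (G k) ((1 : E k) ⊗ₜ[R₀] x)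
    rw [hG, TensorProduct.counit_tmul, TensorProduct.counit_tmul] at h
    simpa [Algebra.smul_def] using h
  · change TensorProduct.map F.toLinearMap F.toLinearMap (Coalgebra.comul (R := R₀) x) = Coalgebra.comul (R := R₀) (F x)
    refine sub_eq_zero.mp (Datum.eq_zero_of_forall_one_tmul (R := R₀) (T := E) fun k => ?_)
    rw [tmul_sub, sub_eq_zero]
    have h := CoalgHomClass.map_comp_comul_apply (G k) ((1 : E k) ⊗ₜ[R₀] x)
    rw [hG, comul_one_tmul, comul_one_tmul] at h
    have h1 : ∀ z : B ⊗[R₀] B, TensorProduct.map (G k).toCoalgHom.toLinearMap (G k).toCoalgHom.toLinearMap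
        (sqMap R₀ B (E k) z) = sqMap R₀ A (E k) (TensorProduct.map F.toLinearMap F.toLinearMap z) := fun z => by
      induction z using TensorProduct.induction_on with
      | zero => simp [sqMap]
      | add p q hp hq => simp only [sqMap, tmul_add, map_add] at hp hq ⊢; rw [hp, hq]
      | tmul p q =>
        rw [sqMap_tmul, TensorProduct.map_tmul, TensorProduct.map_tmul, sqMap_tmul]
        change G k _ ⊗ₜ G k _ = _
        rw [hG, hG]
        rfl
    have h2 : ∀ z : A ⊗[R₀] A, sqInv R₀ A (E k) (sqMap R₀ A (E k) z) = (1 : E k) ⊗ₜ z := fun z => by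
      induction z using TensorProduct.induction_on with
      | zero => simp [sqMap]
      | add p q hp hq => simp only [sqMap, tmul_add, map_add] at hp hq ⊢; rw [hp, hq]
      | tmul p q => rw [sqMap_tmul, sqInv_tmul, _root_.mul_one]
    rw [← h2, ← h2]
    exact congrArg (sqInv R₀ A (E k)) ((h1 _).symm.trans h)

end GrothLib.MultLocal
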