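import Groth.Agent.Lib.MultLocal.Algebraize
import Groth.Agent.Lib.MultLocal.ClosedFibre

/-!
Frames over complete Noetherian rings from frames on all thickenings.
-/

universe u

set_option linter.style.haveILetI false
set_option maxSynthPendingDepth 3

open TensorProduct MonoidAlgebra

namespace GrothLib.MultLocal

variable {R : Type u} [CommRing R] {A : Type u} [CommRing A] [HopfAlgebra R A] {E : Type u} [CommRing E] [Algebra R E]
  (J : Ideal E) {M : Type u} [CommGroup M]

/-- The transition map between thickenings. -/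
noncomputable def levelMap {m n : ℕ} (h : m ≤ n) : (E ⧸ J ^ (n + 1)) →ₐ[R] E ⧸ J ^ (m + 1) :=
  Ideal.Quotient.liftₐ (J ^ (n + 1)) (Ideal.Quotient.mkₐ R (J ^ (m + 1))) fun _ ha =>
    Ideal.Quotient.eq_zero_iff_mem.mpr (Ideal.pow_le_pow_right (Nat.succ_le_succ h) ha)

theorem levelMap_surjective {m n : ℕ} (h : m ≤ n) : Function.Surjective (levelMap (R := R) J h) :=
  fun a => by
    obtain ⟨z, rfl⟩ := Ideal.Quotient.mk_surjective a
    exact ⟨Ideal.Quotient.mk _ z, rfl⟩

theorem levelMap_nil {m n : ℕ} (h : m ≤ n) :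
    ∀ a ∈ RingHom.ker (levelMap (R := R) J h : E ⧸ J ^ (n + 1) →+* E ⧸ J ^ (m + 1)), IsNilpotent a := by
  intro a ha
  obtain ⟨x, rfl⟩ := Ideal.Quotient.mk_surjective a
  refine ⟨n + 1, ?_⟩
  rw [← map_pow, Ideal.Quotient.eq_zero_iff_mem]
  have hx : x ∈ J ^ (m + 1) := Ideal.Quotient.eq_zero_iff_mem.mp (RingHom.mem_ker.mp ha)
  exact Ideal.pow_mem_pow (Ideal.pow_le_self (Nat.succ_ne_zero m) hx) _

/-- Compatible frames on the thickenings give a homomorphism to the diagonalisable group. -/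
theorem exists_bialgHom_of_levels [IsNoetherianRing E] [IsAdicComplete J E]
    (g : ∀ n : ℕ, M →* GroupLike (E ⧸ J ^ (n + 1)) ((E ⧸ J ^ (n + 1)) ⊗[R] A)) (hg : ∀ n, IsFrame (g n))
    (h0 : ∀ n x, glMap A (levelMap J (Nat.zero_le n)) (g n x) = g 0 x) :
    ∃ f : E ⊗[R] A →ₐc[E] MonoidAlgebra E M, ∀ n y,
      mapRingHom M (Ideal.Quotient.mk (J ^ (n + 1))) (f y) =
        (hg n).equiv.symm (coefMap A (Ideal.Quotient.mkₐ R (J ^ (n + 1))) y) := by
  have hcompat : ∀ m n (h : m ≤ n), (glMap A (levelMap J h)).comp (g n) = g m := fun m n h => by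
    refine MonoidHom.ext fun x => (hg m).ext_of_nil (levelMap J (Nat.zero_le m)) (levelMap_nil J _) ?_
    rw [MonoidHom.comp_apply, glMap_glMap, h0 m, show (levelMap (R := R) J (Nat.zero_le m)).comp (levelMap J h) =
      levelMap J (Nat.zero_le n) from AlgHom.ext fun a => by
        obtain ⟨z, rfl⟩ := Ideal.Quotient.mk_surjective a
        rfl]
    exact h0 n x
  let ψ : ∀ n : ℕ, (E ⧸ J ^ (n + 1)) ⊗[E] (E ⊗[R] A) →ₐc[E ⧸ J ^ (n + 1)] MonoidAlgebra (E ⧸ J ^ (n + 1)) M :=
    fun n => ((hg n).equiv.symm : _ →ₐc[E ⧸ J ^ (n + 1)] MonoidAlgebra (E ⧸ J ^ (n + 1)) M).comp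
      (GrothLib.Hopf.cancelBaseChange R E (E ⧸ J ^ (n + 1)) A : _ →ₐc[E ⧸ J ^ (n + 1)] (E ⧸ J ^ (n + 1)) ⊗[R] A)
  have hψ : ∀ n y, ψ n ((1 : E ⧸ J ^ (n + 1)) ⊗ₜ[E] y) =
      (hg n).equiv.symm (coefMap A (Ideal.Quotient.mkₐ R (J ^ (n + 1))) y) := by
    intro n y
    change (hg n).equiv.symm (GrothLib.Hopf.cancelBaseChange R E (E ⧸ J ^ (n + 1)) A _) = _
    congr 1
    induction y using TensorProduct.induction_on with
    | zero => simp
    | add x y hx hy => simp only [tmul_add, map_add, hx, hy]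
    | tmul t a =>
      rw [GrothLib.Hopf.cancelBaseChange_tmul, coefMap_tmul, Algebra.smul_def, _root_.mul_one]
      rfl
  obtain ⟨f, hf⟩ := exists_bialgHom_of_compatible J ψ fun m n h y => by
    rw [hψ, hψ]
    apply (hg m).equiv.toEquiv.injective
    change (hg m).equiv _ = (hg m).equiv _
    rw [BialgEquiv.apply_symm_apply, IsFrame.equiv_apply]
    obtain ⟨z, hz⟩ : ∃ z, glHom (g n) z = coefMap A (Ideal.Quotient.mkₐ R (J ^ (n + 1))) y := (hg n).2 _
    rw [show (hg n).equiv.symm (coefMap A (Ideal.Quotient.mkₐ R (J ^ (n + 1))) y) = z from by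
      rw [← hz, ← IsFrame.equiv_apply (hg n), BialgEquiv.symm_apply_apply]]
    have h1 := glHom_glMap (levelMap (R := R) J h) (g n) z
    rw [hcompat m n h, hz, coefMap_comp] at h1
    exact h1
  exact ⟨f, fun n y => (hf n y).trans (hψ n y)⟩

/-- Frames of groups of multiplicative type lift from `E ⧸ J` to the complete ring `E`. -/
theorem exists_frame_of_adic (h : SGA3b.IsMultType R A) [IsNoetherianRing E] [IsAdicComplete J E]
    {h₀ : M →* GroupLike (E ⧸ J) ((E ⧸ J) ⊗[R] A)} (hh₀ : IsFrame h₀) :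
    ∃ g : M →* GroupLike E (E ⊗[R] A), IsFrame g := by
  let e₀ : (E ⧸ J) →ₐ[R] E ⧸ J ^ (0 + 1) := Ideal.Quotient.liftₐ J (Ideal.Quotient.mkₐ R (J ^ (0 + 1))) fun a ha =>
    Ideal.Quotient.eq_zero_iff_mem.mpr (by rwa [zero_add, pow_one])
  have hk₀ := hh₀.map e₀
  have hlev : ∀ n : ℕ, ∃ g : M →* GroupLike (E ⧸ J ^ (n + 1)) ((E ⧸ J ^ (n + 1)) ⊗[R] A), IsFrame g ∧
      ∀ x, glMap A (levelMap J (Nat.zero_le n)) (g x) = glMap A e₀ (h₀ x) := by
    intro n
    obtain ⟨g', hg'⟩ := exists_frame_of_nil h (levelMap J (Nat.zero_le n)) (levelMap_surjective J _)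
      (levelMap_nil J _) hk₀
    exact exists_frame_lift (levelMap J (Nat.zero_le n)) (levelMap_surjective J _) (levelMap_nil J _) hg' hk₀
  choose g hg hgh using hlev
  have h0 : ∀ n x, glMap A (levelMap J (Nat.zero_le n)) (g n x) = g 0 x := fun n x => by
    rw [hgh n x, ← hgh 0 x, show levelMap (R := R) J (Nat.zero_le 0) = AlgHom.id R _ from AlgHom.ext fun a => by
      obtain ⟨z, rfl⟩ := Ideal.Quotient.mk_surjective a
      rfl, glMap_id]
  obtain ⟨f, hf⟩ := exists_bialgHom_of_levels J g hg h0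
  have hf0 : ∀ y, mapRingHom M (Ideal.Quotient.mk (J ^ (0 + 1))) (f y) =
      (hg 0).equiv.symm (coefMap A (Ideal.Quotient.mkₐ R (J ^ (0 + 1))) y) := hf 0
  have hJ : J ^ (0 + 1) ≤ (⊥ : Ideal E).jacobson := by
    rw [zero_add, pow_one]; exact IsAdicComplete.le_jacobson_bot J
  have hmod : Function.Bijective
      ((f : E ⊗[R] A →ₐ[E] MonoidAlgebra E M).toLinearMap.lTensor (E ⧸ J ^ (0 + 1))) := by
    let cC := GrothLib.Hopf.cancelBaseChange R E (E ⧸ J ^ (0 + 1)) A
    let cM := GrothLib.Hopf.groupAlgBaseChange E (E ⧸ J ^ (0 + 1)) M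
    have : ∀ w, cM ((f : E ⊗[R] A →ₐ[E] MonoidAlgebra E M).toLinearMap.lTensor (E ⧸ J ^ (0 + 1)) w) =
        (hg 0).equiv.symm (cC w) := fun w => by
      induction w using TensorProduct.induction_on with
      | zero => simp
      | add x y hx hy => simp only [map_add, hx, hy]
      | tmul t y =>
        obtain ⟨t, rfl⟩ := Ideal.Quotient.mk_surjective t
        rw [show (Ideal.Quotient.mk (J ^ (0 + 1)) t) ⊗ₜ[E] y = t • ((1 : E ⧸ J ^ (0 + 1)) ⊗ₜ[E] y) by
          rw [smul_tmul', Algebra.smul_def, _root_.mul_one]; rfl]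
        rw [map_smul, ← algebraMap_smul (E ⧸ J ^ (0 + 1)) t, ← algebraMap_smul (E ⧸ J ^ (0 + 1)) t, map_smul cM,
          map_smul cC, map_smul (hg 0).equiv.symm, LinearMap.lTensor_tmul]
        congr 1
        refine Eq.trans ?_ ((hf0 y).trans ?_)
        · change cM ((1 : E ⧸ J ^ (0 + 1)) ⊗ₜ[E] f y) = _
          generalize f y = z
          rw [GrothLib.Hopf.groupAlgBaseChange_tmul, one_smul]
          rfl
        · congr 1
          clear hf0
          induction y using TensorProduct.induction_on with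
          | zero => simp
          | add x y hx hy => simp only [tmul_add, map_add, hx, hy]
          | tmul s a =>
            rw [GrothLib.Hopf.cancelBaseChange_tmul, coefMap_tmul, Algebra.smul_def, _root_.mul_one]
            rfl
    have h2 : Function.Bijective (cM ∘ (f : E ⊗[R] A →ₐ[E] MonoidAlgebra E M).toLinearMap.lTensor (E ⧸ J ^ (0 + 1))) := by
      rw [show (cM ∘ _) = (hg 0).equiv.symm ∘ cC from funext this]
      exact (hg 0).equiv.symm.bijective.comp cC.bijective
    exact (Function.Bijective.of_comp_iff' cM.bijective _).mp h2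
  have hb := bijective_of_local_frames f hJ hmod fun m hm => haveI := hm.isPrime; exists_local_frame h m
  exact exists_frame_of_equiv (BialgEquiv.ofBijective f hb)

end GrothLib.MultLocal
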