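import Mathlib.RingTheory.Spectrum.Prime.Chevalley
import Mathlib.RingTheory.Bialgebra.TensorProduct
import Mathlib.RingTheory.Etale.Basic
import Mathlib.RingTheory.Smooth.Flat
import Mathlib.RingTheory.TensorProduct.Finite

/-!
Idempotents vanishing on the unit section of a bialgebra with connected fibres.
-/

universe u

set_option linter.style.haveILetI false
set_option maxSynthPendingDepth 3

open TensorProduct

namespace GrothLib.MultLocal

variable {A : Type u} [CommRing A] {C : Type u} [CommRing C] [Bialgebra A C]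

theorem eq_zero_of_connected_fibres
    (hconn : ∀ (p : Ideal A) [p.IsPrime], ConnectedSpace (PrimeSpectrum (p.ResidueField ⊗[A] C)))
    {e : C} (he : IsIdempotentElem e) (h0 : Coalgebra.counit (R := A) e = 0) : e = 0 := by
  refine he.eq_zero_of_isNilpotent ?_
  rw [nilpotent_iff_mem_prime]
  intro q hq
  let p := q.comap (algebraMap A C)
  haveI := hconn p
  let κ := p.ResidueField
  have hp : ∀ a, algebraMap A q.ResidueField a = 0 ↔ a ∈ p := fun a => by
    rw [IsScalarTower.algebraMap_apply A C q.ResidueField, Ideal.algebraMap_residueField_eq_zero]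
    rfl
  let χ : κ →ₐ[A] q.ResidueField := Ideal.ResidueField.mapₐ p q (Algebra.ofId A C) rfl
  let ev : κ ⊗[A] C →ₐ[A] q.ResidueField :=
    Algebra.TensorProduct.lift χ (IsScalarTower.toAlgHom A C q.ResidueField) fun _ _ => Commute.all _ _
  have hid : IsIdempotentElem ((1 : κ) ⊗ₜ[A] e) := by
    change _ * _ = _
    rw [Algebra.TensorProduct.tmul_mul_tmul, _root_.one_mul, he.eq]
  have hz : (1 : κ) ⊗ₜ[A] e = 0 := by
    rcases isClopen_iff.1 (PrimeSpectrum.isClopen_iff.2 ⟨_, hid, rfl⟩) with h | h
    · obtain ⟨n, hn⟩ := (PrimeSpectrum.basicOpen_eq_bot_iff _).1 (SetLike.ext' h)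
      exact hid.eq_zero_of_isNilpotent ⟨n, hn⟩
    · have h1 : (1 : κ) ⊗ₜ[A] e = 1 := PrimeSpectrum.basicOpen_injOn_isIdempotentElem hid IsIdempotentElem.one
        (SetLike.ext' (h.trans (congrArg SetLike.coe (PrimeSpectrum.basicOpen_one (R := κ ⊗[A] C))).symm))
      have h2 := congrArg (Algebra.TensorProduct.lift (AlgHom.id A κ) ((Algebra.ofId A κ).comp (Bialgebra.counitAlgHom A C))
        (fun _ _ => Commute.all _ _)) h1
      rw [Algebra.TensorProduct.lift_tmul, map_one, map_one, _root_.one_mul, AlgHom.comp_apply] at h2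
      change algebraMap A κ (Coalgebra.counit (R := A) e) = 1 at h2
      rw [h0, map_zero] at h2
      exact absurd h2 zero_ne_one
  have h3 := congrArg ev hz
  rw [Algebra.TensorProduct.lift_tmul, map_zero, map_one, _root_.one_mul] at h3
  exact Ideal.algebraMap_residueField_eq_zero.mp h3

variable (E : Type u) [CommRing E] [Algebra A E] [Module.Flat A E] [Algebra.FinitePresentation A E] [Module.Finite A E]

/-- Idempotents of a finite flat base change vanishing on the unit section vanish. -/
theorem eq_zero_of_connected_fibres_baseChange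
    (hconn : ∀ (p : Ideal A) [p.IsPrime], ConnectedSpace (PrimeSpectrum (p.ResidueField ⊗[A] C)))
    {e : E ⊗[A] C} (he : IsIdempotentElem e) (h0 : Coalgebra.counit (R := E) e = 0) : e = 0 := by
  let S := C ⊗[A] E
  let σ : E ⊗[A] C ≃ₐ[A] S := Algebra.TensorProduct.comm A E C
  have he' : IsIdempotentElem (σ e) := he.map σ
  let π := PrimeSpectrum.comap (algebraMap C S)
  have hopen : IsOpenMap π := PrimeSpectrum.isOpenMap_comap_of_hasGoingDown_of_finitePresentation
  have hclosed : IsClosedMap π :=
    PrimeSpectrum.isClosedMap_comap_of_isIntegral _ (algebraMap_isIntegral_iff.mpr inferInstance)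
  have hcl : IsClopen (π '' (PrimeSpectrum.basicOpen (σ e) : Set (PrimeSpectrum S))) :=
    have h := PrimeSpectrum.isClopen_iff.2 ⟨σ e, he', rfl⟩
    ⟨hclosed _ h.1, hopen _ h.2⟩
  obtain ⟨e', he'', hU⟩ := PrimeSpectrum.exists_idempotent_basicOpen_eq_of_isClopen hcl
  let ε : C →ₐ[A] A := Bialgebra.counitAlgHom A C
  have h0' : Coalgebra.counit (R := A) e' = 0 := by
    refine (he''.map ε).eq_zero_of_isNilpotent ?_
    rw [nilpotent_iff_mem_prime]
    intro p hp
    by_contra hpe
    let x : PrimeSpectrum C := PrimeSpectrum.comap ε.toRingHom ⟨p, hp⟩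
    have hx : x ∈ π '' (PrimeSpectrum.basicOpen (σ e) : Set (PrimeSpectrum S)) := by
      rw [hU]
      exact hpe
    obtain ⟨y, hy, hyx⟩ := hx
    refine hy ?_
    have key : ∀ z : E ⊗[A] C, σ z - (1 : C) ⊗ₜ[A] Coalgebra.counit (R := E) z ∈ y.asIdeal := by
      intro z
      induction z using TensorProduct.induction_on with
      | zero => simp
      | add u v hu hv =>
        rw [map_add, map_add, tmul_add, add_sub_add_comm]
        exact add_mem hu hv
      | tmul t c =>
        have hmem : algebraMap C S (c - algebraMap A C (ε c)) ∈ y.asIdeal := by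
          have h1 : c - algebraMap A C (ε c) ∈ (π y).asIdeal := by
            rw [hyx]
            change ε (c - algebraMap A C (ε c)) ∈ p
            rw [map_sub, ε.commutes, Algebra.algebraMap_self_apply, sub_self]
            exact p.zero_mem
          exact h1
        have heq : σ (t ⊗ₜ c) - (1 : C) ⊗ₜ[A] Coalgebra.counit (R := E) (t ⊗ₜ[A] c) =
            algebraMap C S (c - algebraMap A C (ε c)) * ((1 : C) ⊗ₜ[A] t) := by
          rw [show σ (t ⊗ₜ c) = c ⊗ₜ[A] t from Algebra.TensorProduct.comm_tmul _ _ _, TensorProduct.counit_tmul,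
            CommSemiring.counit_apply, Algebra.TensorProduct.algebraMap_apply, Algebra.algebraMap_self_apply,
            Algebra.TensorProduct.tmul_mul_tmul, _root_.mul_one, _root_.one_mul, sub_tmul,
            Algebra.algebraMap_eq_smul_one, smul_tmul]
          rfl
        rw [heq]
        exact Ideal.mul_mem_right _ _ hmem
    have := key e
    rwa [h0, tmul_zero, sub_zero] at this
  have he0 : e' = 0 := eq_zero_of_connected_fibres hconn he'' h0'
  have hempty : (PrimeSpectrum.basicOpen (σ e) : Set (PrimeSpectrum S)) = ∅ := by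
    rw [he0, PrimeSpectrum.basicOpen_zero] at hU
    exact Set.image_eq_empty.mp hU
  refine σ.injective (((he'.eq_zero_of_isNilpotent ?_)).trans (map_zero σ).symm)
  rw [nilpotent_iff_mem_prime]
  intro q hq
  by_contra hqe
  exact (Set.eq_empty_iff_forall_notMem.mp hempty) ⟨q, hq⟩ hqe

end GrothLib.MultLocal
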