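import Groth.Agent.Lib.MultLocal.Frame
import Mathlib.RingTheory.TensorProduct.Maps
import Mathlib.LinearAlgebra.DirectSum.Finsupp
import Mathlib.LinearAlgebra.TensorProduct.Pi
import Mathlib.RingTheory.Flat.Basic
import Mathlib.RingTheory.Flat.FaithfullyFlat.Basic
import Mathlib.Algebra.Algebra.Subalgebra.Pi

/-!
Effective descent for split groups: the algebra of a descent datum of group algebras.
-/

universe u

set_option linter.style.haveILetI false
set_option maxSynthPendingDepth 3

open TensorProduct MonoidAlgebra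

namespace GrothLib.MultLocal

variable {R : Type u} [CommRing R]

section Push

variable {S C C' : Type u} [CommRing S] [CommRing C] [CommRing C'] [Algebra R S] [Algebra R C] [Algebra R C']
  {M N : Type u} [CommGroup M] [CommGroup N]

/-- The map of group algebras over `C` given by elements over `S`. -/
noncomputable def push (φ : S →ₐ[R] C) (w : M →* MonoidAlgebra S N) : MonoidAlgebra C M →ₐ[C] MonoidAlgebra C N :=
  MonoidAlgebra.lift C (MonoidAlgebra C N) M ((mapRingHom N (φ : S →+* C) : MonoidAlgebra S N →* MonoidAlgebra C N).comp w)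

@[simp]
theorem push_single (φ : S →ₐ[R] C) (w : M →* MonoidAlgebra S N) (m : M) (c : C) :
    push φ w (single m c) = c • mapRingHom N (φ : S →+* C) (w m) := by
  simp [push]

omit [CommGroup M] in
theorem mapRingHom_smul {N : Type u} [CommGroup N] (ψ : C →ₐ[R] C') (c : C) (x : MonoidAlgebra C N) :
    mapRingHom N (ψ : C →+* C') (c • x) = ψ c • mapRingHom N (ψ : C →+* C') x :=
  MonoidAlgebra.ext (Finsupp.ext fun m => by simp)

theorem mapRingHom_mapRingHom (φ : S →ₐ[R] C) (ψ : C →ₐ[R] C') (x : MonoidAlgebra S N) :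
    mapRingHom N (ψ : C →+* C') (mapRingHom N (φ : S →+* C) x) = mapRingHom N ((ψ.comp φ : S →ₐ[R] C') : S →+* C') x :=
  MonoidAlgebra.ext (Finsupp.ext fun m => by simp)

theorem mapRingHom_push (φ : S →ₐ[R] C) (ψ : C →ₐ[R] C') (w : M →* MonoidAlgebra S N) (x : MonoidAlgebra C M) :
    mapRingHom N (ψ : C →+* C') (push φ w x) = push (ψ.comp φ) w (mapRingHom M (ψ : C →+* C') x) := by
  induction x using MonoidAlgebra.induction_linear with
  | zero => simp
  | add x y hx hy => simp only [map_add, hx, hy]
  | single m c =>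
    rw [push_single, mapRingHom_smul, mapRingHom_mapRingHom]
    simp

theorem mapRingHom_push_id (ψ : S →ₐ[R] C') (w : M →* MonoidAlgebra S N) (x : MonoidAlgebra S M) :
    mapRingHom N (ψ : S →+* C') (push (AlgHom.id R S) w x) = push ψ w (mapRingHom M (ψ : S →+* C') x) := by
  rw [mapRingHom_push, AlgHom.comp_id]

end Push

variable {ι : Type u} (T : ι → Type u) [∀ i, CommRing (T i)] [∀ i, Algebra R (T i)]

/-- The map out of a tensor product of two algebras. -/
noncomputable def pair {A B C : Type u} [CommRing A] [CommRing B] [CommRing C] [Algebra R A] [Algebra R B]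
    [Algebra R C] (a : A →ₐ[R] C) (b : B →ₐ[R] C) : A ⊗[R] B →ₐ[R] C :=
  Algebra.TensorProduct.lift a b fun _ _ => Commute.all _ _

@[simp]
theorem pair_tmul {A B C : Type u} [CommRing A] [CommRing B] [CommRing C] [Algebra R A] [Algebra R B]
    [Algebra R C] (a : A →ₐ[R] C) (b : B →ₐ[R] C) (x : A) (y : B) : pair a b (x ⊗ₜ[R] y) = a x * b y :=
  Algebra.TensorProduct.lift_tmul _ _ _ _ _

theorem comp_pair {A B C D : Type u} [CommRing A] [CommRing B] [CommRing C] [CommRing D] [Algebra R A] [Algebra R B]
    [Algebra R C] [Algebra R D] (ψ : C →ₐ[R] D) (a : A →ₐ[R] C) (b : B →ₐ[R] C) :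
    ψ.comp (pair a b) = pair (ψ.comp a) (ψ.comp b) :=
  Algebra.TensorProduct.ext' fun x y => by simp

variable (R) in
/-- A descent datum of group algebras along a family of algebras. -/
structure Datum where
  /-- The groups. -/
  M : ι → Type u
  /-- The group structures. -/
  grp : ∀ i, CommGroup (M i)
  /-- The transition maps. -/
  u : ∀ i j, M i →* MonoidAlgebra (T i ⊗[R] T j) (M j)
  /-- Normalisation. -/
  unit : ∀ i (m : M i), mapRingHom (M i) (pair (AlgHom.id R (T i)) (AlgHom.id R (T i)) : T i ⊗[R] T i →+* T i) (u i i m) =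
    single m 1
  /-- Cocycle condition. -/
  cocycle : ∀ i j k (C : Type u) [CommRing C] [Algebra R C] (a : T i →ₐ[R] C) (b : T j →ₐ[R] C) (c : T k →ₐ[R] C) (m : M i),
    push (pair b c) (u j k) (mapRingHom (M j) (pair a b : T i ⊗[R] T j →+* C) (u i j m)) =
      mapRingHom (M k) (pair a c : T i ⊗[R] T k →+* C) (u i k m)

attribute [instance] Datum.grp

variable {T}

namespace Datum

variable (D : Datum R T)

/-- The ambient algebra. -/
abbrev Amb : Type u := ∀ i, MonoidAlgebra (T i) (D.M i)

/-- The first compatibility map. -/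
noncomputable def fst (p : ι × ι) : D.Amb →ₐ[R] MonoidAlgebra (T p.1 ⊗[R] T p.2) (D.M p.2) :=
  ((push (AlgHom.id R _) (D.u p.1 p.2)).restrictScalars R).comp
    ((mapAlgHom (D.M p.1) (Algebra.TensorProduct.includeLeft : T p.1 →ₐ[R] T p.1 ⊗[R] T p.2)).comp
      (Pi.evalAlgHom R (fun i => MonoidAlgebra (T i) (D.M i)) p.1))

/-- The second compatibility map. -/
noncomputable def snd (p : ι × ι) : D.Amb →ₐ[R] MonoidAlgebra (T p.1 ⊗[R] T p.2) (D.M p.2) :=
  (mapAlgHom (D.M p.2) (Algebra.TensorProduct.includeRight : T p.2 →ₐ[R] T p.1 ⊗[R] T p.2)).comp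
    (Pi.evalAlgHom R (fun i => MonoidAlgebra (T i) (D.M i)) p.2)

/-- The descended algebra. -/
noncomputable def sub : Subalgebra R D.Amb :=
  AlgHom.equalizer (AlgHom.pi D.fst) (AlgHom.pi D.snd)

/-- The carrier of the descended algebra. -/
abbrev A : Type u := D.sub

theorem mem_sub {z : D.Amb} : z ∈ D.sub ↔ ∀ i j, push (AlgHom.id R _) (D.u i j)
    (mapRingHom (D.M i) ((Algebra.TensorProduct.includeLeft : T i →ₐ[R] T i ⊗[R] T j) : T i →+* T i ⊗[R] T j) (z i)) =
      mapRingHom (D.M j) ((Algebra.TensorProduct.includeRight : T j →ₐ[R] T i ⊗[R] T j) : T j →+* T i ⊗[R] T j) (z j) := by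
  rw [sub, AlgHom.mem_equalizer, funext_iff, Prod.forall]
  rfl

theorem compat {C : Type u} [CommRing C] [Algebra R C] (a : D.A) (i j : ι) (f : T i →ₐ[R] C) (g : T j →ₐ[R] C) :
    push (pair f g) (D.u i j) (mapRingHom (D.M i) (f : T i →+* C) (a.1 i)) = mapRingHom (D.M j) (g : T j →+* C) (a.1 j) := by
  have h := congrArg (mapRingHom (D.M j) ((pair f g : T i ⊗[R] T j →ₐ[R] C) : T i ⊗[R] T j →+* C)) (D.mem_sub.mp a.2 i j)
  rw [mapRingHom_push_id, mapRingHom_mapRingHom, mapRingHom_mapRingHom] at h
  rwa [show (pair f g).comp Algebra.TensorProduct.includeLeft = f from AlgHom.ext fun x => by simp,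
    show (pair f g).comp Algebra.TensorProduct.includeRight = g from AlgHom.ext fun x => by simp] at h

end Datum

section Gam

variable {κ : Type u} [Fintype κ] (S : κ → Type u) [∀ i, CommRing (S i)] [∀ i, Algebra R (S i)] (N : κ → Type u)
  [∀ i, CommGroup (N i)] (W : Type u) [CommRing W] [Algebra R W]

omit [Fintype κ] in
/-- The components of the base change of a product of group algebras. -/
noncomputable def gam (i : κ) : W ⊗[R] (∀ j, MonoidAlgebra (S j) (N j)) →ₐ[W] MonoidAlgebra (W ⊗[R] S i) (N i) :=
  Algebra.TensorProduct.lift (Algebra.ofId W _)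
    ((mapAlgHom (N i) (Algebra.TensorProduct.includeRight : S i →ₐ[R] W ⊗[R] S i)).comp
      (Pi.evalAlgHom R (fun j => MonoidAlgebra (S j) (N j)) i)) fun _ _ => Commute.all _ _

omit [Fintype κ] in
theorem gam_tmul (i : κ) (t : W) (z : ∀ j, MonoidAlgebra (S j) (N j)) : gam S N W i (t ⊗ₜ[R] z) =
    t • mapRingHom (N i) ((Algebra.TensorProduct.includeRight : S i →ₐ[R] W ⊗[R] S i) : S i →+* W ⊗[R] S i) (z i) := by
  rw [gam, Algebra.TensorProduct.lift_tmul, Algebra.ofId_apply, ← Algebra.smul_def]
  rfl

/-- The components identify the base change with the product. -/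
theorem gam_bijective :
    Function.Bijective fun (x : W ⊗[R] (∀ j, MonoidAlgebra (S j) (N j))) i => gam S N W i x := by
  classical
  let e : W ⊗[R] (∀ j, MonoidAlgebra (S j) (N j)) ≃ₗ[R] ∀ j, N j →₀ W ⊗[R] S j :=
    TensorProduct.piRight R R W (fun j => MonoidAlgebra (S j) (N j)) ≪≫ₗ
      LinearEquiv.piCongrRight fun j =>
        LinearEquiv.lTensor W ((MonoidAlgebra.coeffLinearEquiv (S := S j) R : MonoidAlgebra (S j) (N j) ≃ₗ[R] N j →₀ S j)) ≪≫ₗ
          (TensorProduct.finsuppRight R R W (S j) (N j))
  have h : ∀ x i, (gam S N W i x).coeff = e x i := by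
    intro x i
    induction x using TensorProduct.induction_on with
    | zero => simp
    | add x y hx hy => simp only [map_add, coeff_add, Pi.add_apply, hx, hy]
    | tmul t z =>
      rw [gam_tmul]
      refine Finsupp.ext fun m => ?_
      simp [e, TensorProduct.finsuppRight_apply_tmul_apply, smul_tmul', smul_eq_mul]
  have heq : (fun x i => gam S N W i x) = (fun v i => MonoidAlgebra.ofCoeff (v i)) ∘ e :=
    funext fun x => funext fun i => MonoidAlgebra.coeff_injective (h x i)
  rw [heq]
  exact Function.Bijective.comp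
    ⟨fun a b hab => funext fun i => congrArg MonoidAlgebra.coeff (congrFun hab i),
      fun v => ⟨fun i => (v i).coeff, rfl⟩⟩ e.bijective

theorem gam_ext {x y : W ⊗[R] (∀ j, MonoidAlgebra (S j) (N j))} (h : ∀ i, gam S N W i x = gam S N W i y) : x = y :=
  (gam_bijective S N W).1 (funext h)

end Gam

namespace Datum

variable [Fintype ι] (D : Datum R T)

/-- The trivialisation of the descended algebra. -/
noncomputable def triv (k : ι) : T k ⊗[R] D.A →ₐ[T k] MonoidAlgebra (T k) (D.M k) :=
  Algebra.TensorProduct.lift (Algebra.ofId (T k) _)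
    ((Pi.evalAlgHom R (fun i => MonoidAlgebra (T i) (D.M i)) k).comp D.sub.val) fun _ _ => Commute.all _ _

theorem triv_tmul (k : ι) (t : T k) (a : D.A) : D.triv k (t ⊗ₜ[R] a) = t • a.1 k := by
  rw [triv, Algebra.TensorProduct.lift_tmul, Algebra.ofId_apply, ← Algebra.smul_def]
  rfl

theorem gam_lTensor (k i : ι) (w : T k ⊗[R] D.A) :
    gam T D.M (T k) i (D.sub.val.toLinearMap.lTensor (T k) w) =
      push (AlgHom.id R _) (D.u k i)
        (mapRingHom (D.M k) ((Algebra.TensorProduct.includeLeft : T k →ₐ[R] T k ⊗[R] T i) : T k →+* T k ⊗[R] T i)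
          (D.triv k w)) := by
  induction w using TensorProduct.induction_on with
  | zero => simp
  | add x y hx hy => simp only [map_add, hx, hy]
  | tmul t a =>
    rw [LinearMap.lTensor_tmul, gam_tmul, triv_tmul, mapRingHom_smul, map_smul, D.mem_sub.mp a.2 k i,
      algebra_compatible_smul (T k ⊗[R] T i) t]
    rfl

variable [∀ i, Module.Flat R (T i)]

theorem triv_injective (k : ι) : Function.Injective (D.triv k) := by
  refine (injective_iff_map_eq_zero _).mpr fun w hw => ?_
  apply Module.Flat.lTensor_preserves_injective_linearMap (M := T k) D.sub.val.toLinearMap Subtype.val_injective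
  rw [map_zero]
  refine gam_ext T D.M (T k) fun i => ?_
  rw [gam_lTensor, hw, map_zero, map_zero, map_zero]

theorem triv_surjective (k : ι) : Function.Surjective (D.triv k) := by
  classical
  intro z
  let y : ∀ i, MonoidAlgebra (T k ⊗[R] T i) (D.M i) := fun i => push (AlgHom.id R _) (D.u k i)
    (mapRingHom (D.M k) ((Algebra.TensorProduct.includeLeft : T k →ₐ[R] T k ⊗[R] T i) : T k →+* T k ⊗[R] T i) z)
  obtain ⟨w, hw⟩ := (gam_bijective T D.M (T k)).2 y
  have hwi : ∀ i, gam T D.M (T k) i w = y i := fun i => congrFun hw i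
  let d : D.Amb →ₗ[R] ∀ p : ι × ι, MonoidAlgebra (T p.1 ⊗[R] T p.2) (D.M p.2) :=
    (AlgHom.pi D.fst).toLinearMap - (AlgHom.pi D.snd).toLinearMap
  have hex : Function.Exact D.sub.val.toLinearMap d := fun v => by
    constructor
    · intro hv
      exact ⟨⟨v, show v ∈ D.sub from (sub_eq_zero.mp hv : _)⟩, rfl⟩
    · rintro ⟨a, rfl⟩
      exact sub_eq_zero.mpr a.2
  have hd : d.lTensor (T k) w = 0 := by
    refine gam_ext (fun p : ι × ι => T p.1 ⊗[R] T p.2) (fun p => D.M p.2) (T k) fun ⟨i, j⟩ => ?_
    let C := T k ⊗[R] (T i ⊗[R] T j)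
    let a : T k →ₐ[R] C := Algebra.TensorProduct.includeLeft
    let r : T i ⊗[R] T j →ₐ[R] C := Algebra.TensorProduct.includeRight
    let b : T i →ₐ[R] C := r.comp Algebra.TensorProduct.includeLeft
    let c : T j →ₐ[R] C := r.comp Algebra.TensorProduct.includeRight
    have hr : r = pair b c := Algebra.TensorProduct.ext' fun x y => by
      rw [pair_tmul]
      change r (x ⊗ₜ y) = r (x ⊗ₜ 1) * r (1 ⊗ₜ y)
      rw [← map_mul, Algebra.TensorProduct.tmul_mul_tmul, _root_.mul_one, _root_.one_mul]
    have hf : ∀ v : T k ⊗[R] D.Amb,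
        gam (fun p : ι × ι => T p.1 ⊗[R] T p.2) (fun p => D.M p.2) (T k) (i, j) ((AlgHom.pi D.fst).toLinearMap.lTensor (T k) v) =
          push r (D.u i j) (mapRingHom (D.M i) (pair a b : T k ⊗[R] T i →+* C) (gam T D.M (T k) i v)) := by
      intro v
      induction v using TensorProduct.induction_on with
      | zero => simp
      | add x y hx hy => simp only [map_add, hx, hy]
      | tmul t v =>
        rw [LinearMap.lTensor_tmul, gam_tmul, gam_tmul]
        conv_rhs => rw [algebra_compatible_smul (T k ⊗[R] T i) t, mapRingHom_smul, map_smul]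
        conv_lhs => rw [algebra_compatible_smul C t]
        change _ • mapRingHom (D.M j) (r : T i ⊗[R] T j →+* C) (push (AlgHom.id R _) (D.u i j) (mapRingHom (D.M i) _ (v i))) = _
        rw [mapRingHom_push_id, mapRingHom_mapRingHom, mapRingHom_mapRingHom,
          show (pair a b).comp Algebra.TensorProduct.includeRight = b from AlgHom.ext fun x => by simp]
        congr 1
        simp [a]
        rfl
    have hg : ∀ v : T k ⊗[R] D.Amb,
        gam (fun p : ι × ι => T p.1 ⊗[R] T p.2) (fun p => D.M p.2) (T k) (i, j) ((AlgHom.pi D.snd).toLinearMap.lTensor (T k) v) =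
          mapRingHom (D.M j) (pair a c : T k ⊗[R] T j →+* C) (gam T D.M (T k) j v) := by
      intro v
      induction v using TensorProduct.induction_on with
      | zero => simp
      | add x y hx hy => simp only [map_add, hx, hy]
      | tmul t v =>
        rw [LinearMap.lTensor_tmul, gam_tmul, gam_tmul]
        conv_rhs => rw [algebra_compatible_smul (T k ⊗[R] T j) t, mapRingHom_smul]
        conv_lhs => rw [algebra_compatible_smul C t]
        change _ • mapRingHom (D.M j) (r : T i ⊗[R] T j →+* C) (mapRingHom (D.M j) _ (v j)) = _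
        rw [mapRingHom_mapRingHom, mapRingHom_mapRingHom,
          show (pair a c).comp Algebra.TensorProduct.includeRight = c from AlgHom.ext fun x => by simp]
        congr 1
        simp [a]
        rfl
    rw [map_zero, LinearMap.lTensor_sub, LinearMap.sub_apply, map_sub, sub_eq_zero, hf, hg, hwi, hwi]
    simp only [y, mapRingHom_push_id]
    rw [mapRingHom_mapRingHom, mapRingHom_mapRingHom,
      show (pair a b).comp Algebra.TensorProduct.includeLeft = a from AlgHom.ext fun x => by simp,
      show (pair a c).comp Algebra.TensorProduct.includeLeft = a from AlgHom.ext fun x => by simp, hr]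
    generalize mapRingHom (D.M k) (a : T k →+* C) z = q
    induction q using MonoidAlgebra.induction_linear with
    | zero => simp
    | add x y hx hy => simp only [map_add, hx, hy]
    | single m s => rw [push_single, push_single, map_smul, D.cocycle k i j C a b c m]
  obtain ⟨a, ha⟩ := ((Module.Flat.lTensor_exact (T k) hex) w).mp hd
  refine ⟨a, ?_⟩
  have h1 := congrArg (mapRingHom (D.M k) ((pair (AlgHom.id R (T k)) (AlgHom.id R (T k)) : T k ⊗[R] T k →ₐ[R] T k) :
    T k ⊗[R] T k →+* T k)) (hwi k)
  rw [← ha, gam_lTensor] at h1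
  simp only [y, mapRingHom_push_id, mapRingHom_mapRingHom,
    show (pair (AlgHom.id R (T k)) (AlgHom.id R (T k))).comp Algebra.TensorProduct.includeLeft = AlgHom.id R (T k) from
      AlgHom.ext fun x => by simp] at h1
  have hid : ∀ x : MonoidAlgebra (T k) (D.M k), push (pair (AlgHom.id R (T k)) (AlgHom.id R (T k))) (D.u k k)
      (mapRingHom (D.M k) ((AlgHom.id R (T k)) : T k →+* T k) x) = x := fun x => by
    induction x using MonoidAlgebra.induction_linear with
    | zero => simp
    | add x y hx hy => simp only [map_add, hx, hy]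
    | single m s =>
      rw [mapRingHom_single, push_single, D.unit k m, smul_single, smul_eq_mul, _root_.mul_one]
      rfl
  rwa [hid, hid] at h1

theorem triv_bijective (k : ι) : Function.Bijective (D.triv k) :=
  ⟨D.triv_injective k, D.triv_surjective k⟩

end Datum

end GrothLib.MultLocal
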