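import Groth.Agent.Lib.MultLocal.Effective
import Groth.Agent.Lib.MultLocal.Glue

/-!
Functoriality and products of descent data of group algebras.
-/

universe u

set_option linter.style.haveILetI false
set_option maxSynthPendingDepth 3

open TensorProduct MonoidAlgebra

namespace GrothLib.MultLocal

variable {R : Type u} [CommRing R]

section MapDomain

variable {S C : Type u} [CommRing S] [CommRing C] {M M' N N' : Type u} [CommGroup M] [CommGroup M'] [CommGroup N]
  [CommGroup N']

theorem mapRingHom_mapDomain (φ : S →+* C) (f : M →* M') (x : MonoidAlgebra S M) :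
    mapRingHom M' φ (mapDomainRingHom S f x) = mapDomainRingHom C f (mapRingHom M φ x) := by
  induction x using MonoidAlgebra.induction_linear with
  | zero => simp
  | add x y hx hy => simp only [map_add, hx, hy]
  | single m r => simp

theorem mapDomainRingHom_smul (f : M →* M') (c : S) (x : MonoidAlgebra S M) :
    mapDomainRingHom S f (c • x) = c • mapDomainRingHom S f x :=
  map_smul (mapDomainAlgHom S S f) c x

theorem mapDomain_mapDomain (f : M' →* N) (g : M →* M') (x : MonoidAlgebra S M) :
    mapDomainRingHom S f (mapDomainRingHom S g x) = mapDomainRingHom S (f.comp g) x := by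
  induction x using MonoidAlgebra.induction_linear with
  | zero => simp
  | add x y hx hy => simp only [map_add, hx, hy]
  | single m r => simp

theorem mapDomain_id (x : MonoidAlgebra S M) : mapDomainRingHom S (MonoidHom.id M) x = x := by
  induction x using MonoidAlgebra.induction_linear with
  | zero => simp
  | add x y hx hy => simp only [map_add, hx, hy]
  | single m r => simp

variable [Algebra R S] [Algebra R C]

theorem push_mapDomain (φ : S →ₐ[R] C) (f : M →* M') (g : N →* N') (w : M →* MonoidAlgebra S N)
    (w' : M' →* MonoidAlgebra S N') (h : ∀ m, mapDomainRingHom S g (w m) = w' (f m)) (x : MonoidAlgebra C M) :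
    push φ w' (mapDomainRingHom C f x) = mapDomainRingHom C g (push φ w x) := by
  induction x using MonoidAlgebra.induction_linear with
  | zero => simp
  | add x y hx hy => simp only [map_add, hx, hy]
  | single m r =>
    rw [mapDomainRingHom_apply, mapDomain_single, push_single, push_single, mapDomainRingHom_smul,
      ← mapRingHom_mapDomain, h]

theorem push_coprod_inl (φ : S →ₐ[R] C) (w : M →* MonoidAlgebra S N) (w' : M' →* MonoidAlgebra S N')
    (x : MonoidAlgebra C M) :
    push φ (MonoidHom.coprod ((mapDomainRingHom S (MonoidHom.inl N N') : MonoidAlgebra S N →* _).comp w)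
      ((mapDomainRingHom S (MonoidHom.inr N N') : MonoidAlgebra S N' →* _).comp w'))
        (mapDomainRingHom C (MonoidHom.inl M M') x) =
      mapDomainRingHom C (MonoidHom.inl N N') (push φ w x) :=
  push_mapDomain φ _ _ w _ (fun m => by simp) x

theorem push_coprod_inr (φ : S →ₐ[R] C) (w : M →* MonoidAlgebra S N) (w' : M' →* MonoidAlgebra S N')
    (x : MonoidAlgebra C M') :
    push φ (MonoidHom.coprod ((mapDomainRingHom S (MonoidHom.inl N N') : MonoidAlgebra S N →* _).comp w)
      ((mapDomainRingHom S (MonoidHom.inr N N') : MonoidAlgebra S N' →* _).comp w'))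
        (mapDomainRingHom C (MonoidHom.inr M M') x) =
      mapDomainRingHom C (MonoidHom.inr N N') (push φ w' x) :=
  push_mapDomain φ _ _ w' _ (fun m => by simp) x

end MapDomain

variable {ι : Type u} {T : ι → Type u} [∀ i, CommRing (T i)] [∀ i, Algebra R (T i)]

namespace Datum

section Hom

variable (D D' D'' : Datum R T)

/-- A morphism of descent data. -/
def IsHom (f : ∀ i, D.M i →* D'.M i) : Prop :=
  ∀ i j m, mapDomainRingHom (T i ⊗[R] T j) (f j) (D.u i j m) = D'.u i j (f i m)

variable {D D' D''}

/-- The map of descended algebras of a morphism of data. -/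
noncomputable def map (f : ∀ i, D.M i →* D'.M i) (hf : IsHom D D' f) : D.A →ₐ[R] D'.A :=
  ((AlgHom.pi fun i => (mapDomainAlgHom R (T i) (f i)).comp
      ((Pi.evalAlgHom R (fun i => MonoidAlgebra (T i) (D.M i)) i).comp D.sub.val)) : D.A →ₐ[R] D'.Amb).codRestrict D'.sub
    fun a => by
      refine D'.mem_sub.mpr fun i j => ?_
      change push (AlgHom.id R _) (D'.u i j) (mapRingHom (D'.M i) _ (mapDomainRingHom (T i) (f i) (a.1 i))) =
        mapRingHom (D'.M j) _ (mapDomainRingHom (T j) (f j) (a.1 j))
      rw [mapRingHom_mapDomain, mapRingHom_mapDomain, push_mapDomain (AlgHom.id R _) (f i) (f j) _ _ (hf i j),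
        D.mem_sub.mp a.2 i j]

@[simp]
theorem map_apply (f : ∀ i, D.M i →* D'.M i) (hf : IsHom D D' f) (a : D.A) (i : ι) :
    (map f hf a).1 i = mapDomainRingHom (T i) (f i) (a.1 i) := rfl

theorem map_map (f : ∀ i, D.M i →* D'.M i) (hf : IsHom D D' f) (g : ∀ i, D'.M i →* D''.M i) (hg : IsHom D' D'' g)
    (a : D.A) (i : ι) : (map g hg (map f hf a)).1 i = mapDomainRingHom (T i) ((g i).comp (f i)) (a.1 i) := by
  rw [map_apply, map_apply, mapDomain_mapDomain]

theorem IsHom.comp {f : ∀ i, D.M i →* D'.M i} (hf : IsHom D D' f) {g : ∀ i, D'.M i →* D''.M i}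
    (hg : IsHom D' D'' g) : IsHom D D'' fun i => (g i).comp (f i) := fun i j m => by
  rw [← mapDomain_mapDomain, hf, hg]
  rfl

end Hom

variable (D D' : Datum R T)

/-- The product of two data. -/
@[reducible] noncomputable def prod : Datum R T where
  M i := D.M i × D'.M i
  grp i := inferInstance
  u i j := MonoidHom.coprod
    ((mapDomainRingHom (T i ⊗[R] T j) (MonoidHom.inl (D.M j) (D'.M j)) : MonoidAlgebra (T i ⊗[R] T j) (D.M j) →* _).comp (D.u i j))
    ((mapDomainRingHom (T i ⊗[R] T j) (MonoidHom.inr (D.M j) (D'.M j)) : MonoidAlgebra (T i ⊗[R] T j) (D'.M j) →* _).comp (D'.u i j))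
  unit i m := by
    simp only [MonoidHom.coprod_apply, MonoidHom.coe_comp, MonoidHom.coe_coe, Function.comp_apply, map_mul,
      mapRingHom_mapDomain, D.unit, D'.unit]
    simp [single_mul_single]
  cocycle i j k C _ _ a b c m := by
    simp only [MonoidHom.coprod_apply, MonoidHom.coe_comp, MonoidHom.coe_coe, Function.comp_apply, map_mul,
      mapRingHom_mapDomain]
    rw [push_coprod_inl, push_coprod_inr, D.cocycle, D'.cocycle]

theorem isHom_inl : IsHom D (D.prod D') fun i => MonoidHom.inl (D.M i) (D'.M i) := fun i j m => by simp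

theorem isHom_inr : IsHom D' (D.prod D') fun i => MonoidHom.inr (D.M i) (D'.M i) := fun i j m => by simp

variable (R T) in
/-- The trivial datum. -/
@[reducible] noncomputable def one : Datum R T where
  M _ := PUnit
  grp _ := inferInstance
  u _ _ := 1
  unit i m := by simp [MonoidAlgebra.one_def]
  cocycle i j k C _ _ a b c m := by simp

/-- The comparison of the product. -/
noncomputable def mulMap : D.A ⊗[R] D'.A →ₐ[R] (D.prod D').A :=
  Algebra.TensorProduct.lift (map _ (isHom_inl D D')) (map _ (isHom_inr D D')) fun _ _ => Commute.all _ _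

theorem mulMap_tmul (a : D.A) (b : D'.A) (i : ι) : (mulMap D D' (a ⊗ₜ[R] b)).1 i =
    mapDomainRingHom (T i) (MonoidHom.inl (D.M i) (D'.M i)) (a.1 i) *
      mapDomainRingHom (T i) (MonoidHom.inr (D.M i) (D'.M i)) (b.1 i) := by
  rw [mulMap, Algebra.TensorProduct.lift_tmul]
  rfl

variable [Fintype ι] [Module.FaithfullyFlat R (∀ i, T i)]

omit [Fintype ι] in
theorem flat_factor (i : ι) : Module.Flat R (T i) := by
  classical
  exact Module.Flat.of_retract (LinearMap.single R T i) (LinearMap.proj i) (LinearMap.ext fun t => by simp)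

theorem eq_zero_of_forall_one_tmul {N : Type u} [AddCommGroup N] [Module R N] {x : N}
    (h : ∀ k, (1 : T k) ⊗ₜ[R] x = 0) : x = 0 := by
  refine Module.FaithfullyFlat.tensorProduct_mk_injective (A := R) (B := ∀ i, T i) N ?_
  simp only [TensorProduct.mk_apply, tmul_zero]
  refine eq_of_forall_prj fun i => ?_
  rw [LinearMap.rTensor_tmul, map_zero]
  change (prj (R := R) i (1 : ∀ j, T j)) ⊗ₜ[R] x = 0
  rw [map_one, h]

theorem bijective_of_forall_lTensor {N N' : Type u} [AddCommGroup N] [Module R N] [AddCommGroup N'] [Module R N']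
    (f : N →ₗ[R] N') (h : ∀ k, Function.Bijective (f.lTensor (T k))) : Function.Bijective f := by
  refine ⟨(injective_iff_map_eq_zero f).mpr fun x hx => eq_zero_of_forall_one_tmul (T := T) fun k => (h k).1 ?_,
    fun y => ?_⟩
  · rw [LinearMap.lTensor_tmul, hx, tmul_zero, map_zero]
  · have : (Submodule.Quotient.mk y : N' ⧸ LinearMap.range f) = 0 := eq_zero_of_forall_one_tmul (T := T) fun k => by
      obtain ⟨w, hw⟩ := (h k).2 ((1 : T k) ⊗ₜ y)
      rw [show (1 : T k) ⊗ₜ[R] (Submodule.Quotient.mk y : N' ⧸ LinearMap.range f) =
        (LinearMap.range f).mkQ.lTensor (T k) ((1 : T k) ⊗ₜ y) from rfl, ← hw, ← LinearMap.comp_apply,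
        ← LinearMap.lTensor_comp, LinearMap.range_mkQ_comp, LinearMap.lTensor_zero, LinearMap.zero_apply]
    exact (Submodule.Quotient.mk_eq_zero _).mp this

/-- The trivial datum descends the base ring. -/
theorem algebraMap_one_bijective : Function.Bijective (algebraMap R (one R T).A) := by
  haveI : ∀ i, Module.Flat R (T i) := flat_factor
  refine bijective_of_forall_lTensor (T := T) (Algebra.linearMap R (one R T).A) fun k => ?_
  have h : ∀ w : T k ⊗[R] R, (one R T).triv k ((Algebra.linearMap R (one R T).A).lTensor (T k) w) =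
      single PUnit.unit (TensorProduct.rid R (T k) w) := by
    intro w
    induction w using TensorProduct.induction_on with
    | zero => simp
    | add x y hx hy => simp only [map_add, hx, hy, single_add]
    | tmul t r =>
      rw [LinearMap.lTensor_tmul, triv_tmul, Algebra.linearMap_apply, TensorProduct.rid_tmul]
      change t • algebraMap R (MonoidAlgebra (T k) PUnit) r = _
      simp [MonoidAlgebra.coe_algebraMap, Algebra.smul_def, mul_comm]
  have hb : Function.Bijective fun w : T k ⊗[R] R =>
      (one R T).triv k ((Algebra.linearMap R (one R T).A).lTensor (T k) w) := by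
    rw [funext h]
    exact Function.Bijective.comp (g := fun a : T k => (single PUnit.unit a : MonoidAlgebra (T k) PUnit))
      ⟨fun a b hab => by simpa using congrArg (fun z => z.coeff PUnit.unit) hab,
      fun z => ⟨z.coeff PUnit.unit, MonoidAlgebra.ext (Finsupp.ext fun u => by cases u; simp)⟩⟩
      (TensorProduct.rid R (T k)).bijective
  exact (Function.Bijective.of_comp_iff' ((one R T).triv_bijective k) _).mp hb

theorem mulMap_bijective : Function.Bijective (mulMap D D') := by
  haveI : ∀ i, Module.Flat R (T i) := flat_factor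
  refine bijective_of_forall_lTensor (T := T) (mulMap D D').toLinearMap fun k => ?_
  let inA : T k ⊗[R] D.A →ₐ[T k] T k ⊗[R] (D.A ⊗[R] D'.A) :=
    Algebra.TensorProduct.map (AlgHom.id (T k) (T k)) Algebra.TensorProduct.includeLeft
  let inB : T k ⊗[R] D'.A →ₐ[T k] T k ⊗[R] (D.A ⊗[R] D'.A) :=
    Algebra.TensorProduct.map (AlgHom.id (T k) (T k)) Algebra.TensorProduct.includeRight
  let Φ : T k ⊗[R] (D.A ⊗[R] D'.A) →ₐ[T k] MonoidAlgebra (T k) (D.M k × D'.M k) :=
    ((D.prod D').triv k).comp (Algebra.TensorProduct.map (AlgHom.id (T k) (T k)) (mulMap D D'))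
  have hΦA : ∀ x, Φ (inA x) = mapDomainRingHom (T k) (MonoidHom.inl (D.M k) (D'.M k)) (D.triv k x) := fun x => by
    induction x using TensorProduct.induction_on with
    | zero => simp
    | add x y hx hy => simp only [map_add, hx, hy]
    | tmul t a =>
      change (D.prod D').triv k (t ⊗ₜ mulMap D D' (a ⊗ₜ 1)) = _
      rw [triv_tmul, triv_tmul, mulMap_tmul, mapDomainRingHom_smul]
      change t • (_ * mapDomainRingHom (T k) _ 1) = _
      rw [map_one, _root_.mul_one]
  have hΦB : ∀ x, Φ (inB x) = mapDomainRingHom (T k) (MonoidHom.inr (D.M k) (D'.M k)) (D'.triv k x) := fun x => by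
    induction x using TensorProduct.induction_on with
    | zero => simp
    | add x y hx hy => simp only [map_add, hx, hy]
    | tmul t a =>
      change (D.prod D').triv k (t ⊗ₜ mulMap D D' (1 ⊗ₜ a)) = _
      rw [triv_tmul, triv_tmul, mulMap_tmul, mapDomainRingHom_smul]
      change t • (mapDomainRingHom (T k) _ 1 * _) = _
      rw [map_one, _root_.one_mul]
  let eA := AlgEquiv.ofBijective (D.triv k) (D.triv_bijective k)
  let eB := AlgEquiv.ofBijective (D'.triv k) (D'.triv_bijective k)
  let L : MonoidAlgebra (T k) (D.M k × D'.M k) →ₗ[T k] T k ⊗[R] (D.A ⊗[R] D'.A) :=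
    (Finsupp.linearCombination (T k) fun p : D.M k × D'.M k => inA (eA.symm (single p.1 1)) * inB (eB.symm (single p.2 1))) ∘ₗ
      (MonoidAlgebra.coeffLinearEquiv (T k)).toLinearMap
  have hL : ∀ x y, L (mapDomainRingHom (T k) (MonoidHom.inl (D.M k) (D'.M k)) x *
      mapDomainRingHom (T k) (MonoidHom.inr (D.M k) (D'.M k)) y) = inA (eA.symm x) * inB (eB.symm y) := by
    intro x y
    induction x using MonoidAlgebra.induction_linear with
    | zero => simp
    | add x x' hx hx' => simp only [map_add, add_mul, hx, hx']
    | single a r =>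
      induction y using MonoidAlgebra.induction_linear with
      | zero => simp
      | add y y' hy hy' => simp only [map_add, mul_add, hy, hy']
      | single b s =>
        rw [show (single a r : MonoidAlgebra (T k) (D.M k)) = r • single a 1 by simp,
          show (single b s : MonoidAlgebra (T k) (D'.M k)) = s • single b 1 by simp,
          mapDomainRingHom_smul, mapDomainRingHom_smul, mapDomainRingHom_apply, mapDomainRingHom_apply,
          mapDomain_single, mapDomain_single, smul_mul_smul_comm, map_smul L, map_smul eA.symm, map_smul eB.symm,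
          map_smul inA, map_smul inB, smul_mul_smul_comm]
        simp [L]
  have hbij : Function.Bijective Φ := by
    refine ⟨Function.LeftInverse.injective (g := L) fun w => ?_, fun z => ?_⟩
    · induction w using TensorProduct.induction_on with
      | zero => simp
      | add x y hx hy => simp only [map_add, hx, hy]
      | tmul t z =>
        induction z using TensorProduct.induction_on with
        | zero => simp
        | add x y hx hy => simp only [tmul_add, map_add, hx, hy]
        | tmul a b =>
          have h1 : t ⊗ₜ[R] (a ⊗ₜ[R] b) = inA (t ⊗ₜ a) * inB (1 ⊗ₜ b) := by simp [inA, inB]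
          rw [h1, map_mul, hΦA, hΦB, hL]
          congr 2
          · exact eA.symm_apply_apply (t ⊗ₜ[R] a)
          · exact eB.symm_apply_apply ((1 : T k) ⊗ₜ[R] b)
    · induction z using MonoidAlgebra.induction_linear with
      | zero => exact ⟨0, map_zero _⟩
      | add x y hx hy =>
        obtain ⟨a, rfl⟩ := hx
        obtain ⟨b, rfl⟩ := hy
        exact ⟨a + b, map_add _ _ _⟩
      | single p r =>
        refine ⟨inA (eA.symm (single p.1 r)) * inB (eB.symm (single p.2 1)), ?_⟩
        rw [map_mul, hΦA, hΦB, show D.triv k (eA.symm (single p.1 r)) = single p.1 r from eA.apply_symm_apply _,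
          show D'.triv k (eB.symm (single p.2 1)) = single p.2 1 from eB.apply_symm_apply _]
        simp
  have hb : Function.Bijective ((D.prod D').triv k ∘ (mulMap D D').toLinearMap.lTensor (T k)) := by
    have : ((D.prod D').triv k ∘ (mulMap D D').toLinearMap.lTensor (T k)) = Φ := funext fun w => by
      induction w using TensorProduct.induction_on with
      | zero => simp
      | add x y hx hy => simp only [Function.comp_apply, map_add] at hx hy ⊢; rw [hx, hy]
      | tmul t a => rfl
    rw [this]
    exact hbij
  exact (Function.Bijective.of_comp_iff' ((D.prod D').triv_bijective k) _).mp hb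

end Datum

end GrothLib.MultLocal
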