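import Mathlib.RingTheory.HopfAlgebra.TensorProduct
import Mathlib.RingTheory.HopfAlgebra.Convolution
import Mathlib.RingTheory.Bialgebra.Equiv
import Mathlib.RingTheory.Extension.Presentation.Core
import Mathlib.RingTheory.TensorProduct.DirectLimitFG
import Mathlib.RingTheory.Adjoin.FG
import Mathlib.RingTheory.TensorProduct.Quotient
import Mathlib.RingTheory.FinitePresentation

/-!
A finitely presented Hopf algebra is defined over a subring of finite type over `ℤ`.
-/

universe u

set_option linter.style.haveILetI false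
set_option maxSynthPendingDepth 3

open TensorProduct Algebra.TensorProduct

namespace GrothLib.MultLocal.Model

variable {K : Type u} [CommRing K] {R : Type u} [CommRing R] [Algebra K R]

/-- Change of coefficients. -/
noncomputable def incl {A B : Type u} [CommRing A] [CommRing B] [Algebra K A] [Algebra K B] (φ : A →ₐ[K] B)
    (N : Type u) [CommRing N] [Algebra K N] : A ⊗[K] N →ₐ[K] B ⊗[K] N :=
  Algebra.TensorProduct.map φ (AlgHom.id K N)

theorem rTensor_eq_incl {A B : Type u} [CommRing A] [CommRing B] [Algebra K A] [Algebra K B] (φ : A →ₐ[K] B)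
    {N : Type u} [CommRing N] [Algebra K N] (x : A ⊗[K] N) : φ.toLinearMap.rTensor N x = incl φ N x := by
  induction x using TensorProduct.induction_on with
  | zero => simp
  | tmul a n => rfl
  | add x y hx hy => simp only [map_add, hx, hy]

theorem incl_incl {A B B' : Type u} [CommRing A] [CommRing B] [CommRing B'] [Algebra K A] [Algebra K B] [Algebra K B']
    (φ : A →ₐ[K] B) (ψ : B →ₐ[K] B') {N : Type u} [CommRing N] [Algebra K N] (x : A ⊗[K] N) :
    incl ψ N (incl φ N x) = incl (ψ.comp φ) N x := by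
  induction x using TensorProduct.induction_on with
  | zero => simp
  | tmul a n => rfl
  | add x y hx hy => simp only [map_add, hx, hy]

theorem exists_zero {A : Subalgebra K R} (hA : A.FG) {N : Type u} [CommRing N] [Algebra K N] (s : Finset (A ⊗[K] N))
    (h : ∀ x ∈ s, incl A.val N x = 0) :
    ∃ (B : Subalgebra K R) (hAB : A ≤ B), B.FG ∧ ∀ x ∈ s, incl (Subalgebra.inclusion hAB) N x = 0 := by
  classical
  induction s using Finset.induction_on with
  | empty => exact ⟨A, le_rfl, hA, by simp⟩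
  | @insert x s hx ih =>
    obtain ⟨B, hAB, hB, hs⟩ := ih fun y hy => h y (Finset.mem_insert_of_mem hy)
    have h0 : LinearMap.rTensor N B.val.toLinearMap (incl (Subalgebra.inclusion hAB) N x) =
        LinearMap.rTensor N B.val.toLinearMap 0 := by
      rw [map_zero, rTensor_eq_incl, incl_incl]
      exact h x (Finset.mem_insert_self x s)
    obtain ⟨B', hBB', hB', h'⟩ := TensorProduct.Algebra.eq_of_fg_of_subtype_eq hB h0
    refine ⟨B', hAB.trans hBB', hB', fun y hy => ?_⟩
    have key : incl (Subalgebra.inclusion (hAB.trans hBB')) N y =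
        incl (Subalgebra.inclusion hBB') N (incl (Subalgebra.inclusion hAB) N y) := by
      rw [incl_incl]; rfl
    rw [key]
    rcases Finset.mem_insert.mp hy with rfl | hy
    · rw [← rTensor_eq_incl, h', map_zero]
    · rw [hs y hy, map_zero]

theorem exists_preimage {N : Type u} [CommRing N] [Algebra K N] {ι : Type} [Fintype ι] (x : ι → R ⊗[K] N) :
    ∃ (A : Subalgebra K R), A.FG ∧ ∀ i, ∃ y : A ⊗[K] N, incl A.val N y = x i := by
  classical
  choose B hB hx using fun i => TensorProduct.Algebra.exists_of_fg (x i)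
  refine ⟨Finset.univ.sup B, Finset.sup_induction Subalgebra.fg_bot (fun _ h₁ _ h₂ => h₁.sup h₂) fun i _ => hB i,
    fun i => ?_⟩
  obtain ⟨y, hy⟩ := hx i
  refine ⟨incl (Subalgebra.inclusion (Finset.le_sup (f := B) (Finset.mem_univ i))) N y, ?_⟩
  rw [incl_incl, ← hy, rTensor_eq_incl]
  rfl

/-- Algebra maps from finitely presented algebras into `R ⊗ N` come from a finitely generated subalgebra. -/
theorem exists_lift {C : Type u} [CommRing C] [Algebra K C] [Algebra.FinitePresentation K C] {N : Type u} [CommRing N]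
    [Algebra K N] (f : C →ₐ[K] R ⊗[K] N) :
    ∃ (A : Subalgebra K R), A.FG ∧ ∃ fA : C →ₐ[K] A ⊗[K] N, ∀ x, incl A.val N (fA x) = f x := by
  classical
  obtain ⟨n, π, hπ, hker⟩ := ‹Algebra.FinitePresentation K C›.out
  obtain ⟨A, hA, hy⟩ := exists_preimage fun i : Fin n => f (π (MvPolynomial.X i))
  choose y hy using hy
  let φ : MvPolynomial (Fin n) K →ₐ[K] A ⊗[K] N := MvPolynomial.aeval y
  have hφ : (incl A.val N).comp φ = f.comp π := MvPolynomial.algHom_ext fun i => by simp [φ, hy]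
  obtain ⟨s, hs⟩ := hker
  obtain ⟨B, hAB, hB, h0⟩ := exists_zero hA (s.image φ) fun x hx => by
    obtain ⟨p, hp, rfl⟩ := Finset.mem_image.mp hx
    have hp0 : π p = 0 := RingHom.mem_ker.mp (hs ▸ Ideal.subset_span hp : p ∈ RingHom.ker π.toRingHom)
    exact (AlgHom.congr_fun hφ p).trans (by rw [AlgHom.comp_apply, hp0, map_zero])
  let ψ := (incl (Subalgebra.inclusion hAB) N).comp φ
  have hψ : RingHom.ker π ≤ RingHom.ker ψ := by
    change RingHom.ker π.toRingHom ≤ _
    rw [← hs]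
    exact Ideal.span_le.mpr fun p hp => h0 _ (Finset.mem_image_of_mem φ hp)
  refine ⟨B, hB, (Ideal.Quotient.liftₐ (RingHom.ker π) ψ fun a ha => hψ ha).comp
    (Ideal.quotientKerAlgEquivOfSurjective hπ).symm.toAlgHom, fun x => ?_⟩
  obtain ⟨p, rfl⟩ := hπ x
  have : (Ideal.quotientKerAlgEquivOfSurjective hπ).symm (π p) = Ideal.Quotient.mk (RingHom.ker π) p := by
    apply (Ideal.quotientKerAlgEquivOfSurjective hπ).injective
    rw [AlgEquiv.apply_symm_apply]
    rfl
  change incl B.val N (Ideal.Quotient.liftₐ (RingHom.ker π) ψ (fun a ha => hψ ha)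
    ((Ideal.quotientKerAlgEquivOfSurjective hπ).symm (π p))) = _
  rw [this]
  change incl B.val N (incl (Subalgebra.inclusion hAB) N (φ p)) = _
  rw [incl_incl]
  exact AlgHom.congr_fun hφ p

/-- Algebra maps equal in `R ⊗ N` are equal over a finitely generated subalgebra. -/
theorem exists_eq {C : Type u} [CommRing C] [Algebra K C] [Algebra.FiniteType K C] {N : Type u} [CommRing N]
    [Algebra K N] (f g : C →ₐ[K] N) (h : ∀ x, (1 : R) ⊗ₜ[K] f x = (1 : R) ⊗ₜ[K] g x) :
    ∃ (B : Subalgebra K R), B.FG ∧ ∀ x, (1 : B) ⊗ₜ[K] f x = (1 : B) ⊗ₜ[K] g x := by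
  classical
  obtain ⟨s, hs⟩ := ‹Algebra.FiniteType K C›.out
  obtain ⟨B, hle, hB, h0⟩ := exists_zero (R := R) (A := ⊥) Subalgebra.fg_bot
    (s.image fun x => (1 : (⊥ : Subalgebra K R)) ⊗ₜ[K] (f x - g x)) fun y hy => by
      obtain ⟨x, -, rfl⟩ := Finset.mem_image.mp hy
      change (1 : R) ⊗ₜ[K] (f x - g x) = 0
      rw [tmul_sub, h, sub_self]
  refine ⟨B, hB, fun x => ?_⟩
  have : (Algebra.TensorProduct.includeRight : N →ₐ[K] B ⊗[K] N).comp f =
      (Algebra.TensorProduct.includeRight : N →ₐ[K] B ⊗[K] N).comp g := AlgHom.ext_of_adjoin_eq_top hs fun x hx => by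
    have h2 : (1 : B) ⊗ₜ[K] (f x - g x) = 0 := h0 _ (Finset.mem_image_of_mem _ hx)
    rw [tmul_sub, sub_eq_zero] at h2
    exact h2
  exact AlgHom.congr_fun this x

theorem one_tmul_mono {B B' : Subalgebra K R} (hle : B ≤ B') {N : Type u} [CommRing N] [Algebra K N] {a b : N}
    (h : (1 : B) ⊗ₜ[K] a = (1 : B) ⊗ₜ[K] b) : (1 : B') ⊗ₜ[K] a = (1 : B') ⊗ₜ[K] b :=
  congrArg (incl (Subalgebra.inclusion hle) N) h

section Pair

variable (T : Type u) [CommRing T] [Algebra K T] (M N : Type u) [CommRing M] [CommRing N] [Algebra K M] [Algebra K N]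

/-- `T ⊗ (M ⊗ N) → (T ⊗ M) ⊗_T (T ⊗ N)`. -/
noncomputable def pair : T ⊗[K] (M ⊗[K] N) →ₐ[T] (T ⊗[K] M) ⊗[T] (T ⊗[K] N) :=
  Algebra.TensorProduct.lift (Algebra.ofId T _)
    (Algebra.TensorProduct.lift
      (((Algebra.TensorProduct.includeLeft : T ⊗[K] M →ₐ[T] (T ⊗[K] M) ⊗[T] (T ⊗[K] N)).restrictScalars K).comp
        Algebra.TensorProduct.includeRight)
      (((Algebra.TensorProduct.includeRight : T ⊗[K] N →ₐ[T] (T ⊗[K] M) ⊗[T] (T ⊗[K] N)).restrictScalars K).comp
        Algebra.TensorProduct.includeRight)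
      fun _ _ => Commute.all _ _)
    fun _ _ => Commute.all _ _

theorem pair_tmul (t : T) (m : M) (n : N) :
    pair T M N (t ⊗ₜ (m ⊗ₜ n)) = t • (((1 : T) ⊗ₜ[K] m) ⊗ₜ[T] ((1 : T) ⊗ₜ[K] n)) := by
  simp [pair, Algebra.smul_def]

theorem pair_one_tmul (m : M) (n : N) :
    pair T M N ((1 : T) ⊗ₜ (m ⊗ₜ n)) = ((1 : T) ⊗ₜ[K] m) ⊗ₜ[T] ((1 : T) ⊗ₜ[K] n) := by
  rw [pair_tmul, one_smul]

theorem pair_bijective : Function.Bijective (pair (K := K) T M N) := by
  have : ∀ x, pair T M N x = TensorProduct.AlgebraTensorModule.distribBaseChange K T M N x := by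
    intro x
    induction x using TensorProduct.induction_on with
    | zero => simp
    | add x y hx hy => simp only [map_add, hx, hy]
    | tmul t y =>
      induction y using TensorProduct.induction_on with
      | zero => simp
      | add x y hx hy => simp only [tmul_add, map_add, hx, hy]
      | tmul m n => rw [pair_tmul, TensorProduct.AlgebraTensorModule.distribBaseChange_tmul,
          TensorProduct.smul_tmul', TensorProduct.smul_tmul', smul_eq_mul, _root_.mul_one]
  rw [show ⇑(pair (K := K) T M N) = _ from funext this]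
  exact (TensorProduct.AlgebraTensorModule.distribBaseChange K T M N).bijective

end Pair

section Axioms

variable {C₁ : Type u} [CommRing C₁] [Algebra K C₁] (Δ : C₁ →ₐ[K] C₁ ⊗[K] C₁) (ε : C₁ →ₐ[K] K) (S : C₁ →ₐ[K] C₁)
  (T : Type u) [CommRing T] [Algebra K T]

/-- The comultiplication over `T`. -/
noncomputable def comulT : T ⊗[K] C₁ →ₐ[T] (T ⊗[K] C₁) ⊗[T] (T ⊗[K] C₁) :=
  (pair T C₁ C₁).comp (Algebra.TensorProduct.map (AlgHom.id T T) Δ)

/-- The counit over `T`. -/
noncomputable def counitT : T ⊗[K] C₁ →ₐ[T] T :=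
  Algebra.TensorProduct.lift (AlgHom.id T T) ((Algebra.ofId K T).comp ε) fun _ _ => Commute.all _ _

/-- The antipode over `T`. -/
noncomputable def antipodeT : T ⊗[K] C₁ →ₐ[T] T ⊗[K] C₁ :=
  Algebra.TensorProduct.map (AlgHom.id T T) S

theorem comulT_one_tmul (x : C₁) : comulT Δ T ((1 : T) ⊗ₜ x) = pair T C₁ C₁ ((1 : T) ⊗ₜ Δ x) := rfl

theorem counitT_one_tmul (x : C₁) : counitT ε T ((1 : T) ⊗ₜ x) = algebraMap K T (ε x) := by
  simp [counitT]

theorem antipodeT_one_tmul (x : C₁) : antipodeT S T ((1 : T) ⊗ₜ x) = (1 : T) ⊗ₜ S x := rfl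

/-- The left side of coassociativity. -/
noncomputable def coassL : C₁ →ₐ[K] C₁ ⊗[K] (C₁ ⊗[K] C₁) :=
  ((Algebra.TensorProduct.assoc K K K C₁ C₁ C₁).toAlgHom.comp (Algebra.TensorProduct.map Δ (AlgHom.id K C₁))).comp Δ

/-- The right side of coassociativity. -/
noncomputable def coassR : C₁ →ₐ[K] C₁ ⊗[K] (C₁ ⊗[K] C₁) :=
  (Algebra.TensorProduct.map (AlgHom.id K C₁) Δ).comp Δ

/-- The left counit map. -/
noncomputable def counitL : C₁ →ₐ[K] C₁ :=
  (Algebra.TensorProduct.lift ((Algebra.ofId K C₁).comp ε) (AlgHom.id K C₁) fun _ _ => Commute.all _ _).comp Δ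

/-- The right counit map. -/
noncomputable def counitR : C₁ →ₐ[K] C₁ :=
  (Algebra.TensorProduct.lift (AlgHom.id K C₁) ((Algebra.ofId K C₁).comp ε) fun _ _ => Commute.all _ _).comp Δ

/-- The left antipode map. -/
noncomputable def antipL : C₁ →ₐ[K] C₁ :=
  (Algebra.TensorProduct.lift S (AlgHom.id K C₁) fun _ _ => Commute.all _ _).comp Δ

/-- The right antipode map. -/
noncomputable def antipR : C₁ →ₐ[K] C₁ :=
  (Algebra.TensorProduct.lift (AlgHom.id K C₁) S fun _ _ => Commute.all _ _).comp Δ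

/-- The triple comparison map. -/
noncomputable def triple : T ⊗[K] (C₁ ⊗[K] (C₁ ⊗[K] C₁)) →ₐ[T] (T ⊗[K] C₁) ⊗[T] ((T ⊗[K] C₁) ⊗[T] (T ⊗[K] C₁)) :=
  (Algebra.TensorProduct.map (AlgHom.id T (T ⊗[K] C₁)) (pair (K := K) T C₁ C₁)).comp (pair (K := K) T C₁ (C₁ ⊗[K] C₁))

theorem triple_tmul (a b c : C₁) : triple T ((1 : T) ⊗ₜ (a ⊗ₜ (b ⊗ₜ c))) =
    ((1 : T) ⊗ₜ[K] a) ⊗ₜ[T] (((1 : T) ⊗ₜ[K] b) ⊗ₜ[T] ((1 : T) ⊗ₜ[K] c)) := by
  simp [triple, pair_one_tmul]

theorem triple_injective : Function.Injective (triple (C₁ := C₁) (K := K) T) := by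
  refine Function.Injective.comp (g := Algebra.TensorProduct.map (AlgHom.id T (T ⊗[K] C₁)) (pair (K := K) T C₁ C₁)) ?_
    (pair_bijective (K := K) T C₁ (C₁ ⊗[K] C₁)).1
  exact (Algebra.TensorProduct.congr (AlgEquiv.refl (A₁ := T ⊗[K] C₁) (R := T))
    (AlgEquiv.ofBijective (pair (K := K) T C₁ C₁) (pair_bijective T C₁ C₁))).injective

theorem coassL_eq (x : C₁) :
    Algebra.TensorProduct.assoc T T T (T ⊗[K] C₁) (T ⊗[K] C₁) (T ⊗[K] C₁)
      (Algebra.TensorProduct.map (comulT Δ T) (AlgHom.id T _) (comulT Δ T ((1 : T) ⊗ₜ x))) =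
      triple T ((1 : T) ⊗ₜ coassL Δ x) := by
  have h : ∀ z : C₁ ⊗[K] C₁, ∀ b : C₁,
      Algebra.TensorProduct.assoc T T T (T ⊗[K] C₁) (T ⊗[K] C₁) (T ⊗[K] C₁)
        (pair T C₁ C₁ ((1 : T) ⊗ₜ z) ⊗ₜ[T] ((1 : T) ⊗ₜ[K] b)) =
        triple T ((1 : T) ⊗ₜ Algebra.TensorProduct.assoc K K K C₁ C₁ C₁ (z ⊗ₜ b)) := fun z b => by
    induction z using TensorProduct.induction_on with
    | zero => simp
    | add u v hu hv => simp only [tmul_add, map_add, add_tmul, hu, hv]
    | tmul p q => simp [pair_one_tmul, triple_tmul]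
  change _ = triple T ((1 : T) ⊗ₜ Algebra.TensorProduct.assoc K K K C₁ C₁ C₁
    (Algebra.TensorProduct.map Δ (AlgHom.id K C₁) (Δ x)))
  rw [comulT_one_tmul]
  generalize Δ x = z
  induction z using TensorProduct.induction_on with
  | zero => simp
  | add u v hu hv => simp only [tmul_add, map_add, hu, hv]
  | tmul a b =>
    rw [pair_one_tmul, Algebra.TensorProduct.map_tmul, Algebra.TensorProduct.map_tmul, comulT_one_tmul]
    exact h _ _

theorem coassR_eq (x : C₁) :
    Algebra.TensorProduct.map (AlgHom.id T _) (comulT Δ T) (comulT Δ T ((1 : T) ⊗ₜ x)) =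
      triple T ((1 : T) ⊗ₜ coassR Δ x) := by
  have h : ∀ z : C₁ ⊗[K] C₁, ∀ a : C₁, ((1 : T) ⊗ₜ[K] a) ⊗ₜ[T] pair T C₁ C₁ ((1 : T) ⊗ₜ z) =
        triple T ((1 : T) ⊗ₜ (a ⊗ₜ z)) := fun z a => by
    induction z using TensorProduct.induction_on with
    | zero => simp
    | add u v hu hv => simp only [tmul_add, map_add, hu, hv]
    | tmul p q => simp [pair_one_tmul, triple_tmul]
  change _ = triple T ((1 : T) ⊗ₜ Algebra.TensorProduct.map (AlgHom.id K C₁) Δ (Δ x))
  rw [comulT_one_tmul]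
  generalize Δ x = z
  induction z using TensorProduct.induction_on with
  | zero => simp
  | add u v hu hv => simp only [tmul_add, map_add, hu, hv]
  | tmul a b =>
    rw [pair_one_tmul, Algebra.TensorProduct.map_tmul, Algebra.TensorProduct.map_tmul, comulT_one_tmul]
    exact h _ _

theorem counitL_eq (x : C₁) :
    Algebra.TensorProduct.lift ((Algebra.ofId T (T ⊗[K] C₁)).comp (counitT ε T)) (AlgHom.id T _)
      (fun _ _ => Commute.all _ _) (comulT Δ T ((1 : T) ⊗ₜ x)) = (1 : T) ⊗ₜ counitL Δ ε x := by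
  change _ = (1 : T) ⊗ₜ (Algebra.TensorProduct.lift ((Algebra.ofId K C₁).comp ε) (AlgHom.id K C₁) (fun _ _ => Commute.all _ _) (Δ x))
  rw [comulT_one_tmul]
  generalize Δ x = z
  induction z using TensorProduct.induction_on with
  | zero => simp
  | add u v hu hv => simp only [tmul_add, map_add, hu, hv]
  | tmul a b =>
    rw [pair_one_tmul, Algebra.TensorProduct.lift_tmul, Algebra.TensorProduct.lift_tmul]
    simp only [AlgHom.comp_apply, counitT_one_tmul, AlgHom.id_apply, Algebra.ofId_apply]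
    rw [← Algebra.smul_def, ← Algebra.smul_def, tmul_smul, algebraMap_smul]

theorem counitR_eq (x : C₁) :
    Algebra.TensorProduct.lift (AlgHom.id T _) ((Algebra.ofId T (T ⊗[K] C₁)).comp (counitT ε T))
      (fun _ _ => Commute.all _ _) (comulT Δ T ((1 : T) ⊗ₜ x)) = (1 : T) ⊗ₜ counitR Δ ε x := by
  change _ = (1 : T) ⊗ₜ (Algebra.TensorProduct.lift (AlgHom.id K C₁) ((Algebra.ofId K C₁).comp ε) (fun _ _ => Commute.all _ _) (Δ x))
  rw [comulT_one_tmul]
  generalize Δ x = z
  induction z using TensorProduct.induction_on with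
  | zero => simp
  | add u v hu hv => simp only [tmul_add, map_add, hu, hv]
  | tmul a b =>
    rw [pair_one_tmul, Algebra.TensorProduct.lift_tmul, Algebra.TensorProduct.lift_tmul]
    simp only [AlgHom.comp_apply, counitT_one_tmul, AlgHom.id_apply, Algebra.ofId_apply]
    rw [mul_comm, ← Algebra.smul_def, mul_comm a, ← Algebra.smul_def, tmul_smul, algebraMap_smul]

theorem antipL_eq (x : C₁) :
    Algebra.TensorProduct.lift (antipodeT S T) (AlgHom.id T _)
      (fun _ _ => Commute.all _ _) (comulT Δ T ((1 : T) ⊗ₜ x)) = (1 : T) ⊗ₜ antipL Δ S x := by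
  change _ = (1 : T) ⊗ₜ (Algebra.TensorProduct.lift S (AlgHom.id K C₁) (fun _ _ => Commute.all _ _) (Δ x))
  rw [comulT_one_tmul]
  generalize Δ x = z
  induction z using TensorProduct.induction_on with
  | zero => simp
  | add u v hu hv => simp only [tmul_add, map_add, hu, hv]
  | tmul a b =>
    rw [pair_one_tmul, Algebra.TensorProduct.lift_tmul, Algebra.TensorProduct.lift_tmul, antipodeT_one_tmul]
    simp

theorem antipR_eq (x : C₁) :
    Algebra.TensorProduct.lift (AlgHom.id T _) (antipodeT S T)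
      (fun _ _ => Commute.all _ _) (comulT Δ T ((1 : T) ⊗ₜ x)) = (1 : T) ⊗ₜ antipR Δ S x := by
  change _ = (1 : T) ⊗ₜ (Algebra.TensorProduct.lift (AlgHom.id K C₁) S (fun _ _ => Commute.all _ _) (Δ x))
  rw [comulT_one_tmul]
  generalize Δ x = z
  induction z using TensorProduct.induction_on with
  | zero => simp
  | add u v hu hv => simp only [tmul_add, map_add, hu, hv]
  | tmul a b =>
    rw [pair_one_tmul, Algebra.TensorProduct.lift_tmul, Algebra.TensorProduct.lift_tmul, antipodeT_one_tmul]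
    simp

theorem algHom_ext_one {X : Type u} [CommRing X] [Algebra T X] {f g : T ⊗[K] C₁ →ₐ[T] X}
    (h : ∀ x, f ((1 : T) ⊗ₜ x) = g ((1 : T) ⊗ₜ x)) : f = g := by
  refine AlgHom.ext fun z => ?_
  induction z using TensorProduct.induction_on with
  | zero => simp
  | add x y hx hy => simp only [map_add, hx, hy]
  | tmul t c =>
    rw [show t ⊗ₜ[K] c = t • ((1 : T) ⊗ₜ[K] c) by rw [smul_tmul', smul_eq_mul, _root_.mul_one], map_smul, map_smul, h]

variable {Δ ε S T}
  (h1 : ∀ x, (1 : T) ⊗ₜ[K] coassL Δ x = (1 : T) ⊗ₜ[K] coassR Δ x)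
  (h2 : ∀ x, (1 : T) ⊗ₜ[K] counitL Δ ε x = (1 : T) ⊗ₜ[K] x)
  (h3 : ∀ x, (1 : T) ⊗ₜ[K] counitR Δ ε x = (1 : T) ⊗ₜ[K] x)
  (h4 : ∀ x, (1 : T) ⊗ₜ[K] antipL Δ S x = (1 : T) ⊗ₜ[K] algebraMap K C₁ (ε x))
  (h5 : ∀ x, (1 : T) ⊗ₜ[K] antipR Δ S x = (1 : T) ⊗ₜ[K] algebraMap K C₁ (ε x))

/-- The bialgebra over `T`. -/
@[reducible] noncomputable def bialgebraT : Bialgebra T (T ⊗[K] C₁) :=
  Bialgebra.ofAlgHom (comulT Δ T) (counitT ε T)
    (algHom_ext_one T fun x => by
      refine ((coassL_eq Δ T x).trans ?_).trans (coassR_eq Δ T x).symm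
      rw [h1])
    (algHom_ext_one T fun x => by
      apply (Algebra.TensorProduct.lid T (T ⊗[K] C₁)).injective
      refine Eq.trans ?_ ((counitL_eq Δ ε T x).trans ((h2 x).trans ?_))
      · change Algebra.TensorProduct.lid T (T ⊗[K] C₁) (Algebra.TensorProduct.map (counitT ε T) (AlgHom.id T _) (comulT Δ T ((1 : T) ⊗ₜ[K] x))) = _
        generalize comulT Δ T ((1 : T) ⊗ₜ x) = z
        induction z using TensorProduct.induction_on with
        | zero => simp
        | add u v hu hv => simp only [map_add, hu, hv]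
        | tmul a b =>
          rw [Algebra.TensorProduct.map_tmul, Algebra.TensorProduct.lid_tmul, Algebra.TensorProduct.lift_tmul,
            Algebra.smul_def]
          rfl
      · simp)
    (algHom_ext_one T fun x => by
      apply (Algebra.TensorProduct.rid T T (T ⊗[K] C₁)).injective
      refine Eq.trans ?_ ((counitR_eq Δ ε T x).trans ((h3 x).trans ?_))
      · change Algebra.TensorProduct.rid T T (T ⊗[K] C₁) (Algebra.TensorProduct.map (AlgHom.id T _) (counitT ε T) (comulT Δ T ((1 : T) ⊗ₜ[K] x))) = _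
        generalize comulT Δ T ((1 : T) ⊗ₜ x) = z
        induction z using TensorProduct.induction_on with
        | zero => simp
        | add u v hu hv => simp only [map_add, hu, hv]
        | tmul a b =>
          rw [Algebra.TensorProduct.map_tmul, Algebra.TensorProduct.rid_tmul, Algebra.TensorProduct.lift_tmul,
            Algebra.smul_def, mul_comm]
          rfl
      · simp)

/-- The Hopf algebra over `T`. -/
@[reducible] noncomputable def hopfT : HopfAlgebra T (T ⊗[K] C₁) :=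
  letI := bialgebraT h1 h2 h3
  HopfAlgebra.ofAlgHom (antipodeT S T)
    (algHom_ext_one T fun x => by
      refine ((antipL_eq Δ S T x).trans (h4 x)).trans ?_
      change _ = algebraMap T (T ⊗[K] C₁) (counitT ε T ((1 : T) ⊗ₜ x))
      rw [counitT_one_tmul, ← IsScalarTower.algebraMap_apply, Algebra.algebraMap_eq_smul_one, tmul_smul,
        ← Algebra.TensorProduct.one_def, ← Algebra.algebraMap_eq_smul_one])
    (algHom_ext_one T fun x => by
      refine ((antipR_eq Δ S T x).trans (h5 x)).trans ?_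
      change _ = algebraMap T (T ⊗[K] C₁) (counitT ε T ((1 : T) ⊗ₜ x))
      rw [counitT_one_tmul, ← IsScalarTower.algebraMap_apply, Algebra.algebraMap_eq_smul_one, tmul_smul,
        ← Algebra.TensorProduct.one_def, ← Algebra.algebraMap_eq_smul_one])

end Axioms

end GrothLib.MultLocal.Model
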