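import Groth.Agent.Lib.MultLocal.Nil
import Groth.Agent.Lib.Hensel.Pair

/-!
Lifting group-like elements of group algebras along maps lifting idempotents uniquely.
-/

universe u

set_option linter.style.haveILetI false

open TensorProduct MonoidAlgebra

namespace GrothLib.MultLocal

/-- A surjection along which idempotents lift uniquely. -/
structure IdemBij {T T₀ : Type u} [CommRing T] [CommRing T₀] (π : T →+* T₀) : Prop where
  surj : Function.Surjective π
  inj : ∀ {e e' : T}, IsIdempotentElem e → IsIdempotentElem e' → π e = π e' → e = e'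
  lift : ∀ {e₀ : T₀}, IsIdempotentElem e₀ → ∃ e, IsIdempotentElem e ∧ π e = e₀

variable {T T₀ : Type u} [CommRing T] [CommRing T₀] {M : Type u} [CommGroup M]

/-- Surjections of henselian pairs lift idempotents uniquely. -/
theorem IdemBij.of_henselian {R : Type u} [CommRing R] {I : Ideal R} [HenselianRing R I] [Algebra R T]
    [Algebra.IsIntegral R T] {π : T →+* T₀} (hπ : Function.Surjective π)
    (hker : RingHom.ker π = I.map (algebraMap R T)) : IdemBij π := by
  refine ⟨hπ, fun he he' h => ?_, fun {e₀} he₀ => ?_⟩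
  · refine GrothLib.Hensel.eq_of_isIdempotentElem_of_sub_mem
      (GrothLib.Hensel.map_le_jacobson_of_isIntegral (B := T) (HenselianRing.jac (I := I))) he he' ?_
    rw [← hker, RingHom.mem_ker, map_sub, h, sub_self]
  · obtain ⟨b, rfl⟩ := hπ e₀
    obtain ⟨e, he, heb⟩ := GrothLib.Hensel.exists_isIdempotentElem_lift (I := I) (b := b) (by
      rw [← hker, RingHom.mem_ker, map_sub, map_mul, he₀.eq, sub_self])
    rw [← hker, RingHom.mem_ker, map_sub, sub_eq_zero] at heb
    exact ⟨e, he, heb⟩

theorem IdemBij.groupLike_ext {π : T →+* T₀} (hπ : IdemBij π) {x y : MonoidAlgebra T M}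
    (hx : IsGroupLikeElem T x) (hy : IsGroupLikeElem T y) (h : mapRingHom M π x = mapRingHom M π y) : x = y := by
  refine MonoidAlgebra.ext (Finsupp.ext fun m => hπ.inj (isIdempotentElem_coeff hx m) (isIdempotentElem_coeff hy m) ?_)
  have := congrArg (fun z => z.coeff m) h
  simpa only [coeff_mapRingHom, Finsupp.mapRange_apply] using this

theorem IdemBij.exists_lift {π : T →+* T₀} (hπ : IdemBij π) {y : MonoidAlgebra T₀ M} (hy : IsGroupLikeElem T₀ y) :
    ∃ x : MonoidAlgebra T M, IsGroupLikeElem T x ∧ mapRingHom M π x = y := by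
  classical
  have hy' := (isGroupLikeElem_groupAlg_iff y).mp hy
  choose e he hπe using fun g : M => hπ.lift (isIdempotentElem_coeff hy g)
  have hsupp : ∀ g, e g ≠ 0 → g ∈ y.coeff.support := fun g hg => Finsupp.mem_support_iff.mpr fun h0 =>
    hg (hπ.inj (he g) IsIdempotentElem.zero (by rw [hπe, h0, map_zero]))
  have horth : ∀ a b, e a * e b = if a = b then e a else 0 := fun a b => by
    split_ifs with h
    · subst h; exact (he a).eq
    · refine hπ.inj ((he a).mul (he b)) IsIdempotentElem.zero ?_
      rw [map_mul, hπe, hπe, hy'.1, if_neg h, map_zero]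
  refine ⟨MonoidAlgebra.ofCoeff (Finsupp.onFinset y.coeff.support e hsupp),
    (isGroupLikeElem_groupAlg_iff _).mpr ⟨?_, ?_⟩, ?_⟩
  · intro a b
    simpa using horth a b
  · rw [Finsupp.sum_of_support_subset _ (s := y.coeff.support) (by intro g; simpa using hsupp g) _ (fun _ _ => rfl)]
    simp only [MonoidAlgebra.coeff_ofCoeff, Finsupp.onFinset_apply]
    refine hπ.inj ?_ IsIdempotentElem.one ?_
    · rw [IsIdempotentElem, Finset.sum_mul_sum]
      refine Finset.sum_congr rfl fun a ha => ?_
      rw [Finset.sum_eq_single a (fun b _ hb => by rw [horth, if_neg (Ne.symm hb)]) (fun h => absurd ha h), (he a).eq]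
    · rw [map_sum, map_one, ← hy'.2, Finsupp.sum]
      exact Finset.sum_congr rfl fun g _ => hπe g
  · apply MonoidAlgebra.coeff_injective
    refine Finsupp.ext fun g => ?_
    simp [hπe]

end GrothLib.MultLocal
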