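import Groth.Agent.Lib.MultLocal.Torsion
import Mathlib.RingTheory.Flat.FaithfullyFlat.Algebra
import Mathlib.RingTheory.Spectrum.Prime.RingHom
import Mathlib.RingTheory.Localization.AtPrime.Basic
import Mathlib.RingTheory.RingHom.Flat

/-!
Over a local ring, a group with a frame after faithfully flat base change has one as soon as the kernel
of a separating power map has one.
-/

universe u

set_option linter.style.haveILetI false

open TensorProduct MonoidAlgebra

namespace GrothLib.MultLocal

variable {R : Type u} [CommRing R] {A : Type u} [CommRing A] [HopfAlgebra R A]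
  {R' : Type u} [CommRing R'] [Algebra R R'] {M : Type u} [CommGroup M]

theorem exists_frame_of_descended {g : M →* GroupLike R' (R' ⊗[R] A)} (hg : IsFrame g)
    {C : Type u} [CommRing C] [Bialgebra R C] (π : A →ₐc[R] C)
    (hmod : ∀ (K : Type u) [Field K] [Algebra R K] (f₁ f₂ : R' →ₐ[R] K),
        (∀ m, glProj π K (glMap A f₁ (g m)) = glProj π K (glMap A f₂ (g m))) →
        ∀ m, glMap A f₁ (g m) = glMap A f₂ (g m))
    (L : Type u) [CommRing L] [Algebra R L] {Q : Type u} [CommGroup Q]
    {h : Q →* GroupLike L (L ⊗[R] C)} (hh : IsFrame h)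
    (T : Type u) [CommRing T] [IsLocalRing T] [Algebra R T] [Algebra L T] [IsScalarTower R L T]
    [Module.FaithfullyFlat L T] (f₀ : R' →ₐ[R] T) :
    ∃ g₀ : M →* GroupLike L (L ⊗[R] A), IsFrame g₀ := by
  let g' := (glMap A f₀).comp g
  have hg' : IsFrame g' := hg.map f₀
  let j : L →ₐ[R] T := IsScalarTower.toAlgHom R L T
  have hh' : IsFrame ((glMap C j).comp h) := hh.map j
  let i₁ : T →ₐ[R] T ⊗[L] T := (Algebra.TensorProduct.includeLeft : T →ₐ[L] T ⊗[L] T).restrictScalars R
  let i₂ : T →ₐ[R] T ⊗[L] T := (Algebra.TensorProduct.includeRight : T →ₐ[L] T ⊗[L] T).restrictScalars R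
  have hij : i₁.comp j = i₂.comp j := AlgHom.ext fun l =>
    ((Algebra.TensorProduct.includeLeft : T →ₐ[L] T ⊗[L] T).commutes l).trans
      ((Algebra.TensorProduct.includeRight : T →ₐ[L] T ⊗[L] T).commutes l).symm
  have hproj : ∀ m, glMap (T' := T ⊗[L] T) C i₁ (glProj π T (g' m)) =
      glMap (T' := T ⊗[L] T) C i₂ (glProj π T (g' m)) := fun m => by
    obtain ⟨q, hq⟩ := hh'.surjective (glProj π T (g' m))
    rw [← hq]
    simp only [MonoidHom.comp_apply, glMap_glMap, hij]
  obtain ⟨g₀, hg₀, -⟩ := exists_frame_of_descent_tower L hg' fun m => by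
    change (glMap A i₁ (g' m)).val = (glMap A i₂ (g' m)).val
    refine congrArg GroupLike.val ((hg'.map i₁).ext_of_field fun K _ _ φ => ?_)
    change glMap A φ (glMap A i₁ (glMap A f₀ (g m))) = glMap A φ (glMap A i₂ (glMap A f₀ (g m)))
    simp only [glMap_glMap]
    refine hmod K _ _ (fun m' => ?_) m
    have h1 := congrArg (glMap C φ) (hproj m')
    simp only [g', MonoidHom.comp_apply, glProj_glMap, glMap_glMap, AlgHom.comp_assoc] at h1 ⊢
    exact h1
  exact ⟨g₀, hg₀⟩

theorem exists_frame_of_local [Module.FaithfullyFlat R R'] {g : M →* GroupLike R' (R' ⊗[R] A)} (hg : IsFrame g)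
    {C : Type u} [CommRing C] [Bialgebra R C] (π : A →ₐc[R] C)
    (hmod : ∀ (K : Type u) [Field K] [Algebra R K] (f₁ f₂ : R' →ₐ[R] K),
        (∀ m, glProj π K (glMap A f₁ (g m)) = glProj π K (glMap A f₂ (g m))) →
        ∀ m, glMap A f₁ (g m) = glMap A f₂ (g m))
    (L : Type u) [CommRing L] [IsLocalRing L] [Algebra R L] {Q : Type u} [CommGroup Q]
    {h : Q →* GroupLike L (L ⊗[R] C)} (hh : IsFrame h) :
    ∃ g₀ : M →* GroupLike L (L ⊗[R] A), IsFrame g₀ := by
  obtain ⟨P, hP⟩ := PrimeSpectrum.comap_surjective_of_faithfullyFlat (B := L ⊗[R] R')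
    ⟨IsLocalRing.maximalIdeal L, inferInstance⟩
  let T := Localization.AtPrime P.asIdeal
  have hmap : (IsLocalRing.maximalIdeal L).map (algebraMap L T) ≤ IsLocalRing.maximalIdeal T := by
    rw [IsScalarTower.algebraMap_eq L (L ⊗[R] R') T, ← Ideal.map_map]
    refine (Ideal.map_mono ?_).trans (Localization.AtPrime.map_eq_maximalIdeal).le
    rw [Ideal.map_le_iff_le_comap]
    exact (congrArg PrimeSpectrum.asIdeal hP).ge
  haveI : Module.Flat L T := Module.Flat.trans L (L ⊗[R] R') T
  haveI : IsLocalHom (algebraMap L T) := ((IsLocalRing.local_hom_TFAE (algebraMap L T)).out 0 2).mpr hmap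
  haveI : Module.FaithfullyFlat L T := Module.FaithfullyFlat.of_flat_of_isLocalHom
  let f₀ : R' →ₐ[R] T :=
    (IsScalarTower.toAlgHom R (L ⊗[R] R') T).comp Algebra.TensorProduct.includeRight
  exact exists_frame_of_descended hg π hmod L hh T f₀

end GrothLib.MultLocal
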