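import Groth.Agent.Lib.MultLocal.Torsion
import Groth.Agent.Lib.Hopf.Descent

/-!
Monomorphisms out of diagonalisable groups are closed immersions.
-/

universe u

set_option linter.style.haveILetI false

open TensorProduct MonoidAlgebra

namespace GrothLib.MultLocal

variable {T : Type u} [CommRing T] {C : Type u} [CommRing C] [HopfAlgebra T C] {M : Type u} [CommGroup M]

open GrothLib.Hopf in
theorem coeff_smul_single_mem_range (ψ : C →ₐc[T] MonoidAlgebra T M) (c : C) (m : M) :
    ∃ d, ψ d = single m ((ψ c).coeff m) := by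
  classical
  have hφ := CoalgHomClass.map_comp_comul_apply ψ c
  let G : MonoidAlgebra T M ⊗[T] MonoidAlgebra T M →ₗ[T] MonoidAlgebra T M :=
    (TensorProduct.rid T _).toLinearMap ∘ₗ (coeffAt m).lTensor _
  have hG : ∀ z : MonoidAlgebra T M, G (Coalgebra.comul z) = single m (z.coeff m) := by
    intro z
    induction z using MonoidAlgebra.induction_linear with
    | zero => simp
    | add x y hx hy => simp only [map_add, hx, hy, coeff_add, Finsupp.add_apply, single_add]
    | single a r =>
      rw [comul_single, CommSemiring.comul_apply, TensorProduct.map_tmul]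
      simp only [G, LinearMap.comp_apply, lsingle_apply, LinearMap.lTensor_tmul, LinearEquiv.coe_coe,
        TensorProduct.rid_tmul, coeffAt_single, coeff_single, Finsupp.single_apply]
      split_ifs with h
      · subst h; simp
      · simp
  refine ⟨((TensorProduct.rid T C).toLinearMap ∘ₗ ((coeffAt m) ∘ₗ (ψ : C →ₗc[T] MonoidAlgebra T M).toLinearMap).lTensor C)
    (Coalgebra.comul c), ?_⟩
  rw [← hG, ← hφ]
  induction Coalgebra.comul (R := T) c using TensorProduct.induction_on with
  | zero => simp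
  | tmul x y => simp [G]
  | add x y hx hy => simp only [map_add, hx, hy]

theorem antipode_single (m : M) (r : T) :
    HopfAlgebraStruct.antipode T (single m r : MonoidAlgebra T M) = single m⁻¹ r := by
  simp

/-- A monomorphism out of a diagonalisable group is a closed immersion. -/
theorem surjective_of_mono_groupAlg (ψ : C →ₐc[T] MonoidAlgebra T M)
    (hmono : ∀ (S : Type u) [CommRing S] [Algebra T S] (y₁ y₂ : MonoidAlgebra T M →ₐ[T] S),
      (∀ c, y₁ (ψ c) = y₂ (ψ c)) → y₁ = y₂) :
    Function.Surjective ψ := by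
  classical
  let I : M → Ideal T := fun m =>
    LinearMap.range ((GrothLib.Hopf.coeffAt m) ∘ₗ (ψ : C →ₗc[T] MonoidAlgebra T M).toLinearMap)
  have hmem : ∀ m (r : T), r ∈ I m → ∃ d, ψ d = single m r := by
    rintro m _ ⟨c, rfl⟩
    exact coeff_smul_single_mem_range ψ c m
  suffices h : ∀ m, I m = ⊤ by
    intro z
    induction z using MonoidAlgebra.induction_linear with
    | zero => exact ⟨0, map_zero ψ⟩
    | add x y hx hy =>
      obtain ⟨a, rfl⟩ := hx
      obtain ⟨b, rfl⟩ := hy
      exact ⟨a + b, map_add ψ a b⟩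
    | single m r => exact hmem m r (by rw [h m]; exact Submodule.mem_top)
  by_contra! hne
  obtain ⟨m₀, hm₀⟩ := hne
  obtain ⟨P, hP, hle⟩ := Ideal.exists_le_maximal _ hm₀
  have hne' : ∀ {m}, (¬ I m ≤ P) → ∃ c, (ψ c).coeff m ∉ P := fun {m} h => by
    by_contra! hc
    exact h (by rintro _ ⟨c, rfl⟩; exact hc c)
  let N : Subgroup M :=
    { carrier := {m | ¬ I m ≤ P}
      one_mem' := fun h => hP.ne_top ((Ideal.eq_top_iff_one P).mpr (h (show (1 : T) ∈ I 1 from
        ⟨1, show (ψ 1).coeff 1 = 1 by rw [map_one ψ]; simp [one_def]⟩)))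
      mul_mem' := fun {a b} ha hb h => by
        obtain ⟨c, hc⟩ := hne' ha
        obtain ⟨d, hd⟩ := hne' hb
        obtain ⟨c', hc'⟩ := coeff_smul_single_mem_range ψ c a
        obtain ⟨d', hd'⟩ := coeff_smul_single_mem_range ψ d b
        have : (ψ c).coeff a * (ψ d).coeff b ∈ P := h ⟨c' * d', show (ψ (c' * d')).coeff (a * b) = _ by
          rw [map_mul ψ, hc', hd', single_mul_single]; simp⟩
        exact (hP.isPrime.mem_or_mem this).elim hc hd
      inv_mem' := fun {a} ha h => by
        obtain ⟨c, hc⟩ := hne' ha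
        obtain ⟨c', hc'⟩ := coeff_smul_single_mem_range ψ c a
        refine hc (h ⟨HopfAlgebraStruct.antipode T c', show (ψ (HopfAlgebraStruct.antipode T c')).coeff a⁻¹ = _ from ?_⟩)
        have h1 : ψ (HopfAlgebraStruct.antipode T c') = HopfAlgebraStruct.antipode T (ψ c') :=
          (LinearMap.congr_fun (antipode_bialgHom ψ) c').symm
        rw [h1, hc', antipode_single]
        simp }
  have hm₀N : m₀ ∉ N := fun h => h hle
  letI : Field (T ⧸ P) := Ideal.Quotient.field P
  let S := MonoidAlgebra (T ⧸ P) (M ⧸ N)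
  let y₁ : MonoidAlgebra T M →ₐ[T] S := MonoidAlgebra.lift T S M 1
  let y₂ : MonoidAlgebra T M →ₐ[T] S := MonoidAlgebra.lift T S M ((of (T ⧸ P) (M ⧸ N)).comp (QuotientGroup.mk' N))
  have hy : ∀ c, y₁ (ψ c) = y₂ (ψ c) := by
    intro c
    rw [← MonoidAlgebra.sum_coeff_single (ψ c), Finsupp.sum, map_sum, map_sum]
    refine Finset.sum_congr rfl fun m _ => ?_
    simp only [y₁, y₂, lift_single, MonoidHom.one_apply, MonoidHom.comp_apply, QuotientGroup.mk'_apply]
    by_cases hm : m ∈ N
    · rw [(QuotientGroup.eq_one_iff m).mpr hm, map_one]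
    · have h0 : (ψ c).coeff m ∈ P := not_not.mp hm ⟨c, rfl⟩
      rw [Algebra.smul_def, Algebra.smul_def, IsScalarTower.algebraMap_apply T (T ⧸ P) S,
        show algebraMap T (T ⧸ P) ((ψ c).coeff m) = 0 from Ideal.Quotient.eq_zero_iff_mem.mpr h0,
        map_zero, MulZeroClass.zero_mul, MulZeroClass.zero_mul]
  have h := DFunLike.congr_fun (hmono S y₁ y₂ hy) (single m₀ 1)
  simp only [y₁, y₂, lift_single, MonoidHom.one_apply, MonoidHom.comp_apply, QuotientGroup.mk'_apply, one_smul] at h
  rw [← map_one (of (T ⧸ P) (M ⧸ N))] at h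
  have h2 := of_injective h
  exact hm₀N ((QuotientGroup.eq_one_iff m₀).mp h2.symm)

end GrothLib.MultLocal
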