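import Groth.Agent.Lib.MultLocal.Effective
import Groth.Agent.Lib.MultLocal.Glue
import Groth.Agent.Lib.MultLocal.Nil

/-!
Transition maps between frames of a family.
-/

universe u

set_option linter.style.haveILetI false
set_option maxSynthPendingDepth 3

open TensorProduct MonoidAlgebra

namespace GrothLib.MultLocal

variable {R : Type u} [CommRing R]

section Push

variable {S C : Type u} [CommRing S] [CommRing C] [Algebra R S] [Algebra R C] {M N : Type u} [CommGroup M] [CommGroup N]

theorem push_congr (φ : S →ₐ[R] C) (w : M →* MonoidAlgebra S N) (w' : M →* MonoidAlgebra C N)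
    (h : ∀ m, mapRingHom N (φ : S →+* C) (w m) = w' m) (x : MonoidAlgebra C M) :
    push φ w x = push (AlgHom.id R C) w' x := by
  induction x using MonoidAlgebra.induction_linear with
  | zero => simp
  | add x y hx hy => simp only [map_add, hx, hy]
  | single m r =>
    rw [push_single, push_single, h]
    refine congrArg (r • ·) (MonoidAlgebra.ext (Finsupp.ext fun n => ?_))
    simp

theorem isGroupLikeElem_push (φ : S →ₐ[R] C) {w : M →* MonoidAlgebra S N} (hw : ∀ m, IsGroupLikeElem S (w m))
    {x : MonoidAlgebra C M} (hx : IsGroupLikeElem C x) : IsGroupLikeElem C (push φ w x) := by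
  let g : M →* GroupLike C (MonoidAlgebra C N) :=
    { toFun := fun m => ⟨mapRingHom N (φ : S →+* C) (w m), isGroupLikeElem_mapRingHom _ (hw m)⟩
      map_one' := GroupLike.ext (by
        change mapRingHom N (φ : S →+* C) (w 1) = 1
        rw [map_one w]; exact map_one (mapRingHom N (φ : S →+* C)))
      map_mul' := fun a b => GroupLike.ext (by
        change mapRingHom N (φ : S →+* C) (w (a * b)) = _
        rw [map_mul w]; exact map_mul (mapRingHom N (φ : S →+* C)) _ _) }
  have h : ∀ z, glHom g z = push φ w z := by
    intro z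
    induction z using MonoidAlgebra.induction_linear with
    | zero => simp
    | add x y hx hy => simp only [map_add, hx, hy]
    | single m r => rw [glHom_single, push_single]; rfl
  rw [← h]
  exact hx.map (glHom g)

end Push

variable {A : Type u} [CommRing A] [Bialgebra R A] {ι : Type u} {E : ι → Type u} [∀ i, CommRing (E i)]
  [∀ i, Algebra R (E i)] {M : ι → Type u} [∀ i, CommGroup (M i)] {g : ∀ i, M i →* GroupLike (E i) (E i ⊗[R] A)}

/-- The change from one frame to another over a common target. -/
noncomputable def tr (hg : ∀ i, IsFrame (g i)) {C : Type u} [CommRing C] [Algebra R C] {i j : ι}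
    (a : E i →ₐ[R] C) (b : E j →ₐ[R] C) : M i →* MonoidAlgebra C (M j) where
  toFun m := ((hg j).map b).equiv.symm (glMap A a (g i m)).val
  map_one' := by
    rw [map_one (g i), map_one (glMap A a), GroupLike.val_one]
    exact map_one ((hg j).map b).equiv.symm
  map_mul' x y := by
    rw [map_mul (g i), map_mul (glMap A a), GroupLike.val_mul]
    exact map_mul ((hg j).map b).equiv.symm _ _

variable (hg : ∀ i, IsFrame (g i)) {C C' : Type u} [CommRing C] [Algebra R C] [CommRing C'] [Algebra R C'] {i j k : ι}

theorem glHom_tr (a : E i →ₐ[R] C) (b : E j →ₐ[R] C) (m : M i) :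
    glHom ((glMap A b).comp (g j)) (tr hg a b m) = (glMap A a (g i m)).val := by
  rw [← ((hg j).map b).equiv_apply]
  exact ((hg j).map b).equiv.apply_symm_apply _

theorem isGroupLikeElem_tr (a : E i →ₐ[R] C) (b : E j →ₐ[R] C) (m : M i) : IsGroupLikeElem C (tr hg a b m) := by
  refine (isGroupLikeElem_map_equiv ((hg j).map b).equiv).mp ?_
  rw [IsFrame.equiv_apply, glHom_tr]
  exact (glMap A a (g i m)).isGroupLikeElem_val

theorem glMap_comp_glMap (f : C →ₐ[R] C') (b : E j →ₐ[R] C) :
    (glMap A f).comp ((glMap A b).comp (g j)) = (glMap A (f.comp b)).comp (g j) :=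
  MonoidHom.ext fun m => glMap_glMap b f (g j m)

theorem mapRingHom_tr (f : C →ₐ[R] C') (a : E i →ₐ[R] C) (b : E j →ₐ[R] C) (m : M i) :
    mapRingHom (M j) (f : C →+* C') (tr hg a b m) = tr hg (f.comp a) (f.comp b) m := by
  apply ((hg j).map (f.comp b)).1
  rw [glHom_tr, ← glMap_comp_glMap, glHom_glMap, glHom_tr, ← glMap_val, glMap_glMap]

theorem glHom_push_tr (a : E i →ₐ[R] C) (b : E j →ₐ[R] C) (x : MonoidAlgebra C (M i)) :
    glHom ((glMap A b).comp (g j)) (push (AlgHom.id R C) (tr hg a b) x) = glHom ((glMap A a).comp (g i)) x := by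
  induction x using MonoidAlgebra.induction_linear with
  | zero => simp
  | add x y hx hy => simp only [map_add, hx, hy]
  | single m r =>
    rw [push_single, map_smul, glHom_single,
      show mapRingHom (M j) ((AlgHom.id R C : C →ₐ[R] C) : C →+* C) (tr hg a b m) = tr hg a b m from
        MonoidAlgebra.ext (Finsupp.ext fun n => by simp), glHom_tr]
    rfl

theorem tr_self (a : E i →ₐ[R] C) (m : M i) : tr hg a a m = single m 1 := by
  apply ((hg i).map a).1
  rw [glHom_tr, glHom_single, one_smul]
  rfl

theorem tr_trans (a : E i →ₐ[R] C) (b : E j →ₐ[R] C) (c : E k →ₐ[R] C) (m : M i) :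
    push (AlgHom.id R C) (tr hg b c) (tr hg a b m) = tr hg a c m := by
  apply ((hg k).map c).1
  rw [glHom_push_tr, glHom_tr, glHom_tr]

end GrothLib.MultLocal
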