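import Groth.Agent.Lib.MultLocal.EffectiveNil
import Groth.Agent.Lib.MultLocal.IdemLift

/-!
Descent data lifted along surjections lifting idempotents, in particular over henselian pairs.
-/

universe u

set_option linter.style.haveILetI false
set_option maxSynthPendingDepth 3

open TensorProduct MonoidAlgebra

namespace GrothLib.MultLocal

variable {R R₀ : Type u} [CommRing R] [CommRing R₀] [Algebra R R₀]

section Red2

variable {T₁ T₂ E₁ E₂ : Type u} [CommRing T₁] [CommRing T₂] [CommRing E₁] [CommRing E₂] [Algebra R T₁] [Algebra R T₂]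
  [Algebra R E₁] [Algebra R E₂] [Algebra R₀ E₁] [Algebra R₀ E₂] [IsScalarTower R R₀ E₁] [IsScalarTower R R₀ E₂]

variable (R₀) in
/-- The reduction of a tensor product of two algebras. -/
noncomputable def red2 (π₁ : T₁ →ₐ[R] E₁) (π₂ : T₂ →ₐ[R] E₂) : T₁ ⊗[R] T₂ →ₐ[R] E₁ ⊗[R₀] E₂ :=
  pair (((Algebra.TensorProduct.includeLeft : E₁ →ₐ[R₀] E₁ ⊗[R₀] E₂).restrictScalars R).comp π₁)
    (((Algebra.TensorProduct.includeRight : E₂ →ₐ[R₀] E₁ ⊗[R₀] E₂).restrictScalars R).comp π₂)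

theorem red2_tmul (π₁ : T₁ →ₐ[R] E₁) (π₂ : T₂ →ₐ[R] E₂) (x : T₁) (y : T₂) :
    red2 R₀ π₁ π₂ (x ⊗ₜ y) = π₁ x ⊗ₜ π₂ y := by
  rw [red2, pair_tmul]
  simp

theorem red2_surjective (π₁ : T₁ →ₐ[R] E₁) (π₂ : T₂ →ₐ[R] E₂) (h₁ : Function.Surjective π₁)
    (h₂ : Function.Surjective π₂) : Function.Surjective (red2 R₀ π₁ π₂) := by
  intro z
  induction z using TensorProduct.induction_on with
  | zero => exact ⟨0, map_zero _⟩
  | add x y hx hy =>
    obtain ⟨a, rfl⟩ := hx
    obtain ⟨b, rfl⟩ := hy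
    exact ⟨a + b, map_add _ _ _⟩
  | tmul x y =>
    obtain ⟨a, rfl⟩ := h₁ x
    obtain ⟨b, rfl⟩ := h₂ y
    exact ⟨a ⊗ₜ b, red2_tmul π₁ π₂ a b⟩

variable {I : Ideal R}

theorem red2_ker (hs : Function.Surjective (algebraMap R R₀)) (hI : RingHom.ker (algebraMap R R₀) = I)
    (π₁ : T₁ →ₐ[R] E₁) (π₂ : T₂ →ₐ[R] E₂) (h₁ : Function.Surjective π₁) (h₂ : Function.Surjective π₂)
    (k₁ : RingHom.ker (π₁ : T₁ →+* E₁) = I.map (algebraMap R T₁))
    (k₂ : RingHom.ker (π₂ : T₂ →+* E₂) = I.map (algebraMap R T₂)) :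
    RingHom.ker (red2 R₀ π₁ π₂ : T₁ ⊗[R] T₂ →+* E₁ ⊗[R₀] E₂) = I.map (algebraMap R (T₁ ⊗[R] T₂)) := by
  refine le_antisymm ?_ (Ideal.map_le_iff_le_comap.mpr fun x hx => ?_)
  · let Q := (T₁ ⊗[R] T₂) ⧸ I.map (algebraMap R (T₁ ⊗[R] T₂))
    have hle : RingHom.ker (algebraMap R R₀) ≤ RingHom.ker (algebraMap R Q) := fun a ha => by
      rw [RingHom.mem_ker, IsScalarTower.algebraMap_apply R (T₁ ⊗[R] T₂) Q, Ideal.Quotient.algebraMap_eq,
        Ideal.Quotient.eq_zero_iff_mem]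
      exact Ideal.mem_map_of_mem _ (hI ▸ ha)
    let χ : R₀ →+* Q := RingHom.liftOfSurjective (algebraMap R R₀) hs ⟨algebraMap R Q, hle⟩
    letI : Algebra R₀ Q := χ.toAlgebra
    haveI : IsScalarTower R R₀ Q := IsScalarTower.of_algebraMap_eq fun r =>
      (RingHom.liftOfRightInverse_comp_apply _ _ (Function.rightInverse_surjInv hs) ⟨algebraMap R Q, hle⟩ r).symm
    have hfac : ∀ {T E : Type u} [CommRing T] [CommRing E] [Algebra R T] [Algebra R E] [Algebra R₀ E]
        [IsScalarTower R R₀ E] (π : T →ₐ[R] E) (_ : Function.Surjective π)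
        (_ : RingHom.ker (π : T →+* E) = I.map (algebraMap R T)) (j : T →ₐ[R] Q),
        ∃ j₀ : E →ₐ[R₀] Q, ∀ x, j₀ (π x) = j x := by
      intro T E _ _ _ _ _ _ π hπ k j
      have hle' : RingHom.ker (π : T →+* E) ≤ RingHom.ker (j : T →+* Q) := by
        rw [k, Ideal.map_le_iff_le_comap]
        intro a ha
        rw [Ideal.mem_comap, RingHom.mem_ker]
        change j (algebraMap R T a) = 0
        rw [j.commutes]
        exact RingHom.mem_ker.mp (hle (hI.symm ▸ ha))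
      let ω : E →+* Q := RingHom.liftOfSurjective (π : T →+* E) hπ ⟨(j : T →+* Q), hle'⟩
      have hω : ∀ x, ω (π x) = j x :=
        RingHom.liftOfRightInverse_comp_apply _ _ (Function.rightInverse_surjInv hπ) ⟨(j : T →+* Q), hle'⟩
      refine ⟨⟨ω, fun r₀ => ?_⟩, hω⟩
      obtain ⟨r, rfl⟩ := hs r₀
      change ω (algebraMap R₀ E (algebraMap R R₀ r)) = _
      rw [← IsScalarTower.algebraMap_apply, ← IsScalarTower.algebraMap_apply, ← π.commutes, hω, j.commutes]
    obtain ⟨a, ha⟩ := hfac π₁ h₁ k₁ ((Ideal.Quotient.mkₐ R _).comp Algebra.TensorProduct.includeLeft)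
    obtain ⟨b, hb⟩ := hfac π₂ h₂ k₂ ((Ideal.Quotient.mkₐ R _).comp Algebra.TensorProduct.includeRight)
    let ψ : E₁ ⊗[R₀] E₂ →ₐ[R₀] Q := pair a b
    have h : ∀ z, ψ (red2 R₀ π₁ π₂ z) = Ideal.Quotient.mk _ z := by
      intro z
      induction z using TensorProduct.induction_on with
      | zero => simp
      | add x y hx hy => simp only [map_add, hx, hy]
      | tmul x y =>
        rw [red2_tmul, pair_tmul, ha, hb]
        change Ideal.Quotient.mk _ (x ⊗ₜ 1) * Ideal.Quotient.mk _ (1 ⊗ₜ y) = _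
        rw [← map_mul, Algebra.TensorProduct.tmul_mul_tmul, _root_.mul_one, _root_.one_mul]
    intro z hz
    have h' := h z
    rw [show red2 R₀ π₁ π₂ z = 0 from hz, map_zero] at h'
    exact Ideal.Quotient.eq_zero_iff_mem.mp h'.symm
  · rw [Ideal.mem_comap, RingHom.mem_ker]
    change red2 R₀ π₁ π₂ (algebraMap R (T₁ ⊗[R] T₂) x) = 0
    rw [AlgHom.commutes, IsScalarTower.algebraMap_apply R R₀ (E₁ ⊗[R₀] E₂),
      RingHom.mem_ker.mp (hI.symm ▸ hx : x ∈ RingHom.ker (algebraMap R R₀)), map_zero]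

end Red2

variable {A : Type u} [CommRing A] [HopfAlgebra R₀ A] {ι : Type u} [Fintype ι] {T E : ι → Type u}
  [∀ i, CommRing (T i)] [∀ i, CommRing (E i)] [∀ i, Algebra R (T i)] [∀ i, Algebra R (E i)] [∀ i, Algebra R₀ (E i)]
  [∀ i, IsScalarTower R R₀ (E i)] {M : ι → Type u} [∀ i, CommGroup (M i)]
  {g : ∀ i, M i →* GroupLike (E i) (E i ⊗[R₀] A)}

/-- A framed Hopf algebra lifts along surjections lifting idempotents. -/
theorem exists_lift_of_frames_bij [Module.FaithfullyFlat R (∀ i, T i)] [Module.FaithfullyFlat R₀ (∀ i, E i)]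
    (hs : Function.Surjective (algebraMap R R₀)) (π : ∀ i, T i →ₐ[R] E i)
    (h1 : ∀ i, IdemBij (π i : T i →+* E i))
    (h2 : ∀ i j, IdemBij (red2 R₀ (π i) (π j) : T i ⊗[R] T j →+* E i ⊗[R₀] E j))
    (h3 : ∀ i j k, IdemBij
      (red2 R₀ (π i) (red2 R₀ (π j) (π k)) : T i ⊗[R] (T j ⊗[R] T k) →+* E i ⊗[R₀] (E j ⊗[R₀] E k)))
    (hg : ∀ i, IsFrame (g i)) :
    ∃ (B : Type u) (_ : CommRing B) (_ : HopfAlgebra R B),
      (∀ i, ∃ f : M i →* GroupLike (T i) (T i ⊗[R] B), IsFrame f) ∧ Nonempty ((R₀ ⊗[R] B) ≃ₐc[R₀] A) := by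
  choose x hx hxy using fun i j m => (h2 i j).exists_lift (isGroupLikeElem_tr hg
    (Algebra.TensorProduct.includeLeft : E i →ₐ[R₀] E i ⊗[R₀] E j)
    (Algebra.TensorProduct.includeRight : E j →ₐ[R₀] E i ⊗[R₀] E j) m)
  let w : ∀ i j, M i →* MonoidAlgebra (T i ⊗[R] T j) (M j) := fun i j =>
    { toFun := x i j
      map_one' := (h2 i j).groupLike_ext (hx i j 1) IsGroupLikeElem.one (by
        rw [hxy, map_one (tr hg _ _), map_one (mapRingHom (M j) _)])
      map_mul' := fun p q => (h2 i j).groupLike_ext (hx i j _) ((hx i j p).mul (hx i j q)) (by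
        rw [hxy, map_mul (tr hg _ _), map_mul (mapRingHom (M j) _), hxy, hxy]) }
  have hkey : ∀ i j (C : Type u) [CommRing C] [Algebra R C] [Algebra R₀ C] [IsScalarTower R R₀ C] (a : E i →ₐ[R₀] C)
      (b : E j →ₐ[R₀] C) (m : M i),
      mapRingHom (M j) (pair ((a.restrictScalars R).comp (π i)) ((b.restrictScalars R).comp (π j)) : T i ⊗[R] T j →+* C)
        (w i j m) = tr hg a b m := by
    intro i j C _ _ _ _ a b m
    rw [show pair ((a.restrictScalars R).comp (π i)) ((b.restrictScalars R).comp (π j)) =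
      ((pair a b).restrictScalars R).comp (red2 R₀ (π i) (π j)) from Algebra.TensorProduct.ext' fun p q => by
        simp [red2_tmul], ← mapRingHom_mapRingHom]
    change mapRingHom (M j) ((pair a b : E i ⊗[R₀] E j →ₐ[R₀] C) : E i ⊗[R₀] E j →+* C)
      (mapRingHom (M j) _ (x i j m)) = _
    rw [hxy, mapRingHom_tr, show (pair a b).comp Algebra.TensorProduct.includeLeft = a from AlgHom.ext fun z => by simp,
      show (pair a b).comp Algebra.TensorProduct.includeRight = b from AlgHom.ext fun z => by simp]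
  refine exists_lift_of_datum hs π hg w hx (fun i m => ?_) (fun i j k C _ _ a b c m => ?_) hkey
  · refine (h1 i).groupLike_ext (isGroupLikeElem_mapRingHom _ (hx i i m)) (isGroupLikeElem_single_one m) ?_
    rw [mapRingHom_mapRingHom, comp_pair, AlgHom.comp_id,
      show pair (π i) (π i) = pair (((AlgHom.id R₀ (E i)).restrictScalars R).comp (π i))
        (((AlgHom.id R₀ (E i)).restrictScalars R).comp (π i)) from rfl,
      hkey i i (E i) (AlgHom.id R₀ (E i)) (AlgHom.id R₀ (E i)) m, tr_self, mapRingHom_single, map_one]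
  · let U := T i ⊗[R] (T j ⊗[R] T k)
    let U₀ := E i ⊗[R₀] (E j ⊗[R₀] E k)
    let a₁ : T i →ₐ[R] U := Algebra.TensorProduct.includeLeft
    let b₁ : T j →ₐ[R] U := (Algebra.TensorProduct.includeRight : T j ⊗[R] T k →ₐ[R] U).comp Algebra.TensorProduct.includeLeft
    let c₁ : T k →ₐ[R] U := (Algebra.TensorProduct.includeRight : T j ⊗[R] T k →ₐ[R] U).comp Algebra.TensorProduct.includeRight
    let a₀ : E i →ₐ[R₀] U₀ := Algebra.TensorProduct.includeLeft
    let b₀ : E j →ₐ[R₀] U₀ := (Algebra.TensorProduct.includeRight : E j ⊗[R₀] E k →ₐ[R₀] U₀).comp Algebra.TensorProduct.includeLeft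
    let c₀ : E k →ₐ[R₀] U₀ := (Algebra.TensorProduct.includeRight : E j ⊗[R₀] E k →ₐ[R₀] U₀).comp Algebra.TensorProduct.includeRight
    let σ := red2 R₀ (π i) (red2 R₀ (π j) (π k))
    have ha : σ.comp a₁ = (a₀.restrictScalars R).comp (π i) := AlgHom.ext fun z => by
      change red2 R₀ (π i) (red2 R₀ (π j) (π k)) (z ⊗ₜ 1) = _
      rw [red2_tmul, map_one]
      rfl
    have hb : σ.comp b₁ = (b₀.restrictScalars R).comp (π j) := AlgHom.ext fun z => by
      change red2 R₀ (π i) (red2 R₀ (π j) (π k)) (1 ⊗ₜ (z ⊗ₜ 1)) = _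
      rw [red2_tmul, red2_tmul, map_one, map_one]
      rfl
    have hc : σ.comp c₁ = (c₀.restrictScalars R).comp (π k) := AlgHom.ext fun z => by
      change red2 R₀ (π i) (red2 R₀ (π j) (π k)) (1 ⊗ₜ (1 ⊗ₜ z)) = _
      rw [red2_tmul, red2_tmul, map_one, map_one]
      rfl
    have huniv : push (pair b₁ c₁) (w j k) (mapRingHom (M j) (pair a₁ b₁ : T i ⊗[R] T j →+* U) (w i j m)) =
        mapRingHom (M k) (pair a₁ c₁ : T i ⊗[R] T k →+* U) (w i k m) := by
      refine (h3 i j k).groupLike_ext (isGroupLikeElem_push _ (hx j k) (isGroupLikeElem_mapRingHom _ (hx i j m)))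
        (isGroupLikeElem_mapRingHom _ (hx i k m)) ?_
      rw [mapRingHom_push, mapRingHom_mapRingHom, mapRingHom_mapRingHom, comp_pair, comp_pair, comp_pair,
        ha, hb, hc, hkey i j U₀ a₀ b₀ m, hkey i k U₀ a₀ c₀ m,
        push_congr _ (w j k) (tr hg b₀ c₀) (fun n => hkey j k U₀ b₀ c₀ n)]
      exact ((push_congr ((AlgHom.id R₀ U₀).restrictScalars R) _ (tr hg b₀ c₀)
        (fun n => MonoidAlgebra.ext (Finsupp.ext fun _ => by simp)) _).symm.trans rfl).trans (tr_trans hg a₀ b₀ c₀ m)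
    let ψ : U →ₐ[R] C := pair a (pair b c)
    have h := congrArg (mapRingHom (M k) (ψ : U →+* C)) huniv
    rw [mapRingHom_push, mapRingHom_mapRingHom, mapRingHom_mapRingHom, comp_pair, comp_pair, comp_pair,
      show ψ.comp a₁ = a from AlgHom.ext fun z => by
        change pair a (pair b c) (z ⊗ₜ 1) = _
        rw [pair_tmul, map_one, _root_.mul_one],
      show ψ.comp b₁ = b from AlgHom.ext fun z => by
        change pair a (pair b c) (1 ⊗ₜ (z ⊗ₜ 1)) = _
        rw [pair_tmul, pair_tmul, map_one, map_one, _root_.mul_one, _root_.one_mul],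
      show ψ.comp c₁ = c from AlgHom.ext fun z => by
        change pair a (pair b c) (1 ⊗ₜ (1 ⊗ₜ z)) = _
        rw [pair_tmul, pair_tmul, map_one, map_one, _root_.one_mul, _root_.one_mul]] at h
    exact h

end GrothLib.MultLocal
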