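import Groth.Agent.Lib.MultLocal.Trans
import Mathlib.RingTheory.Nilpotent.Lemmas
import Mathlib.RingTheory.TensorProduct.Quotient

/-!
Transition maps lifted along nilpotent thickenings.
-/

universe u

set_option linter.style.haveILetI false
set_option maxSynthPendingDepth 3

open TensorProduct MonoidAlgebra

namespace GrothLib.MultLocal

variable {R R₀ : Type u} [CommRing R] [CommRing R₀] [Algebra R R₀]

theorem exists_red (hs : Function.Surjective (algebraMap R R₀))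
    (hnil : ∀ a ∈ RingHom.ker (algebraMap R R₀), IsNilpotent a) (C : Type u) [CommRing C] [Algebra R C] :
    ∃ (C₀ : Type u) (_ : CommRing C₀) (_ : Algebra R C₀) (_ : Algebra R₀ C₀) (_ : IsScalarTower R R₀ C₀)
      (ρ : C →ₐ[R] C₀), IsReduced C₀ ∧ Function.Surjective ρ ∧ ∀ a ∈ RingHom.ker (ρ : C →+* C₀), IsNilpotent a := by
  let C₀ := C ⧸ nilradical C
  have hred : IsReduced C₀ :=
    (Ideal.isRadical_iff_quotient_reduced _).mp (Ideal.radical_isRadical (0 : Ideal C))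
  let φ : R →+* C₀ := algebraMap R C₀
  have hle : RingHom.ker (algebraMap R R₀) ≤ RingHom.ker φ := fun a ha =>
    RingHom.mem_ker.mpr ((hred.eq_zero _ ((hnil a ha).map φ)))
  let χ : R₀ →+* C₀ := RingHom.liftOfSurjective (algebraMap R R₀) hs ⟨φ, hle⟩
  letI : Algebra R₀ C₀ := χ.toAlgebra
  haveI : IsScalarTower R R₀ C₀ := IsScalarTower.of_algebraMap_eq fun r =>
    (RingHom.liftOfRightInverse_comp_apply _ _ (Function.rightInverse_surjInv hs) ⟨φ, hle⟩ r).symm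
  exact ⟨C₀, inferInstance, inferInstance, inferInstance, inferInstance, Ideal.Quotient.mkₐ R _, hred,
    Ideal.Quotient.mk_surjective, fun a ha =>
      mem_nilradical.mp (Ideal.Quotient.eq_zero_iff_mem.mp (RingHom.mem_ker.mp ha))⟩

variable {P P₀ : Type u} [CommRing P] [CommRing P₀] [Algebra R P] [Algebra R P₀] [Algebra R₀ P₀] [IsScalarTower R R₀ P₀]

theorem exists_factor (hs : Function.Surjective (algebraMap R R₀)) (π : P →ₐ[R] P₀) (hπ : Function.Surjective π)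
    (hnil : ∀ a ∈ RingHom.ker (π : P →+* P₀), IsNilpotent a) {C : Type u} [CommRing C] [Algebra R C] [Algebra R₀ C]
    [IsScalarTower R R₀ C] [IsReduced C] (a : P →ₐ[R] C) : ∃ a₀ : P₀ →ₐ[R₀] C, ∀ x, a₀ (π x) = a x := by
  have hle : RingHom.ker (π : P →+* P₀) ≤ RingHom.ker (a : P →+* C) := fun x hx =>
    RingHom.mem_ker.mpr (IsReduced.eq_zero _ ((hnil x hx).map (a : P →+* C)))
  let χ : P₀ →+* C := RingHom.liftOfSurjective (π : P →+* P₀) hπ ⟨(a : P →+* C), hle⟩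
  have hχ : ∀ x, χ (π x) = a x := RingHom.liftOfRightInverse_comp_apply _ _ (Function.rightInverse_surjInv hπ) ⟨(a : P →+* C), hle⟩
  refine ⟨⟨χ, fun r₀ => ?_⟩, hχ⟩
  obtain ⟨r, rfl⟩ := hs r₀
  change χ (algebraMap R₀ P₀ (algebraMap R R₀ r)) = _
  rw [← IsScalarTower.algebraMap_apply, ← IsScalarTower.algebraMap_apply, ← π.commutes, hχ, a.commutes]

theorem algHom_ext_surjective (π : P →ₐ[R] P₀) (hπ : Function.Surjective π) {C : Type u} [CommRing C] [Algebra R₀ C]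
    {f f' : P₀ →ₐ[R₀] C} (h : ∀ x, f (π x) = f' (π x)) : f = f' := by
  refine AlgHom.ext fun y => ?_
  obtain ⟨x, rfl⟩ := hπ y
  exact h x

variable {A : Type u} [CommRing A] [Bialgebra R₀ A] {ι : Type u} {T E : ι → Type u} [∀ i, CommRing (T i)]
  [∀ i, CommRing (E i)] [∀ i, Algebra R (T i)] [∀ i, Algebra R (E i)] [∀ i, Algebra R₀ (E i)]
  [∀ i, IsScalarTower R R₀ (E i)] {M : ι → Type u} [∀ i, CommGroup (M i)]
  {g : ∀ i, M i →* GroupLike (E i) (E i ⊗[R₀] A)}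

/-- The lifted transition map. -/
theorem exists_transition (hs : Function.Surjective (algebraMap R R₀))
    (hnil : ∀ a ∈ RingHom.ker (algebraMap R R₀), IsNilpotent a) (π : ∀ i, T i →ₐ[R] E i)
    (hπ : ∀ i, Function.Surjective (π i)) (hπnil : ∀ i, ∀ a ∈ RingHom.ker (π i : T i →+* E i), IsNilpotent a)
    (hg : ∀ i, IsFrame (g i)) (i j : ι) :
    ∃ w : M i →* MonoidAlgebra (T i ⊗[R] T j) (M j), (∀ m, IsGroupLikeElem (T i ⊗[R] T j) (w m)) ∧
      ∀ (C : Type u) [CommRing C] [Algebra R C] [Algebra R₀ C] [IsScalarTower R R₀ C] (a : E i →ₐ[R₀] C)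
        (b : E j →ₐ[R₀] C) (m : M i),
        mapRingHom (M j) (pair ((a.restrictScalars R).comp (π i)) ((b.restrictScalars R).comp (π j)) : T i ⊗[R] T j →+* C)
          (w m) = tr hg a b m := by
  obtain ⟨P₀, _, _, _, _, ρ, hP₀, hρ, hρnil⟩ := exists_red hs hnil (T i ⊗[R] T j)
  obtain ⟨a₀, ha₀⟩ := exists_factor hs (π i) (hπ i) (hπnil i) (ρ.comp Algebra.TensorProduct.includeLeft)
  obtain ⟨b₀, hb₀⟩ := exists_factor hs (π j) (hπ j) (hπnil j) (ρ.comp Algebra.TensorProduct.includeRight)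
  choose x hx hxy using fun m => exists_groupLike_lift (ρ : T i ⊗[R] T j →+* P₀) hρ hρnil
    (isGroupLikeElem_tr hg a₀ b₀ m)
  let w : M i →* MonoidAlgebra (T i ⊗[R] T j) (M j) :=
    { toFun := x
      map_one' := eq_of_mapRingHom_eq _ hρnil (hx 1) IsGroupLikeElem.one (by
        rw [hxy, map_one (tr hg a₀ b₀), map_one (mapRingHom (M j) (ρ : T i ⊗[R] T j →+* P₀))])
      map_mul' := fun p q => eq_of_mapRingHom_eq _ hρnil (hx _) ((hx p).mul (hx q)) (by
        rw [hxy, map_mul (tr hg a₀ b₀), map_mul (mapRingHom (M j) (ρ : T i ⊗[R] T j →+* P₀)), hxy, hxy]) }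
  refine ⟨w, hx, fun C _ _ _ _ a b m => ?_⟩
  obtain ⟨C₀, _, _, _, _, σ, hC₀, hσ, hσnil⟩ := exists_red hs hnil C
  let σ₀ : C →ₐ[R₀] C₀ := ⟨σ.toRingHom, fun r₀ => by
    obtain ⟨r, rfl⟩ := hs r₀
    change σ (algebraMap R₀ C (algebraMap R R₀ r)) = _
    rw [← IsScalarTower.algebraMap_apply, ← IsScalarTower.algebraMap_apply, σ.commutes]⟩
  let p := pair ((a.restrictScalars R).comp (π i)) ((b.restrictScalars R).comp (π j))
  obtain ⟨ψ, hψ⟩ := exists_factor hs ρ hρ hρnil (σ.comp p)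
  refine eq_of_mapRingHom_eq (σ : C →+* C₀) hσnil (isGroupLikeElem_mapRingHom _ (hx m))
    (isGroupLikeElem_tr hg a b m) ?_
  change mapRingHom (M j) (σ : C →+* C₀) (mapRingHom (M j) (p : T i ⊗[R] T j →+* C) (x m)) = _
  rw [mapRingHom_mapRingHom, show σ.comp p = (ψ.restrictScalars R).comp ρ from AlgHom.ext fun z => (hψ z).symm,
    ← mapRingHom_mapRingHom, hxy, show (σ : C →+* C₀) = ((σ₀ : C →ₐ[R₀] C₀) : C →+* C₀) from rfl, mapRingHom_tr]
  change mapRingHom (M j) (ψ : P₀ →+* C₀) _ = _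
  rw [mapRingHom_tr]
  congr 2
  · refine algHom_ext_surjective (π i) (hπ i) fun z => ?_
    change ψ (a₀ (π i z)) = σ (a (π i z))
    rw [ha₀]
    change ψ (ρ (z ⊗ₜ 1)) = _
    rw [hψ]
    simp [p]
  · refine algHom_ext_surjective (π j) (hπ j) fun z => ?_
    change ψ (b₀ (π j z)) = σ (b (π j z))
    rw [hb₀]
    change ψ (ρ (1 ⊗ₜ z)) = _
    rw [hψ]
    simp [p]

/-- Descent data lift along nilpotent thickenings. -/
theorem exists_datum (hs : Function.Surjective (algebraMap R R₀))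
    (hnil : ∀ a ∈ RingHom.ker (algebraMap R R₀), IsNilpotent a) (π : ∀ i, T i →ₐ[R] E i)
    (hπ : ∀ i, Function.Surjective (π i)) (hπnil : ∀ i, ∀ a ∈ RingHom.ker (π i : T i →+* E i), IsNilpotent a)
    (hg : ∀ i, IsFrame (g i)) :
    ∃ w : ∀ i j, M i →* MonoidAlgebra (T i ⊗[R] T j) (M j),
      (∀ i j m, IsGroupLikeElem (T i ⊗[R] T j) (w i j m)) ∧
      (∀ i m, mapRingHom (M i) (pair (AlgHom.id R (T i)) (AlgHom.id R (T i)) : T i ⊗[R] T i →+* T i) (w i i m) = single m 1) ∧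
      (∀ i j k (C : Type u) [CommRing C] [Algebra R C] (a : T i →ₐ[R] C) (b : T j →ₐ[R] C) (c : T k →ₐ[R] C) (m : M i),
        push (pair b c) (w j k) (mapRingHom (M j) (pair a b : T i ⊗[R] T j →+* C) (w i j m)) =
          mapRingHom (M k) (pair a c : T i ⊗[R] T k →+* C) (w i k m)) ∧
      ∀ i j (C : Type u) [CommRing C] [Algebra R C] [Algebra R₀ C] [IsScalarTower R R₀ C] (a : E i →ₐ[R₀] C)
        (b : E j →ₐ[R₀] C) (m : M i),
        mapRingHom (M j) (pair ((a.restrictScalars R).comp (π i)) ((b.restrictScalars R).comp (π j)) : T i ⊗[R] T j →+* C)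
          (w i j m) = tr hg a b m := by
  choose w hw hkey using fun i j => exists_transition hs hnil π hπ hπnil hg i j
  have hred : ∀ i j (C : Type u) [CommRing C] [Algebra R C] [Algebra R₀ C] [IsScalarTower R R₀ C] [IsReduced C]
      (a : T i →ₐ[R] C) (b : T j →ₐ[R] C) (a₀ : E i →ₐ[R₀] C) (b₀ : E j →ₐ[R₀] C) (m : M i),
      (∀ x, a₀ (π i x) = a x) → (∀ x, b₀ (π j x) = b x) →
      mapRingHom (M j) (pair a b : T i ⊗[R] T j →+* C) (w i j m) = tr hg a₀ b₀ m := by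
    intro i j C _ _ _ _ _ a b a₀ b₀ m ha hb
    rw [← hkey i j C a₀ b₀ m, show (a₀.restrictScalars R).comp (π i) = a from AlgHom.ext ha,
      show (b₀.restrictScalars R).comp (π j) = b from AlgHom.ext hb]
  refine ⟨w, hw, fun i m => ?_, fun i j k C _ _ a b c m => ?_, hkey⟩
  · obtain ⟨C₀, _, _, _, _, σ, hC₀, hσ, hσnil⟩ := exists_red hs hnil (T i)
    obtain ⟨a₀, ha₀⟩ := exists_factor hs (π i) (hπ i) (hπnil i) σ
    refine eq_of_mapRingHom_eq (σ : T i →+* C₀) hσnil (isGroupLikeElem_mapRingHom _ (hw i i m))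
      (isGroupLikeElem_single_one m) ?_
    rw [mapRingHom_mapRingHom, comp_pair, AlgHom.comp_id, hred i i C₀ σ σ a₀ a₀ m ha₀ ha₀, tr_self, mapRingHom_single,
      map_one]
  · obtain ⟨C₀, _, _, _, _, σ, hC₀, hσ, hσnil⟩ := exists_red hs hnil C
    obtain ⟨a₀, ha₀⟩ := exists_factor hs (π i) (hπ i) (hπnil i) (σ.comp a)
    obtain ⟨b₀, hb₀⟩ := exists_factor hs (π j) (hπ j) (hπnil j) (σ.comp b)
    obtain ⟨c₀, hc₀⟩ := exists_factor hs (π k) (hπ k) (hπnil k) (σ.comp c)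
    refine eq_of_mapRingHom_eq (σ : C →+* C₀) hσnil
      (isGroupLikeElem_push _ (hw j k) (isGroupLikeElem_mapRingHom _ (hw i j m)))
      (isGroupLikeElem_mapRingHom _ (hw i k m)) ?_
    rw [mapRingHom_push, mapRingHom_mapRingHom, mapRingHom_mapRingHom, comp_pair, comp_pair, comp_pair,
      hred i j C₀ _ _ a₀ b₀ m ha₀ hb₀, hred i k C₀ _ _ a₀ c₀ m ha₀ hc₀]
    rw [push_congr _ (w j k) (tr hg b₀ c₀) (fun n => hred j k C₀ _ _ b₀ c₀ n hb₀ hc₀)]
    exact ((push_congr ((AlgHom.id R₀ C₀).restrictScalars R) _ (tr hg b₀ c₀) (fun n => MonoidAlgebra.ext (Finsupp.ext fun _ => by simp)) _).symm.trans rfl).trans (tr_trans hg a₀ b₀ c₀ m)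

end GrothLib.MultLocal
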